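import Mathlib

/-!
# Kernel-checkable certificates for coset enumerations (index upper bounds)

A certificate lists *names* (words defined by `name = parent * letter`), *facts*
`(src, label, dst)` meaning `H * ρ src * val label = H * ρ dst`, and for every derived fact a closed
loop of facts spelling a (rotated) relator in which the derived fact occurs once and all other facts
are older.  `cert_sound` turns a successful check into the bound `|⟨t_i : i < k⟩| ≤ n * |H|`.
-/

set_option autoImplicit false
set_option linter.unusedSectionVars false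

namespace Cfsg.Agent.Lib.Helper89.CosetCert

abbrev Word := List ℕ

/-- inverse letter -/
def linv (l : ℕ) : ℕ := if l % 2 = 0 then l + 1 else l - 1

/-- inverse word -/
def winv (w : Word) : Word := (w.map linv).reverse

section Ev

variable {L : Type*} [Group L]

/-- value of a letter: `2i ↦ t i`, `2i+1 ↦ (t i)⁻¹` -/
def lv (t : ℕ → L) (l : ℕ) : L := if l % 2 = 0 then t (l / 2) else (t (l / 2))⁻¹

/-- value of a word -/
def ev (t : ℕ → L) (w : Word) : L := (w.map (lv t)).prod

@[simp] theorem ev_nil (t : ℕ → L) : ev t [] = 1 := rfl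

@[simp] theorem ev_cons (t : ℕ → L) (l : ℕ) (w : Word) : ev t (l :: w) = lv t l * ev t w := by
  simp [ev]

theorem ev_append (t : ℕ → L) (w w' : Word) : ev t (w ++ w') = ev t w * ev t w' := by
  simp [ev]

theorem lv_linv (t : ℕ → L) (l : ℕ) : lv t (linv l) = (lv t l)⁻¹ := by
  unfold lv linv
  by_cases h : l % 2 = 0
  · have h1 : (l + 1) % 2 ≠ 0 := by omega
    have h2 : (l + 1) / 2 = l / 2 := by omega
    simp [h, h1, h2]
  · have h1 : (l - 1) % 2 = 0 := by omega
    have h2 : (l - 1) / 2 = l / 2 := by omega
    simp [h, h1, h2]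

theorem ev_winv (t : ℕ → L) (w : Word) : ev t (winv w) = (ev t w)⁻¹ := by
  induction w with
  | nil => simp [winv]
  | cons l w ih =>
    have : winv (l :: w) = winv w ++ [linv l] := by simp [winv]
    rw [this, ev_append, ih, ev_cons, ev_cons, ev_nil, mul_one, lv_linv, mul_inv_rev]

theorem lv_two_mul (t : ℕ → L) (i : ℕ) : lv t (2 * i) = t i := by
  unfold lv
  have h1 : (2 * i) % 2 = 0 := by omega
  have h2 : (2 * i) / 2 = i := by omega
  simp [h2]

theorem lv_two_mul_add_one (t : ℕ → L) (i : ℕ) : lv t (2 * i + 1) = (t i)⁻¹ := by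
  unfold lv
  have h1 : (2 * i + 1) % 2 ≠ 0 := by omega
  have h2 : (2 * i + 1) / 2 = i := by omega
  simp [h1, h2]

theorem ev_replicate_even (t : ℕ → L) (i m : ℕ) : ev t (List.replicate m (2 * i)) = t i ^ m := by
  induction m with
  | zero => simp
  | succ m ih => rw [List.replicate_succ, ev_cons, ih, lv_two_mul, pow_succ']

theorem ev_replicate_odd (t : ℕ → L) (i m : ℕ) :
    ev t (List.replicate m (2 * i + 1)) = (t i ^ m)⁻¹ := by
  induction m with
  | zero => simp
  | succ m ih =>
    rw [List.replicate_succ, ev_cons, ih, lv_two_mul_add_one, pow_succ, mul_inv_rev]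

theorem ev_map_hom {M : Type*} [Group M] (f : L →* M) (t : ℕ → L) (w : Word) :
    f (ev t w) = ev (fun i => f (t i)) w := by
  induction w with
  | nil => simp
  | cons l w ih =>
    rw [ev_cons, ev_cons, map_mul, ih]
    congr 1
    unfold lv
    split_ifs <;> simp

theorem ev_rotate (t : ℕ → L) (w : Word) (n : ℕ) (h : ev t w = 1) : ev t (w.rotate n) = 1 := by
  rw [List.rotate_eq_drop_append_take_mod, ev_append]
  have h2 : ev t (w.take (n % w.length)) * ev t (w.drop (n % w.length)) = 1 := by
    rw [← ev_append, List.take_append_drop, h]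
  exact mul_eq_one_iff_eq_inv.2 (by rw [← mul_eq_one_iff_eq_inv'.symm.symm]; exact (mul_eq_one_iff_eq_inv'.1 h2).symm ▸ (by simp))

end Ev

/-! ### certificates -/

/-- oriented edge `(src, label, dst)` -/
abbrev Edge := ℕ × ℕ × ℕ

/-- reverse an edge; `e` is the label `ε` -/
def orient (e : ℕ) (f : Edge) (dir : Bool) : Edge :=
  if dir then f else (f.2.2, (if f.2.1 < e then linv f.2.1 else f.2.1), f.1)

/-- follow a chain of edges -/
def chainOK : ℕ → List Edge → Option ℕ
  | c, [] => some c
  | c, x :: es => if x.1 = c then chainOK x.2.2 es else none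

/-- the word spelled by a chain (labels `ε` dropped) -/
def spell (e : ℕ) (es : List Edge) : Word :=
  (es.map (fun x => x.2.1)).filter (fun l => decide (l < e))

def fld (x pos w : ℕ) : ℕ := (x >>> pos) &&& (2 ^ w - 1)
def stRel (s : ℕ) : ℕ := Nat.land s 4095
def stRot (s : ℕ) : ℕ := Nat.land (Nat.shiftRight s 12) 255
def stQ (s : ℕ) : ℕ := Nat.land (Nat.shiftRight s 20) 255
def stCnt (s : ℕ) : ℕ := Nat.land (Nat.shiftRight s 28) 255

/-- decode `c` moves from `x` (18 bits each: fact index, then direction bit) -/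
def mvList : ℕ → ℕ → List (ℕ × Bool)
  | 0, _ => []
  | c + 1, x =>
    (Nat.land (Nat.shiftRight x 1) 131071, Nat.beq (Nat.land x 1) 1) ::
      mvList c (Nat.shiftRight x 18)

def stMoves (s : ℕ) : List (ℕ × Bool) := mvList (stCnt s) (Nat.shiftRight s 36)

/-- rotation, with a shortcut for the frequent case `r = 0` -/
def rotF (l : Word) (r : ℕ) : Word := if r = 0 then l else l.rotate r


/-! ### packed arrays -/

/-- binary trie of big numbers -/
inductive Tr where
  | leaf : ℕ → Tr
  | node : Tr → Tr → Tr

/-- `get tr d i` reads leaf number `i` of a complete trie of depth `d` -/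
def Tr.get : Tr → ℕ → ℕ → ℕ
  | .leaf v, _, _ => v
  | .node l r, d + 1, i => if i.testBit d then r.get d i else l.get d i
  | .node l _, 0, _ => l.get 0 0

/-- facts packed 64 per leaf, 40 bits each: `src` (16), `label` (8), `dst` (16) -/
def factOf (tr : Tr) (d : ℕ) (f : ℕ) : ℕ × ℕ × ℕ :=
  let y := fld (tr.get d (f / 64)) (40 * (f % 64)) 40
  (y &&& 65535, (y >>> 16) &&& 255, y >>> 24)

/-- facts packed in one big number, 40 bits each -/
def factBig (B : ℕ) (f : ℕ) : ℕ × ℕ × ℕ :=
  let y := Nat.land (Nat.shiftRight B (Nat.mul 40 f)) 1099511627775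
  (Nat.land y 65535, Nat.land (Nat.shiftRight y 16) 255, Nat.shiftRight y 24)

/-- numbers `< 2^16` packed in one big number -/
def numBig (B : ℕ) (x : ℕ) : ℕ := Nat.land (Nat.shiftRight B (Nat.mul 16 x)) 65535

/-- numbers `< 2^16` packed 64 per leaf -/
def numOf (tr : Tr) (d : ℕ) (x : ℕ) : ℕ := fld (tr.get d (x / 64)) (16 * (x % 64)) 16

structure Cert where
  k : ℕ
  j0 : ℕ
  N : ℕ
  fact : ℕ → Edge
  rels : List Word
  steps : List ℕ
  n : ℕ
  roots : List ℕ
  fin : ℕ → ℕ

namespace Cert

variable (C : Cert)

def allrels : List Word := (List.range (2 * C.k)).map (fun l => [l, linv l]) ++ [[]] ++ C.rels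

def checkStep (idx s : ℕ) : Bool :=
  let e := 2 * C.k
  let mv := stMoves s
  let q := stQ s
  let es := mv.map (fun m => orient e (C.fact m.1) m.2)
  decide (q < mv.length) && ((mv.getD q (0, true)).1 == idx) &&
    (mv.take q).all (fun m => decide (m.1 < idx)) &&
    (mv.drop (q + 1)).all (fun m => decide (m.1 < idx)) &&
    (chainOK (es.headD (0, 0, 0)).1 es == some (es.headD (0, 0, 0)).1) &&
    (spell e es == rotF (C.allrels.getD (stRel s) []) (stRot s))

def checkSteps : ℕ → List ℕ → Bool
  | _, [] => true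
  | idx, s :: ss => C.checkStep idx s && checkSteps (idx + 1) ss

theorem checkSteps_append (a b : List ℕ) (idx : ℕ) :
    C.checkSteps idx (a ++ b) = (C.checkSteps idx a && C.checkSteps (idx + a.length) b) := by
  induction a generalizing idx with
  | nil => simp [checkSteps]
  | cons s a ih =>
    rw [List.cons_append, checkSteps, checkSteps, ih, List.length_cons, Bool.and_assoc]
    congr 3
    omega

/-- checking a list of steps chunk by chunk -/
def checkChunks : ℕ → List (List ℕ) → Bool
  | _, [] => true
  | idx, c :: cs => C.checkSteps idx c && checkChunks (idx + c.length) cs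

theorem checkSteps_flatten (cs : List (List ℕ)) (idx : ℕ) :
    C.checkSteps idx cs.flatten = C.checkChunks idx cs := by
  induction cs generalizing idx with
  | nil => simp [checkSteps, checkChunks]
  | cons c cs ih => rw [List.flatten_cons, checkSteps_append, checkChunks, ih]

def defsOK : Bool :=
  (List.range (C.N - 1)).all fun c =>
    decide ((C.fact c).1 ≤ c) && decide ((C.fact c).2.1 < 2 * C.k) && ((C.fact c).2.2 == c + 1)

def subsOK : Bool :=
  decide (C.j0 ≤ C.k) && (List.range C.j0).all fun i => C.fact (C.N - 1 + i) == (0, 2 * i, 0)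

def finBase : ℕ := C.N - 1 + C.j0 + C.steps.length - C.n * (2 * C.k)

def finOK : Bool :=
  (C.roots.length == C.n) && (C.roots.headD 1 == 0) && decide (0 < C.n) &&
    decide (C.n * (2 * C.k) ≤ C.steps.length) &&
    (List.range C.n).all fun a => (List.range (2 * C.k)).all fun l =>
      decide (C.fin (a * (2 * C.k) + l) < C.n) &&
        (C.fact (C.finBase + a * (2 * C.k) + l) ==
          (C.roots.getD a 0, l, C.roots.getD (C.fin (a * (2 * C.k) + l)) 0))

def check : Bool :=
  decide (0 < C.N) && C.defsOK && C.subsOK && C.checkSteps (C.N - 1 + C.j0) C.steps && C.finOK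

end Cert

/-! ### soundness -/

section Sound

variable {L : Type*} [Group L] (t : ℕ → L) (H : Subgroup L) (C : Cert)

/-- value of a label -/
def val (e l : ℕ) : L := if l < e then lv t l else 1

/-- the element named `c` -/
noncomputable def rho : ℕ → L
  | 0 => 1
  | c + 1 => if _h : (C.fact c).1 ≤ c then rho (C.fact c).1 * lv t (C.fact c).2.1 else 1
termination_by c => c
decreasing_by omega

theorem rho_zero : rho t C 0 = 1 := by rw [rho]

theorem rho_succ (c : ℕ) (h : (C.fact c).1 ≤ c) :
    rho t C (c + 1) = rho t C (C.fact c).1 * lv t (C.fact c).2.1 := by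
  rw [rho, dif_pos h]

/-- validity of an oriented edge -/
def EdgeOK (x : Edge) : Prop :=
  rho t C x.1 * val t (2 * C.k) x.2.1 * (rho t C x.2.2)⁻¹ ∈ H

theorem linv_lt_two_mul {k l : ℕ} (h : l < 2 * k) : linv l < 2 * k := by
  unfold linv
  split_ifs <;> omega

theorem val_orient_label (e' l : ℕ) (he : e' = 2 * C.k) :
    val t e' (if l < e' then linv l else l) = (val t e' l)⁻¹ := by
  subst he
  unfold val
  by_cases h : l < 2 * C.k
  · rw [if_pos h, if_pos (linv_lt_two_mul h), if_pos h, lv_linv]
  · simp only [if_neg h, inv_one]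

theorem edgeOK_orient (f : Edge) (dir : Bool) :
    EdgeOK t H C (orient (2 * C.k) f dir) ↔ EdgeOK t H C f := by
  cases dir with
  | true => simp [orient]
  | false =>
    unfold EdgeOK
    simp only [orient, Bool.false_eq_true, if_false]
    rw [val_orient_label t C (2 * C.k) f.2.1 rfl]
    constructor
    · intro h
      have := H.inv_mem h
      simpa [mul_assoc] using this
    · intro h
      have := H.inv_mem h
      simpa [mul_assoc] using this

theorem chain_mem : ∀ (es : List Edge) (c c' : ℕ), chainOK c es = some c' →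
    (∀ x ∈ es, EdgeOK t H C x) →
    rho t C c * (es.map (fun x => val t (2 * C.k) x.2.1)).prod * (rho t C c')⁻¹ ∈ H := by
  intro es
  induction es with
  | nil =>
    intro c c' h _
    simp only [chainOK, Option.some.injEq] at h
    subst h
    simp
  | cons x es ih =>
    intro c c' h hx
    simp only [chainOK] at h
    split_ifs at h with hc
    have h1 := hx x (List.mem_cons_self)
    have h2 := ih x.2.2 c' h (fun y hy => hx y (List.mem_cons_of_mem _ hy))
    unfold EdgeOK at h1
    rw [hc] at h1
    have := H.mul_mem h1 h2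
    rw [List.map_cons, List.prod_cons]
    convert this using 1
    group

theorem chainOK_append : ∀ (a b : List Edge) (c : ℕ),
    chainOK c (a ++ b) = (chainOK c a).bind (fun c' => chainOK c' b) := by
  intro a
  induction a with
  | nil => intro b c; simp [chainOK]
  | cons x a ih =>
    intro b c
    simp only [List.cons_append, chainOK]
    split_ifs
    · exact ih b x.2.2
    · rfl

theorem prod_val_eq_ev_spell (e : ℕ) (es : List Edge) :
    (es.map (fun x => val t e x.2.1)).prod = ev t (spell e es) := by
  induction es with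
  | nil => simp [spell]
  | cons x es ih =>
    rw [List.map_cons, List.prod_cons, ih]
    unfold spell
    rw [List.map_cons, List.filter_cons]
    by_cases h : x.2.1 < e
    · simp only [h, decide_true, if_true, ev_cons]
      unfold val
      rw [if_pos h]
    · simp only [h, decide_false]
      unfold val
      rw [if_neg h, one_mul]
      rfl

theorem allrels_valid (hrel : ∀ r ∈ C.rels, ev t r = 1) (i : ℕ) :
    ev t (C.allrels.getD i []) = 1 := by
  have hall : ∀ r ∈ C.allrels, ev t r = 1 := by
    intro r hr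
    unfold Cert.allrels at hr
    rw [List.mem_append, List.mem_append] at hr
    rcases hr with (hr | hr) | hr
    · rw [List.mem_map] at hr
      obtain ⟨l, _, rfl⟩ := hr
      rw [ev_cons, ev_cons, ev_nil, mul_one, lv_linv, mul_inv_cancel]
    · rw [List.mem_singleton] at hr
      subst hr
      rfl
    · exact hrel r hr
  by_cases h : i < C.allrels.length
  · rw [List.getD_eq_getElem _ _ h]
    exact hall _ (List.getElem_mem h)
  · rw [List.getD_eq_default _ _ (by omega)]
    rfl

/-- validity of fact number `f` -/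
def FactOK (f : ℕ) : Prop := EdgeOK t H C (C.fact f)

theorem step_sound (hrel : ∀ r ∈ C.rels, ev t r = 1) (idx s : ℕ)
    (hprev : ∀ f < idx, FactOK t H C f) (hs : C.checkStep idx s = true) : FactOK t H C idx := by
  unfold Cert.checkStep at hs
  simp only [Bool.and_eq_true, decide_eq_true_eq, beq_iff_eq, List.all_eq_true] at hs
  obtain ⟨⟨⟨⟨⟨hq, hgap⟩, hpre⟩, hpost⟩, hchain⟩, hspell⟩ := hs
  set e := 2 * C.k with he
  set mv := stMoves s with hmv
  set q := stQ s with hqdef
  set f : ℕ × Bool → Edge := fun m => orient e (C.fact m.1) m.2 with hf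
  have hmsplit : mv = mv.take q ++ mv[q] :: mv.drop (q + 1) := by
    conv_lhs => rw [← List.take_append_drop q mv, List.drop_eq_getElem_cons hq]
  have hsplit : mv.map f = (mv.take q).map f ++ f (mv[q]) :: (mv.drop (q + 1)).map f := by
    conv_lhs => rw [hmsplit]
    rw [List.map_append, List.map_cons]
  have hgidx : (mv[q]).1 = idx := by
    rw [List.getD_eq_getElem _ _ hq] at hgap
    exact hgap
  have hpreOK : ∀ x ∈ (mv.take q).map f, EdgeOK t H C x := by
    intro x hx
    rw [List.mem_map] at hx
    obtain ⟨m, hm, rfl⟩ := hx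
    rw [hf, edgeOK_orient]
    exact hprev m.1 (hpre m hm)
  have hpostOK : ∀ x ∈ (mv.drop (q + 1)).map f, EdgeOK t H C x := by
    intro x hx
    rw [List.mem_map] at hx
    obtain ⟨m, hm, rfl⟩ := hx
    rw [hf, edgeOK_orient]
    exact hprev m.1 (hpost m hm)
  rw [hsplit, chainOK_append] at hchain
  obtain ⟨c1, hc1, hrest⟩ := Option.bind_eq_some_iff.1 hchain
  simp only [chainOK] at hrest
  split_ifs at hrest with hsrc
  have hA := chain_mem t H C _ _ _ hc1 hpreOK
  have hB := chain_mem t H C _ _ _ hrest hpostOK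
  -- the product of all labels is trivial
  have hprod : ((mv.map f).map (fun x => val t e x.2.1)).prod = 1 := by
    rw [prod_val_eq_ev_spell, hspell]
    unfold rotF
    split_ifs
    · exact allrels_valid t C hrel _
    · exact ev_rotate t _ _ (allrels_valid t C hrel _)
  rw [hsplit, List.map_append, List.prod_append, List.map_cons, List.prod_cons] at hprod
  set P := (((mv.take q).map f).map (fun x => val t e x.2.1)).prod with hP
  set P' := (((mv.drop (q + 1)).map f).map (fun x => val t e x.2.1)).prod with hP'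
  set v := val t e (f (mv[q])).2.1 with hv
  have hveq : v = P⁻¹ * P'⁻¹ := by
    have h1 : P * (v * P') = 1 := hprod
    calc v = P⁻¹ * (P * (v * P')) * P'⁻¹ := by group
      _ = P⁻¹ * P'⁻¹ := by rw [h1, mul_one]
  have hgapOK : EdgeOK t H C (f (mv[q])) := by
    unfold EdgeOK
    rw [← he, ← hv, hsrc, hveq]
    have := H.mul_mem (H.inv_mem hA) (H.inv_mem hB)
    convert this using 1
    group
  unfold FactOK
  rw [hf] at hgapOK
  simp only at hgapOK
  rw [edgeOK_orient, hgidx] at hgapOK
  exact hgapOK

theorem steps_sound (hrel : ∀ r ∈ C.rels, ev t r = 1) : ∀ (ss : List ℕ) (idx : ℕ),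
    (∀ f < idx, FactOK t H C f) → C.checkSteps idx ss = true →
    ∀ f < idx + ss.length, FactOK t H C f := by
  intro ss
  induction ss with
  | nil => intro idx h _ f hf; exact h f (by simpa using hf)
  | cons s ss ih =>
    intro idx h hc f hf
    simp only [Cert.checkSteps, Bool.and_eq_true] at hc
    have h1 := step_sound t H C hrel idx s h hc.1
    have h2 : ∀ f < idx + 1, FactOK t H C f := by
      intro f hf
      rcases Nat.lt_succ_iff_lt_or_eq.1 hf with h' | h'
      · exact h f h'
      · rw [h']; exact h1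
    refine ih (idx + 1) h2 hc.2 f ?_
    rw [List.length_cons] at hf
    omega

theorem val_of_lt {e l : ℕ} (h : l < e) : val t e l = lv t l := by
  unfold val
  rw [if_pos h]

theorem init_sound (hC : C.check = true) (hH : ∀ i < C.j0, t i ∈ H) :
    ∀ f < C.N - 1 + C.j0, FactOK t H C f := by
  unfold Cert.check at hC
  simp only [Bool.and_eq_true, decide_eq_true_eq] at hC
  obtain ⟨⟨⟨⟨_, hdefs⟩, hsubs⟩, _⟩, _⟩ := hC
  intro f hf
  unfold FactOK EdgeOK
  by_cases h1 : f < C.N - 1
  · unfold Cert.defsOK at hdefs
    rw [List.all_eq_true] at hdefs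
    have := hdefs f (List.mem_range.2 h1)
    simp only [Bool.and_eq_true, decide_eq_true_eq, beq_iff_eq] at this
    obtain ⟨⟨hp, hl⟩, hd⟩ := this
    rw [hd, rho_succ t C f hp, val_of_lt t hl]
    have : rho t C (C.fact f).1 * lv t (C.fact f).2.1 *
        (rho t C (C.fact f).1 * lv t (C.fact f).2.1)⁻¹ = 1 := mul_inv_cancel _
    rw [this]
    exact H.one_mem
  · unfold Cert.subsOK at hsubs
    simp only [Bool.and_eq_true, decide_eq_true_eq, List.all_eq_true, beq_iff_eq] at hsubs
    obtain ⟨hjk, hsubs⟩ := hsubs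
    have hi : f - (C.N - 1) < C.j0 := by omega
    have := hsubs (f - (C.N - 1)) (List.mem_range.2 hi)
    have hfe : C.N - 1 + (f - (C.N - 1)) = f := by omega
    rw [hfe] at this
    rw [this]
    simp only
    rw [rho_zero, val_of_lt t (by omega : 2 * (f - (C.N - 1)) < 2 * C.k), lv_two_mul, one_mul,
      inv_one, mul_one]
    exact hH _ hi

theorem all_sound (hC : C.check = true) (hH : ∀ i < C.j0, t i ∈ H)
    (hrel : ∀ r ∈ C.rels, ev t r = 1) :
    ∀ f < C.N - 1 + C.j0 + C.steps.length, FactOK t H C f := by
  have h0 := init_sound t H C hC hH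
  unfold Cert.check at hC
  simp only [Bool.and_eq_true, decide_eq_true_eq] at hC
  obtain ⟨⟨⟨_, _⟩, hsteps⟩, _⟩ := hC
  exact steps_sound t H C hrel C.steps _ h0 hsteps

theorem fin_step (hC : C.check = true) (hH : ∀ i < C.j0, t i ∈ H)
    (hrel : ∀ r ∈ C.rels, ev t r = 1) (a l : ℕ) (ha : a < C.n) (hl : l < 2 * C.k) :
    ∃ b < C.n, rho t C (C.roots.getD a 0) * lv t l * (rho t C (C.roots.getD b 0))⁻¹ ∈ H := by
  have hall := all_sound t H C hC hH hrel
  unfold Cert.check at hC
  simp only [Bool.and_eq_true, decide_eq_true_eq] at hC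
  obtain ⟨_, hfin⟩ := hC
  unfold Cert.finOK at hfin
  simp only [Bool.and_eq_true, decide_eq_true_eq, List.all_eq_true, beq_iff_eq] at hfin
  obtain ⟨⟨⟨⟨_, _⟩, _⟩, hle⟩, hfin⟩ := hfin
  obtain ⟨hb, hf⟩ := hfin a (List.mem_range.2 ha) l (List.mem_range.2 hl)
  refine ⟨_, hb, ?_⟩
  have hlt : C.finBase + a * (2 * C.k) + l < C.N - 1 + C.j0 + C.steps.length := by
    unfold Cert.finBase
    have h1 : a * (2 * C.k) + l < C.n * (2 * C.k) := by
      have : (a + 1) * (2 * C.k) ≤ C.n * (2 * C.k) := Nat.mul_le_mul_right _ ha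
      rw [Nat.add_mul, one_mul] at this
      omega
    omega
  have := hall _ hlt
  unfold FactOK EdgeOK at this
  rw [hf] at this
  simp only at this
  rw [val_of_lt t hl] at this
  exact this

theorem cert_cover (hC : C.check = true) (hH : ∀ i < C.j0, t i ∈ H)
    (hrel : ∀ r ∈ C.rels, ev t r = 1) :
    ∀ x ∈ Subgroup.closure {y | ∃ i < C.k, y = t i},
      ∃ a < C.n, x * (rho t C (C.roots.getD a 0))⁻¹ ∈ H := by
  have hC' := hC
  unfold Cert.check at hC
  simp only [Bool.and_eq_true, decide_eq_true_eq] at hC
  obtain ⟨_, hfin⟩ := hC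
  unfold Cert.finOK at hfin
  simp only [Bool.and_eq_true, decide_eq_true_eq, List.all_eq_true, beq_iff_eq] at hfin
  obtain ⟨⟨⟨⟨hlen, hhead⟩, hn⟩, _⟩, _⟩ := hfin
  intro x hx
  induction hx using Subgroup.closure_induction_right with
  | one =>
    refine ⟨0, hn, ?_⟩
    have : C.roots.getD 0 0 = 0 := by
      cases hr : C.roots with
      | nil => rw [hr] at hlen; simp at hlen; omega
      | cons r rs => rw [hr] at hhead; simpa using hhead
    rw [this, rho_zero, inv_one, mul_one]
    exact H.one_mem
  | mul_right x _ y hy ih =>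
    obtain ⟨i, hi, rfl⟩ := hy
    obtain ⟨a, ha, hxa⟩ := ih
    obtain ⟨b, hb, hab⟩ := fin_step t H C hC' hH hrel a (2 * i) ha (by omega)
    refine ⟨b, hb, ?_⟩
    rw [lv_two_mul] at hab
    have := H.mul_mem hxa hab
    convert this using 1
    group
  | mul_inv_cancel x _ y hy ih =>
    obtain ⟨i, hi, rfl⟩ := hy
    obtain ⟨a, ha, hxa⟩ := ih
    obtain ⟨b, hb, hab⟩ := fin_step t H C hC' hH hrel a (2 * i + 1) ha (by omega)
    refine ⟨b, hb, ?_⟩
    rw [lv_two_mul_add_one] at hab
    have := H.mul_mem hxa hab
    convert this using 1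
    group

/-- The bound given by a valid certificate. -/
theorem cert_sound [Finite L] (hC : C.check = true) (hH : ∀ i < C.j0, t i ∈ H)
    (hrel : ∀ r ∈ C.rels, ev t r = 1) :
    Nat.card (Subgroup.closure {y | ∃ i < C.k, y = t i}) ≤ C.n * Nat.card H := by
  classical
  have hcov := cert_cover t H C hC hH hrel
  let φ : Subgroup.closure {y | ∃ i < C.k, y = t i} → Fin C.n × H := fun x =>
    (⟨Classical.choose (hcov x.1 x.2), (Classical.choose_spec (hcov x.1 x.2)).1⟩,
      ⟨_, (Classical.choose_spec (hcov x.1 x.2)).2⟩)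
  have hφ : Function.Injective φ := by
    intro x y hxy
    have h1 : (φ x).1 = (φ y).1 := congrArg Prod.fst hxy
    have h2 : ((φ x).2 : L) = ((φ y).2 : L) := congrArg (fun p => (p.2 : L)) hxy
    have h1' : Classical.choose (hcov x.1 x.2) = Classical.choose (hcov y.1 y.2) :=
      congrArg Fin.val h1
    have h2' : x.1 * (rho t C (C.roots.getD (Classical.choose (hcov x.1 x.2)) 0))⁻¹ =
        y.1 * (rho t C (C.roots.getD (Classical.choose (hcov y.1 y.2)) 0))⁻¹ := h2
    rw [h1'] at h2'
    exact Subtype.ext (mul_right_cancel h2')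
  have := Nat.card_le_card_of_injective φ hφ
  rw [Nat.card_prod, Nat.card_fin] at this
  exact this

end Sound

end Cfsg.Agent.Lib.Helper89.CosetCert
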