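import Mathlib
import Cfsg.Prelude.Def_KGroupFacts
import Cfsg.Agent.Lib.Helper65.StemLemmas2

/-!
# Stem extensions: reduction to `p`-group kernels and canonical lifts of `p'`-elements

* `good_unique`, `good_exists`: in a central extension with `p`-group kernel every element of
  order prime to `p` has a unique lift of order prime to `p`.
* `safe_rel`: conjugation relations between such lifts hold upstairs as soon as they hold downstairs.
* `ker_eq_bot_of_lifts`: a stem extension splitting over a subgroup mapping isomorphically is trivial.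
* `not_dvd_orderOf_of_pgroup_case`: reduction to kernels that are `p`-groups.
* `pow_eq_one_of_orderOf`, `ker_eq_bot_of_forall_prime`, `hasCyclic_one`.
-/

set_option autoImplicit false

namespace Cfsg.Agent.Lib.Helper89.StemSafe

open scoped commutatorElement

universe u v

section Good

variable {Γ : Type*} {G : Type*} [Group Γ] [Group G] (σ : Γ →* G) (p : ℕ) [hp : Fact p.Prime]

omit hp in
/-- uniqueness of lifts of order prime to `p` -/
theorem good_unique (hcen : σ.ker ≤ Subgroup.center Γ)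
    (hpk : ∀ z ∈ σ.ker, ∃ n : ℕ, z ^ (p ^ n) = 1) {x y : Γ} {m m' : ℕ} (hxy : σ x = σ y)
    (hx : x ^ m = 1) (hy : y ^ m' = 1) (hm : m.Coprime p) (hm' : m'.Coprime p) : x = y := by
  set c : Γ := x⁻¹ * y with hc
  have hck : c ∈ σ.ker := by
    rw [MonoidHom.mem_ker, hc, map_mul, map_inv, hxy, inv_mul_cancel]
  have hcc := Subgroup.mem_center_iff.1 (hcen hck)
  have hyx : y = x * c := by rw [hc]; group
  have hcomm : Commute x c := (hcc x)
  have h1 : c ^ (m * m') = 1 := by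
    have h2 : y ^ (m * m') = 1 := by rw [mul_comm, pow_mul, hy, one_pow]
    rw [hyx, hcomm.mul_pow, pow_mul, hx, one_pow, one_mul] at h2
    exact h2
  obtain ⟨n, hn⟩ := hpk c hck
  have hd1 := orderOf_dvd_of_pow_eq_one h1
  have hd2 := orderOf_dvd_of_pow_eq_one hn
  have hcop : (m * m').Coprime (p ^ n) := (Nat.Coprime.mul_left hm hm').pow_right n
  have : orderOf c = 1 := Nat.eq_one_of_dvd_coprimes hcop hd1 hd2
  rw [orderOf_eq_one_iff] at this
  rw [hyx, this, mul_one]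

include hp in
/-- existence of lifts of order prime to `p` -/
theorem good_exists (hsurj : Function.Surjective σ) (hcen : σ.ker ≤ Subgroup.center Γ)
    (hpk : ∀ z ∈ σ.ker, ∃ n : ℕ, z ^ (p ^ n) = 1) (g : G) (n : ℕ) (hg : g ^ n = 1)
    (hn : n.Coprime p) : ∃ γ : Γ, σ γ = g ∧ γ ^ n = 1 := by
  obtain ⟨γ0, hγ0⟩ := hsurj g
  set k : Γ := γ0 ^ n with hk
  have hkk : k ∈ σ.ker := by rw [MonoidHom.mem_ker, hk, map_pow, hγ0, hg]
  obtain ⟨a, ha⟩ := hpk k hkk
  by_cases h1 : p ^ a = 1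
  · refine ⟨γ0, hγ0, ?_⟩
    rw [h1, pow_one] at ha
    exact ha
  · have hlt : 1 < p ^ a := by
      have : 0 < p ^ a := pow_pos hp.out.pos a
      omega
    obtain ⟨u, -, hu⟩ := Nat.exists_mul_mod_eq_one_of_coprime (hn.pow_right a) hlt
    have hkc := Subgroup.mem_center_iff.1 (hcen hkk)
    have hku : k ^ (n * u) = k := by
      rw [pow_eq_pow_mod (n * u) ha, hu, pow_one]
    set k' : Γ := (k ^ u)⁻¹ with hk'
    have hk'k : k' ∈ σ.ker := inv_mem (pow_mem hkk u)
    have hk'c := Subgroup.mem_center_iff.1 (hcen hk'k)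
    refine ⟨γ0 * k', ?_, ?_⟩
    · rw [map_mul, hγ0, MonoidHom.mem_ker.1 hk'k, mul_one]
    · have hcomm : Commute γ0 k' := hk'c γ0
      rw [hcomm.mul_pow, ← hk, hk', inv_pow, ← pow_mul, mul_comm u n, hku, mul_inv_cancel]

omit hp in
/-- conjugation relations between lifts of order prime to `p` lift -/
theorem safe_rel (hcen : σ.ker ≤ Subgroup.center Γ)
    (hpk : ∀ z ∈ σ.ker, ∃ n : ℕ, z ^ (p ^ n) = 1) {ti tj W : Γ} {ni nj : ℕ}
    (hi : ti ^ ni = 1) (hj : tj ^ nj = 1) (hni : ni.Coprime p) (hnj : nj.Coprime p) (z : ℤ)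
    (h : σ W * σ ti * (σ W)⁻¹ = σ tj ^ z) : W * ti * W⁻¹ = tj ^ z := by
  apply good_unique σ p hcen hpk (m := ni) (m' := nj) _ _ _ hni hnj
  · rw [map_mul, map_mul, map_inv, h, map_zpow]
  · rw [conj_pow, hi, mul_one, mul_inv_cancel]
  · rw [← zpow_natCast, ← zpow_mul, mul_comm, zpow_mul, zpow_natCast, hj, one_zpow]

end Good

/-- commutators do not see central factors -/
theorem commutator_mul_central {Γ : Type*} [Group Γ] (l1 l2 k1 k2 : Γ)
    (h1 : ∀ g : Γ, g * k1 = k1 * g) (h2 : ∀ g : Γ, g * k2 = k2 * g) :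
    ⁅l1 * k1, l2 * k2⁆ = ⁅l1, l2⁆ := by
  have e1 : (l1 * k1)⁻¹ = k1⁻¹ * l1⁻¹ := mul_inv_rev _ _
  have e2 : (l2 * k2)⁻¹ = k2⁻¹ * l2⁻¹ := mul_inv_rev _ _
  have c1 : ∀ g : Γ, g * k1⁻¹ = k1⁻¹ * g := fun g => by
    have := h1 g⁻¹
    have h := congrArg (fun t => t⁻¹) this
    simpa [mul_inv_rev] using h.symm
  have c2 : ∀ g : Γ, g * k2⁻¹ = k2⁻¹ * g := fun g => by
    have := h2 g⁻¹
    have h := congrArg (fun t => t⁻¹) this
    simpa [mul_inv_rev] using h.symm
  rw [commutatorElement_def, commutatorElement_def, e1, e2]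
  calc l1 * k1 * (l2 * k2) * (k1⁻¹ * l1⁻¹) * (k2⁻¹ * l2⁻¹)
      = l1 * (k1 * (l2 * k2) * k1⁻¹) * l1⁻¹ * (k2⁻¹ * l2⁻¹) := by group
    _ = l1 * (l2 * k2) * l1⁻¹ * (k2⁻¹ * l2⁻¹) := by
        rw [← h1 (l2 * k2), mul_assoc (l2 * k2), mul_inv_cancel, mul_one]
    _ = l1 * l2 * (k2 * (l1⁻¹ * k2⁻¹)) * l2⁻¹ := by group
    _ = l1 * l2 * l1⁻¹ * l2⁻¹ := by
        rw [c2 l1⁻¹, ← mul_assoc k2, mul_inv_cancel, one_mul]

/-- a stem extension which maps a subgroup isomorphically onto the base is trivial -/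
theorem ker_eq_bot_of_lifts {Γ : Type*} {G : Type*} [Group Γ] [Group G] (σ : Γ →* G)
    (hσ : Cfsg.IsStemExtension σ) (T : Subgroup Γ) (hT : T.map σ = ⊤)
    (hinj : ∀ x ∈ T, σ x = 1 → x = 1) : σ.ker = ⊥ := by
  obtain ⟨hsurj, hcen, hcomm⟩ := hσ
  have hdec : ∀ γ : Γ, ∃ l ∈ T, ∃ k ∈ σ.ker, γ = l * k := by
    intro γ
    have : σ γ ∈ T.map σ := by rw [hT]; trivial
    obtain ⟨l, hl, hlγ⟩ := this
    refine ⟨l, hl, l⁻¹ * γ, ?_, by group⟩
    rw [MonoidHom.mem_ker, map_mul, map_inv, hlγ, inv_mul_cancel]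
  have hle : commutator Γ ≤ T := by
    rw [commutator_def, Subgroup.commutator_le]
    intro x _ y _
    obtain ⟨l1, hl1, k1, hk1, rfl⟩ := hdec x
    obtain ⟨l2, hl2, k2, hk2, rfl⟩ := hdec y
    rw [commutator_mul_central l1 l2 k1 k2 (Subgroup.mem_center_iff.1 (hcen hk1))
      (Subgroup.mem_center_iff.1 (hcen hk2))]
    rw [commutatorElement_def]
    exact T.mul_mem (T.mul_mem (T.mul_mem hl1 hl2) (T.inv_mem hl1)) (T.inv_mem hl2)
  rw [eq_bot_iff]
  intro z hz
  rw [Subgroup.mem_bot]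
  exact hinj z (hle (hcomm hz)) (MonoidHom.mem_ker.1 hz)

section Reduce

/-- image of a commutator-subgroup element lies in the commutator subgroup -/
theorem map_mem_commutator {X Y : Type*} [Group X] [Group Y] (f : X →* Y) {x : X}
    (hx : x ∈ commutator X) : f x ∈ commutator Y := by
  have h : (commutator X).map f ≤ commutator Y := by
    rw [commutator_def, Subgroup.map_commutator, commutator_def]
    exact Subgroup.commutator_mono le_top le_top
  exact h ⟨x, hx, rfl⟩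

/-- the part of the kernel of order prime to `p` -/
def primeToPart {Γ : Type*} {G : Type*} [Group Γ] [Group G] (σ : Γ →* G) (p : ℕ)
    (hcen : σ.ker ≤ Subgroup.center Γ) : Subgroup Γ where
  carrier := {z | z ∈ σ.ker ∧ ∃ m : ℕ, m.Coprime p ∧ z ^ m = 1}
  one_mem' := ⟨one_mem _, 1, Nat.coprime_one_left p, one_pow 1⟩
  mul_mem' := by
    rintro a b ⟨ha, m, hm, ham⟩ ⟨hb, m', hm', hbm⟩
    refine ⟨mul_mem ha hb, m * m', Nat.Coprime.mul_left hm hm', ?_⟩
    have hc : Commute a b := Subgroup.mem_center_iff.1 (hcen hb) a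
    rw [hc.mul_pow, pow_mul, ham, one_pow, one_mul, mul_comm, pow_mul, hbm, one_pow]
  inv_mem' := by
    rintro a ⟨ha, m, hm, ham⟩
    exact ⟨inv_mem ha, m, hm, by rw [inv_pow, ham, inv_one]⟩

theorem primeToPart_le {Γ : Type*} {G : Type*} [Group Γ] [Group G] (σ : Γ →* G) (p : ℕ)
    (hcen : σ.ker ≤ Subgroup.center Γ) : primeToPart σ p hcen ≤ σ.ker := fun _ h => h.1

instance primeToPart_normal {Γ : Type*} {G : Type*} [Group Γ] [Group G] (σ : Γ →* G) (p : ℕ)
    (hcen : σ.ker ≤ Subgroup.center Γ) : (primeToPart σ p hcen).Normal where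
  conj_mem := by
    intro z hz g
    have hc := Subgroup.mem_center_iff.1 (hcen hz.1) g
    have : g * z * g⁻¹ = z := by rw [hc, mul_assoc, mul_inv_cancel, mul_one]
    rw [this]
    exact hz

/-- Reduction: to show that the kernel of every finite stem extension of `G` has no `p`-torsion it
suffices to treat kernels that are `p`-groups. -/
theorem not_dvd_orderOf_of_pgroup_case {G : Type u} [Group G] (p : ℕ) [hp : Fact p.Prime]
    (h : ∀ (Γ' : Type u) [Group Γ'] [Finite Γ'] (σ' : Γ' →* G), Cfsg.IsStemExtension σ' →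
        (∀ z ∈ σ'.ker, ∃ n : ℕ, z ^ (p ^ n) = 1) → σ'.ker = ⊥)
    {Γ : Type u} [Group Γ] [Finite Γ] (σ : Γ →* G) (hσ : Cfsg.IsStemExtension σ) :
    ∀ z ∈ σ.ker, ¬ p ∣ orderOf z := by
  obtain ⟨hsurj, hcen, hcomm⟩ := hσ
  set N := primeToPart σ p hcen with hN
  have hNle : N ≤ σ.ker := primeToPart_le σ p hcen
  let σ' : Γ ⧸ N →* G := QuotientGroup.lift N σ (fun x hx => MonoidHom.mem_ker.1 (hNle hx))
  have hσ'mk : ∀ x : Γ, σ' (QuotientGroup.mk x) = σ x := fun x => rfl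
  have hstem : Cfsg.IsStemExtension σ' := by
    refine ⟨?_, ?_, ?_⟩
    · intro g
      obtain ⟨x, hx⟩ := hsurj g
      exact ⟨QuotientGroup.mk x, by rw [hσ'mk, hx]⟩
    · intro xb hxb
      induction xb using QuotientGroup.induction_on with
      | H x =>
        rw [MonoidHom.mem_ker, hσ'mk] at hxb
        have hxc := Subgroup.mem_center_iff.1 (hcen (MonoidHom.mem_ker.2 hxb))
        rw [Subgroup.mem_center_iff]
        intro yb
        induction yb using QuotientGroup.induction_on with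
        | H y =>
          rw [← QuotientGroup.mk_mul, ← QuotientGroup.mk_mul, hxc y]
    · intro xb hxb
      induction xb using QuotientGroup.induction_on with
      | H x =>
        rw [MonoidHom.mem_ker, hσ'mk] at hxb
        have hx' : x ∈ commutator Γ := hcomm (MonoidHom.mem_ker.2 hxb)
        exact map_mem_commutator (QuotientGroup.mk' N) hx'
  have hpk : ∀ zb ∈ σ'.ker, ∃ n : ℕ, zb ^ (p ^ n) = 1 := by
    intro zb hzb
    induction zb using QuotientGroup.induction_on with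
    | H x =>
      rw [MonoidHom.mem_ker, hσ'mk] at hzb
      have hxk : x ∈ σ.ker := MonoidHom.mem_ker.2 hzb
      have hpos : orderOf x ≠ 0 := (orderOf_pos x).ne'
      obtain ⟨a, m, hm, hxm⟩ := Nat.exists_eq_pow_mul_and_not_dvd hpos p hp.out.ne_one
      refine ⟨a, ?_⟩
      rw [← QuotientGroup.mk_pow, QuotientGroup.eq_one_iff]
      refine ⟨pow_mem hxk _, m, ?_, ?_⟩
      · exact (Nat.Coprime.symm ((Nat.Prime.coprime_iff_not_dvd hp.out).2 hm))
      · rw [← pow_mul, ← hxm, pow_orderOf_eq_one]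
  have hbot := h (Γ ⧸ N) σ' hstem hpk
  intro z hz hdvd
  have : (QuotientGroup.mk z : Γ ⧸ N) ∈ σ'.ker := by rw [MonoidHom.mem_ker, hσ'mk]; exact hz
  rw [hbot, Subgroup.mem_bot, QuotientGroup.eq_one_iff] at this
  obtain ⟨_, m, hm, hzm⟩ := this
  have hd := orderOf_dvd_of_pow_eq_one hzm
  have : p ∣ m := dvd_trans hdvd hd
  have h1 : p ∣ Nat.gcd m p := Nat.dvd_gcd this dvd_rfl
  rw [hm] at h1
  exact hp.out.one_lt.ne' (Nat.dvd_one.1 h1)

end Reduce

section Transfer

variable {G : Type u} [Group G] [Finite G] {Γ : Type v} [Group Γ] [Finite Γ] (σ : Γ →* G)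

omit [Finite G] [Finite Γ] in
/-- the preimage of a cyclic subgroup under a central extension is commutative -/
theorem comap_zpowers_comm (hs : Function.Surjective σ) (hk : σ.ker ≤ Subgroup.center Γ) (g : G) :
    ∀ x ∈ (Subgroup.zpowers g).comap σ, ∀ y ∈ (Subgroup.zpowers g).comap σ, x * y = y * x := by
  obtain ⟨g', rfl⟩ := hs g
  intro x hx y hy
  rw [Subgroup.mem_comap, Subgroup.mem_zpowers_iff] at hx hy
  obtain ⟨i, hi⟩ := hx
  obtain ⟨j, hj⟩ := hy
  rw [← map_zpow] at hi hj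
  have hx' : (g' ^ i)⁻¹ * x ∈ Subgroup.center Γ := hk (by
    rw [MonoidHom.mem_ker, map_mul, map_inv, hi, inv_mul_cancel])
  have hy' : (g' ^ j)⁻¹ * y ∈ Subgroup.center Γ := hk (by
    rw [MonoidHom.mem_ker, map_mul, map_inv, hj, inv_mul_cancel])
  set κ := (g' ^ i)⁻¹ * x with hκ
  set κ' := (g' ^ j)⁻¹ * y with hκ'
  have ex : x = g' ^ i * κ := by rw [hκ]; group
  have ey : y = g' ^ j * κ' := by rw [hκ']; group
  rw [Subgroup.mem_center_iff] at hx' hy'
  have hc : g' ^ i * g' ^ j = g' ^ j * g' ^ i := (Commute.zpow_zpow_self g' i j).eq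
  rw [ex, ey]
  calc g' ^ i * κ * (g' ^ j * κ') = g' ^ i * (κ * g' ^ j) * κ' := by group
    _ = g' ^ i * (g' ^ j * κ) * κ' := by rw [hx']
    _ = (g' ^ i * g' ^ j) * (κ * κ') := by group
    _ = (g' ^ j * g' ^ i) * (κ' * κ) := by rw [hc, hx' κ']
    _ = g' ^ j * (g' ^ i * κ') * κ := by group
    _ = g' ^ j * (κ' * g' ^ i) * κ := by rw [hy']
    _ = g' ^ j * κ' * (g' ^ i * κ) := by group

/-- transfer into the preimage of a cyclic subgroup -/
theorem pow_eq_one_of_orderOf (hσ : Cfsg.IsStemExtension σ) (g : G) (n m : ℕ)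
    (hg : orderOf g = n) (hn : 0 < n) (hm : m * n = Nat.card G) {z : Γ} (hz : z ∈ σ.ker) :
    z ^ m = 1 := by
  obtain ⟨hs, hk, hcm⟩ := hσ
  have h1 := Cfsg.Agent.Lib.Helper65.pow_index_eq_one_of_comm ((Subgroup.zpowers g).comap σ)
    (comap_zpowers_comm σ hs hk g) z (hk hz) (hcm hz)
  rw [Subgroup.index_comap_of_surjective _ hs] at h1
  have h2 := (Subgroup.zpowers g).index_mul_card
  rw [Nat.card_zpowers, hg, ← hm] at h2
  rw [Nat.eq_of_mul_eq_mul_right hn h2] at h1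
  exact h1

theorem pow_card_eq_one (hσ : Cfsg.IsStemExtension σ) {z : Γ} (hz : z ∈ σ.ker) :
    z ^ Nat.card G = 1 :=
  pow_eq_one_of_orderOf σ hσ 1 1 (Nat.card G) orderOf_one one_pos (mul_one _) hz

/-- a prime with a cyclic Sylow subgroup does not divide the order of kernel elements -/
theorem not_dvd_of_cyclic_sylow (hσ : Cfsg.IsStemExtension σ) (p : ℕ) (hp : p.Prime) (g : G)
    (a m : ℕ) (hg : orderOf g = p ^ a) (hm : m * p ^ a = Nat.card G) (hpm : ¬ p ∣ m)
    {z : Γ} (hz : z ∈ σ.ker) : ¬ p ∣ orderOf z := by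
  have h1 := pow_eq_one_of_orderOf σ hσ g (p ^ a) m hg (pow_pos hp.pos a) hm hz
  intro hd
  exact hpm (dvd_trans hd (orderOf_dvd_of_pow_eq_one h1))

/-- if no prime dividing `|G|` divides the order of an element of the kernel, the kernel is trivial -/
theorem ker_eq_bot_of_forall_prime (hσ : Cfsg.IsStemExtension σ)
    (h : ∀ p : ℕ, p.Prime → p ∣ Nat.card G → ∀ z ∈ σ.ker, ¬ p ∣ orderOf z) : σ.ker = ⊥ := by
  rw [eq_bot_iff]
  intro z hz
  rw [Subgroup.mem_bot]
  have hd := orderOf_dvd_of_pow_eq_one (pow_card_eq_one σ hσ hz)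
  by_contra hne
  have h1 : orderOf z ≠ 1 := fun h1 => hne (orderOf_eq_one_iff.1 h1)
  obtain ⟨p, hp, hpd⟩ := Nat.exists_prime_and_dvd h1
  exact h p hp (dvd_trans hpd hd) z hz hpd

end Transfer

/-- trivial multiplier from triviality of all finite stem extensions -/
theorem hasCyclic_one {G : Type u} [Group G] [Finite G]
    (h : ∀ (Γ : Type u) [Group Γ] [Finite Γ] (σ : Γ →* G), Cfsg.IsStemExtension σ → σ.ker = ⊥) :
    Cfsg.HasCyclicSchurMultiplier G 1 := by
  refine ⟨⟨G, inferInstance, inferInstance, MonoidHom.id _, ?_, ?_⟩, ?_⟩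
  · refine ⟨Function.surjective_id, ?_, ?_⟩
    · rw [MonoidHom.ker_id]; exact bot_le
    · rw [MonoidHom.ker_id]; exact bot_le
  · rw [MonoidHom.ker_id]
    exact ⟨MulEquiv.ofUnique⟩
  · intro Γ _ _ σ hσ
    refine ⟨1, ?_⟩
    rintro ⟨z, hz⟩
    refine ⟨1, ?_⟩
    rw [h Γ σ hσ, Subgroup.mem_bot] at hz
    subst hz
    rfl

end Cfsg.Agent.Lib.Helper89.StemSafe
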