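import Mathlib
import Cfsg.Prelude.Def_KGroupFacts
import Cfsg.Agent.Lib.Helper89.StemSafe
import Cfsg.Agent.Lib.Helper89.CosetCert

/-!
# Presentations by conjugation relations between elements of order prime to `p`

If `G` is generated by elements `g i` of orders prime to `p`, and the group presented by the
power relations and by a list of conjugation relations `W g_i W⁻¹ = g_j ^ (±f)` valid in `G` has
order at most `|G|`, then every stem extension of `G` with a `p`-group as kernel is trivial.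
-/

set_option autoImplicit false

namespace Cfsg.Agent.Lib.Helper89.SafePres

open Cfsg.Agent.Lib.Helper89.CosetCert Cfsg.Agent.Lib.Helper89.StemSafe

universe u

/-- a conjugation relation `W x_i W⁻¹ = x_j ^ f` (`neg = false`) or `= x_j ^ (-f)` (`neg = true`) -/
structure SRel where
  W : Word
  i : ℕ
  j : ℕ
  f : ℕ
  neg : Bool

/-- the relator word of a conjugation relation -/
def SRel.word (r : SRel) : Word :=
  r.W ++ (2 * r.i) :: (winv r.W ++ List.replicate r.f (if r.neg then 2 * r.j else 2 * r.j + 1))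

/-- the power relator `x_i ^ (ord i)` -/
def powWord (n i : ℕ) : Word := List.replicate n (2 * i)

section

variable {L : Type*} [Group L]

theorem ev_powWord (t : ℕ → L) (n i : ℕ) : ev t (powWord n i) = t i ^ n :=
  ev_replicate_even t i n

theorem ev_srel (t : ℕ → L) (r : SRel) :
    ev t r.word = ev t r.W * t r.i * (ev t r.W)⁻¹ *
      (if r.neg then t r.j ^ r.f else (t r.j ^ r.f)⁻¹) := by
  unfold SRel.word
  rw [ev_append, ev_cons, ev_append, ev_winv, lv_two_mul]
  cases r.neg with
  | true =>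
    simp only [if_true]
    rw [ev_replicate_even]
    group
  | false =>
    simp only [Bool.false_eq_true, if_false]
    rw [ev_replicate_odd]
    group

theorem ev_srel_eq_one_iff (t : ℕ → L) (r : SRel) :
    ev t r.word = 1 ↔
      ev t r.W * t r.i * (ev t r.W)⁻¹ = t r.j ^ (if r.neg then -(r.f : ℤ) else (r.f : ℤ)) := by
  rw [ev_srel]
  cases r.neg with
  | true =>
    simp only [if_true, zpow_neg, zpow_natCast]
    rw [mul_eq_one_iff_eq_inv]
  | false =>
    simp only [Bool.false_eq_true, if_false, zpow_natCast]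
    rw [mul_eq_one_iff_eq_inv, inv_inv]

end

/-- validity of a relator list made of power relators and conjugation relators -/
theorem rels_valid {L : Type*} [Group L] (t : ℕ → L) (pw : List (ℕ × ℕ)) (srels : List SRel)
    (hpow : ∀ q ∈ pw, t q.2 ^ q.1 = 1) (hs : ∀ r ∈ srels, ev t r.word = 1) :
    ∀ r ∈ pw.map (fun q => powWord q.1 q.2) ++ srels.map SRel.word, ev t r = 1 := by
  intro r hr
  rw [List.mem_append, List.mem_map, List.mem_map] at hr
  rcases hr with ⟨q, hq, rfl⟩ | ⟨q, hq, rfl⟩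
  · rw [ev_powWord]
    exact hpow q hq
  · exact hs q hq

/-- one level of the chain of coset enumerations -/
theorem cert_step {L : Type*} [Group L] [Finite L] (t : ℕ → L) (C : Cert) (hC : C.check = true)
    (hrel : ∀ r ∈ C.rels, ev t r = 1) (B : ℕ)
    (hB : Nat.card (Subgroup.closure {y | ∃ i < C.j0, y = t i}) ≤ B) :
    Nat.card (Subgroup.closure {y | ∃ i < C.k, y = t i}) ≤ C.n * B := by
  have h := cert_sound t (Subgroup.closure {y | ∃ i < C.j0, y = t i}) C hC
    (fun i hi => Subgroup.subset_closure ⟨i, hi, rfl⟩) hrel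
  exact le_trans h (Nat.mul_le_mul_left _ hB)

/-- conjugation relations lift to central extensions with `p`-group kernel -/
theorem lift_srel {Γ : Type*} {G : Type*} [Group Γ] [Group G] (σ : Γ →* G) (p : ℕ)
    (hcen : σ.ker ≤ Subgroup.center Γ) (hpk : ∀ z ∈ σ.ker, ∃ n : ℕ, z ^ (p ^ n) = 1)
    (t : ℕ → Γ) (ord : ℕ → ℕ) (ht : ∀ i, t i ^ ord i = 1) (hcop : ∀ i, (ord i).Coprime p)
    (r : SRel) (h : ev (fun i => σ (t i)) r.word = 1) : ev t r.word = 1 := by
  rw [ev_srel_eq_one_iff] at h ⊢
  rw [← ev_map_hom σ t r.W] at h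
  exact safe_rel σ p hcen hpk (ht r.i) (ht r.j) (hcop r.i) (hcop r.j) _ h

theorem map_closure_eq {Γ : Type*} {G : Type*} [Group Γ] [Group G] (σ : Γ →* G) (k : ℕ)
    (t : ℕ → Γ) (g : ℕ → G) (hσt : ∀ i, σ (t i) = g i) :
    (Subgroup.closure {y | ∃ i < k, y = t i}).map σ = Subgroup.closure {y | ∃ i < k, y = g i} := by
  rw [MonoidHom.map_closure]
  congr 1
  ext y
  constructor
  · rintro ⟨x, ⟨i, hi, rfl⟩, rfl⟩
    exact ⟨i, hi, hσt i⟩
  · rintro ⟨i, hi, rfl⟩
    exact ⟨t i, ⟨i, hi, rfl⟩, hσt i⟩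

/-- a homomorphism is injective on a generated subgroup that is not larger than its image -/
theorem inj_on_closure {Γ : Type*} {G : Type*} [Group Γ] [Group G] [Finite Γ] (σ : Γ →* G)
    (k : ℕ) (t : ℕ → Γ) (g : ℕ → G) (hσt : ∀ i, σ (t i) = g i)
    (hcard : Nat.card (Subgroup.closure {y | ∃ i < k, y = t i}) ≤
      Nat.card (Subgroup.closure {y | ∃ i < k, y = g i})) :
    ∀ x ∈ Subgroup.closure {y | ∃ i < k, y = t i}, σ x = 1 → x = 1 := by
  set T : Subgroup Γ := Subgroup.closure {y | ∃ i < k, y = t i} with hT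
  set K : Subgroup G := Subgroup.closure {y | ∃ i < k, y = g i} with hK
  have hmap : T.map σ = K := map_closure_eq σ k t g hσt
  let τ : T → K := fun x => ⟨σ x.1, by rw [← hmap]; exact ⟨x.1, x.2, rfl⟩⟩
  have hτs : Function.Surjective τ := by
    rintro ⟨y, hy⟩
    rw [← hmap] at hy
    obtain ⟨x, hx, rfl⟩ := hy
    exact ⟨⟨x, hx⟩, rfl⟩
  have hτb : Function.Bijective τ := by
    have hge : Nat.card K ≤ Nat.card T := Nat.card_le_card_of_surjective τ hτs
    have : Finite K := Finite.of_surjective τ hτs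
    exact (Nat.bijective_iff_surjective_and_card τ).2 ⟨hτs, le_antisymm hcard hge⟩
  intro x hx h1
  have : τ ⟨x, hx⟩ = τ ⟨1, T.one_mem⟩ := by
    apply Subtype.ext
    show σ x = σ 1
    rw [h1, map_one]
  have := hτb.1 this
  exact congrArg Subtype.val this

/-- words in the first `m` generators evaluate inside any subgroup containing these generators -/
theorem ev_mem_of_letters {L : Type*} [Group L] (t : ℕ → L) (T : Subgroup L) (m : ℕ)
    (hT : ∀ i < m, t i ∈ T) (w : Word) (hw : ∀ l ∈ w, l < 2 * m) : ev t w ∈ T := by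
  induction w with
  | nil => exact T.one_mem
  | cons l w ih =>
    rw [ev_cons]
    refine T.mul_mem ?_ (ih fun l' hl' => hw l' (List.mem_cons_of_mem _ hl'))
    have hl := hw l List.mem_cons_self
    unfold lv
    split_ifs
    · exact hT _ (by omega)
    · exact T.inv_mem (hT _ (by omega))

/-- the kernel of a stem extension is trivial as soon as lifts of generators generate a subgroup
that is not larger than the base -/
theorem ker_eq_bot_of_card {Γ : Type*} {G : Type*} [Group Γ] [Group G] [Finite Γ] (σ : Γ →* G)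
    (hσ : Cfsg.IsStemExtension σ) (k : ℕ) (g : ℕ → G) (t : ℕ → Γ) (hσt : ∀ i, σ (t i) = g i)
    (hgen : Subgroup.closure {y | ∃ i < k, y = g i} = ⊤)
    (hcard : Nat.card (Subgroup.closure {y | ∃ i < k, y = t i}) ≤ Nat.card G) : σ.ker = ⊥ := by
  refine ker_eq_bot_of_lifts σ hσ (Subgroup.closure {y | ∃ i < k, y = t i}) ?_ ?_
  · rw [map_closure_eq σ k t g hσt, hgen]
  · apply inj_on_closure σ k t g hσt
    rw [hgen, Subgroup.card_top]
    exact hcard

/-- **Main criterion.** -/
theorem ker_eq_bot_of_safe {G : Type u} [Group G] [Finite G] (p : ℕ) [hp : Fact p.Prime]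
    (k : ℕ) (g : ℕ → G) (ord : ℕ → ℕ)
    (hord : ∀ i, g i ^ ord i = 1) (hcop : ∀ i, (ord i).Coprime p)
    (hgen : Subgroup.closure {y | ∃ i < k, y = g i} = ⊤)
    (srels : List SRel) (hvalid : ∀ r ∈ srels, ev g r.word = 1)
    (hbound : ∀ (L : Type u) [Group L] [Finite L] (t : ℕ → L), (∀ i, t i ^ ord i = 1) →
      (∀ r ∈ srels, ev t r.word = 1) →
      Nat.card (Subgroup.closure {y | ∃ i < k, y = t i}) ≤ Nat.card G)
    {Γ : Type u} [Group Γ] [Finite Γ] (σ : Γ →* G) (hσ : Cfsg.IsStemExtension σ)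
    (hpk : ∀ z ∈ σ.ker, ∃ n : ℕ, z ^ (p ^ n) = 1) : σ.ker = ⊥ := by
  obtain ⟨hsurj, hcen, hcomm⟩ := hσ
  have hex : ∀ i, ∃ γ : Γ, σ γ = g i ∧ γ ^ ord i = 1 := fun i =>
    good_exists σ p hsurj hcen hpk (g i) (ord i) (hord i) (hcop i)
  choose t hσt ht using hex
  have hfun : (fun i => σ (t i)) = g := funext hσt
  have hrelΓ : ∀ r ∈ srels, ev t r.word = 1 := by
    intro r hr
    apply lift_srel σ p hcen hpk t ord ht hcop r
    rw [hfun]
    exact hvalid r hr
  have hcard := hbound Γ t ht hrelΓ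
  set T : Subgroup Γ := Subgroup.closure {y | ∃ i < k, y = t i} with hT
  have hmap : T.map σ = ⊤ := by
    rw [hT, MonoidHom.map_closure, ← hgen]
    congr 1
    ext y
    constructor
    · rintro ⟨x, ⟨i, hi, rfl⟩, rfl⟩
      exact ⟨i, hi, hσt i⟩
    · rintro ⟨i, hi, rfl⟩
      exact ⟨t i, ⟨i, hi, rfl⟩, hσt i⟩
  -- the restriction of `σ` to `T` is surjective, hence bijective by the cardinality bound
  let τ : T → G := fun x => σ x.1
  have hτs : Function.Surjective τ := by
    intro y
    have : y ∈ T.map σ := by rw [hmap]; trivial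
    obtain ⟨x, hx, rfl⟩ := this
    exact ⟨⟨x, hx⟩, rfl⟩
  have hτb : Function.Bijective τ := by
    have hfin : Finite T := inferInstance
    have hle : Nat.card T ≤ Nat.card G := hcard
    have hge : Nat.card G ≤ Nat.card T := Nat.card_le_card_of_surjective τ hτs
    exact (Nat.bijective_iff_surjective_and_card τ).2 ⟨hτs, le_antisymm hle hge⟩
  refine ker_eq_bot_of_lifts σ ⟨hsurj, hcen, hcomm⟩ T hmap ?_
  intro x hx h1
  have : τ ⟨x, hx⟩ = τ ⟨1, T.one_mem⟩ := by
    show σ x = σ 1
    rw [h1, map_one]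
  have := hτb.1 this
  exact congrArg Subtype.val this

/-- Final assembly: trivial Schur multiplier from cyclic Sylow subgroups at the primes in `cyc`
and the criterion `ker_eq_bot_of_safe` at the primes in `ps`. -/
theorem hasCyclic_one_of_primes {G : Type u} [Group G] [Finite G]
    (hcases : ∀ p : ℕ, p.Prime → p ∣ Nat.card G →
      (∃ (g : G) (a m : ℕ), orderOf g = p ^ a ∧ m * p ^ a = Nat.card G ∧ ¬ p ∣ m) ∨
      (∀ (Γ' : Type u) [Group Γ'] [Finite Γ'] (σ' : Γ' →* G), Cfsg.IsStemExtension σ' →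
        (∀ z ∈ σ'.ker, ∃ n : ℕ, z ^ (p ^ n) = 1) → σ'.ker = ⊥)) :
    Cfsg.HasCyclicSchurMultiplier G 1 := by
  apply hasCyclic_one
  intro Γ _ _ σ hσ
  apply ker_eq_bot_of_forall_prime σ hσ
  intro p hp hpd z hz
  rcases hcases p hp hpd with ⟨g, a, m, hg, hm, hpm⟩ | h
  · exact not_dvd_of_cyclic_sylow σ hσ p hp g a m hg hm hpm hz
  · have : Fact p.Prime := ⟨hp⟩
    exact not_dvd_orderOf_of_pgroup_case p h σ hσ z hz

end Cfsg.Agent.Lib.Helper89.SafePres
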