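import Mathlib

set_option autoImplicit false
set_option linter.unusedSimpArgs false
set_option linter.unusedVariables false

namespace Cfsg.Agent.Lib.Helper89.A5Pres

/-- the 60 normal-form words -/
def nfw : Fin 60 → List (Fin 2) :=
  ![[], [0], [1], [0, 0], [0, 1], [1, 0], [1, 1], [0, 0, 1], [0, 1, 0], [0, 1, 1], [1, 0, 0], [1, 1, 0], [1, 1, 1], [0, 0, 1, 0], [0, 0, 1, 1], [0, 1, 0, 0], [0, 1, 1, 0], [0, 1, 1, 1], [1, 0, 0, 1], [1, 1, 0, 0], [1, 1, 1, 0], [0, 0, 1, 0, 0], [0, 0, 1, 1, 0], [0, 0, 1, 1, 1], [0, 1, 0, 0, 1], [0, 1, 1, 0, 0], [0, 1, 1, 1, 0], [1, 0, 0, 1, 1], [1, 1, 0, 0, 1], [0, 0, 1, 0, 0, 1], [0, 0, 1, 1, 0, 0], [0, 0, 1, 1, 1, 0], [0, 1, 0, 0, 1, 1], [0, 1, 1, 0, 0, 1], [1, 0, 0, 1, 1, 0], [1, 0, 0, 1, 1, 1], [1, 1, 0, 0, 1, 1], [0, 0, 1, 0, 0, 1, 1], [0, 0, 1, 1, 0, 0, 1], [0, 1, 0, 0, 1, 1, 0], [0, 1, 0, 0, 1, 1, 1], [0, 1, 1, 0, 0, 1, 1], [1, 0, 0, 1, 1, 0, 0], [1, 0, 0, 1, 1, 1, 0], [1, 1, 0,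 0, 1, 1, 0], [0, 0, 1, 0, 0, 1, 1, 0], [0, 0, 1, 0, 0, 1, 1, 1], [0, 0, 1, 1, 0, 0, 1, 1], [0, 1, 0, 0, 1, 1, 0, 0], [0, 1, 0, 0, 1, 1, 1, 0], [0, 1, 1, 0, 0, 1, 1, 0], [1, 0, 0, 1, 1, 0, 0, 1], [1, 1, 0, 0, 1, 1, 0, 0], [0, 0, 1, 0, 0, 1, 1, 0, 0], [0, 0, 1, 0, 0, 1, 1, 1, 0], [0, 0, 1, 1, 0, 0, 1, 1, 0], [0, 1, 1, 0, 0, 1, 1, 0, 0], [1, 0, 0, 1, 1, 0, 0, 1, 1], [1, 1, 0, 0, 1, 1, 0, 0, 1], [0, 1, 1, 0, 0, 1, 1, 0, 0, 1]]

/-- left multiplication table on normal forms -/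
def mulTbl : Fin 60 → Fin 2 → Fin 60 :=
  ![![1, 2], ![3, 5], ![4, 6], ![0, 10], ![7, 3], ![8, 11], ![9, 12], ![2, 18], ![13, 0], ![14, 7], ![15, 19], ![16, 20], ![17, 8], ![5, 23], ![6, 27], ![21, 1], ![22, 13], ![23, 14], ![24, 28], ![25, 24], ![26, 15], ![10, 31], ![11, 34], ![12, 35], ![29, 4], ![30, 21], ![31, 22], ![32, 36], ![33, 32], ![18, 30], ![19, 42], ![20, 43], ![37, 9], ![38, 29], ![39, 44], ![40, 39], ![41, 40], ![27, 38], ![28, 51], ![45, 16], ![46, 17], ![47, 37], ![48, 52], ![49, 48], ![50, 49], ![34, 46], ![35, 47], ![36, 57], ![53, 25], ![54, 26], ![55, 45], ![52, 58], ![56, 33], ![42, 54], ![43, 55], ![44, 59], ![51, 53], ![58, 50], ![59, 41], ![57, 56]]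

variable {H : Type*} [Group H]

/-- the generator attached to a letter -/
def gen (X Y : H) : Fin 2 → H := ![X, Y]

/-- evaluation of a word -/
def ev (X Y : H) : List (Fin 2) → H
  | [] => 1
  | k :: w => gen X Y k * ev X Y w

theorem table_step (X Y : H) (e1 : ∀ t : H, X * (X * (X * t)) = t)
    (e2 : ∀ t : H, Y * (Y * (Y * (Y * (Y * t)))) = t) (e3 : ∀ t : H, X * (Y * (X * (Y * t))) = t) :
    ∀ (i : Fin 60) (k : Fin 2), gen X Y k * ev X Y (nfw i) = ev X Y (nfw (mulTbl i k)) := by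
  have r0 : ∀ t : H, X * (X * (X * t)) = t := by
    intro t
    have hp := e1 t
    have hu : X * (X * (X * t)) = X * (X * (X * t)) := rfl
    have hv : t = t := rfl
    exact hu.symm.trans (hp.trans hv)
  have r1 : ∀ t : H, Y * (Y * (Y * (Y * (Y * t)))) = t := by
    intro t
    have hp := e2 t
    have hu : Y * (Y * (Y * (Y * (Y * t)))) = Y * (Y * (Y * (Y * (Y * t)))) := rfl
    have hv : t = t := rfl
    exact hu.symm.trans (hp.trans hv)
  have r2 : ∀ t : H, X * (Y * (X * (Y * t))) = t := by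
    intro t
    have hp := e3 t
    have hu : X * (Y * (X * (Y * t))) = X * (Y * (X * (Y * t))) := rfl
    have hv : t = t := rfl
    exact hu.symm.trans (hp.trans hv)
  have r3 : ∀ t : H, Y * (X * (Y * t)) = X * (X * t) := by
    intro t
    have hp1 : X * (X * (X * (Y * (X * (Y * t))))) = Y * (X * (Y * t)) := by
      rw [r0 (Y * (X * (Y * t)))]
    have hp2 : X * (X * (X * (Y * (X * (Y * t))))) = X * (X * t) := by
      rw [r2 t]
    have hp := hp1.symm.trans hp2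
    have hu : Y * (X * (Y * t)) = Y * (X * (Y * t)) := rfl
    have hv : X * (X * t) = X * (X * t) := rfl
    exact hu.symm.trans (hp.trans hv)
  have r4 : ∀ t : H, Y * (Y * (Y * (Y * (X * (X * t))))) = X * (Y * t) := by
    intro t
    have hp1 : Y * (Y * (Y * (Y * (Y * (X * (Y * t)))))) = X * (Y * t) := by
      rw [r1 (X * (Y * t))]
    have hp2 : Y * (Y * (Y * (Y * (Y * (X * (Y * t)))))) = Y * (Y * (Y * (Y * (X * (X * t))))) := by
      rw [r3 t]
    have hp := hp1.symm.trans hp2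
    have hu : X * (Y * t) = X * (Y * t) := rfl
    have hv : Y * (Y * (Y * (Y * (X * (X * t))))) = Y * (Y * (Y * (Y * (X * (X * t))))) := rfl
    exact hv.symm.trans (hp.symm.trans hu)
  have r5 : ∀ t : H, X * (X * (Y * (Y * (Y * (Y * t))))) = Y * (X * t) := by
    intro t
    have hp1 : Y * (X * (Y * (Y * (Y * (Y * (Y * t)))))) = X * (X * (Y * (Y * (Y * (Y * t))))) := by
      rw [r3 (Y * (Y * (Y * (Y * t))))]
    have hp2 : Y * (X * (Y * (Y * (Y * (Y * (Y * t)))))) = Y * (X * t) := by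
      rw [r1 t]
    have hp := hp1.symm.trans hp2
    have hu : X * (X * (Y * (Y * (Y * (Y * t))))) = X * (X * (Y * (Y * (Y * (Y * t))))) := rfl
    have hv : Y * (X * t) = Y * (X * t) := rfl
    exact hu.symm.trans (hp.trans hv)
  have r6 : ∀ t : H, X * (Y * (Y * (Y * (Y * t)))) = X * (X * (Y * (X * t))) := by
    intro t
    have hp1 : X * (X * (X * (X * (Y * (Y * (Y * (Y * t))))))) = X * (Y * (Y * (Y * (Y * t)))) := by
      rw [r0 (X * (Y * (Y * (Y * (Y * t)))))]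
    have hp2 : X * (X * (X * (X * (Y * (Y * (Y * (Y * t))))))) = X * (X * (Y * (X * t))) := by
      rw [r5 t]
    have hp := hp1.symm.trans hp2
    have hu : X * (Y * (Y * (Y * (Y * t)))) = X * (Y * (Y * (Y * (Y * t)))) := rfl
    have hv : X * (X * (Y * (X * t))) = X * (X * (Y * (X * t))) := rfl
    exact hu.symm.trans (hp.trans hv)
  have r7 : ∀ t : H, Y * (Y * (Y * (Y * t))) = X * (Y * (X * t)) := by
    intro t
    have hp1 : X * (X * (X * (Y * (Y * (Y * (Y * t)))))) = Y * (Y * (Y * (Y * t))) := by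
      rw [r0 (Y * (Y * (Y * (Y * t))))]
    have hp2 : X * (X * (X * (Y * (Y * (Y * (Y * t)))))) = X * (Y * (X * t)) := by
      rw [r5 t]
    have hp := hp1.symm.trans hp2
    have hu : Y * (Y * (Y * (Y * t))) = Y * (Y * (Y * (Y * t))) := rfl
    have hv : X * (Y * (X * t)) = X * (Y * (X * t)) := rfl
    exact hu.symm.trans (hp.trans hv)
  have r8 : ∀ t : H, Y * (X * (X * (Y * (X * t)))) = X * (X * (Y * (Y * (Y * t)))) := by
    intro t
    have hp1 : Y * (X * (Y * (Y * (Y * (Y * t))))) = X * (X * (Y * (Y * (Y * t)))) := by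
      rw [r3 (Y * (Y * (Y * t)))]
    have hp2 : Y * (X * (Y * (Y * (Y * (Y * t))))) = Y * (X * (X * (Y * (X * t)))) := by
      rw [r7 t]
    have hp := hp1.symm.trans hp2
    have hu : X * (X * (Y * (Y * (Y * t)))) = X * (X * (Y * (Y * (Y * t)))) := rfl
    have hv : Y * (X * (X * (Y * (X * t)))) = Y * (X * (X * (Y * (X * t)))) := rfl
    exact hv.symm.trans (hp.symm.trans hu)
  have r9 : ∀ t : H, Y * (Y * (Y * (X * (X * t)))) = X * (Y * (X * (X * (Y * t)))) := by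
    intro t
    have hp1 : Y * (Y * (Y * (Y * (X * (Y * t))))) = X * (Y * (X * (X * (Y * t)))) := by
      rw [r7 (X * (Y * t))]
    have hp2 : Y * (Y * (Y * (Y * (X * (Y * t))))) = Y * (Y * (Y * (X * (X * t)))) := by
      rw [r3 t]
    have hp := hp1.symm.trans hp2
    have hu : X * (Y * (X * (X * (Y * t)))) = X * (Y * (X * (X * (Y * t)))) := rfl
    have hv : Y * (Y * (Y * (X * (X * t)))) = Y * (Y * (Y * (X * (X * t)))) := rfl
    exact hv.symm.trans (hp.symm.trans hu)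
  have r10 : ∀ t : H, Y * (Y * (X * (X * (Y * (Y * (Y * t)))))) = X * (Y * (X * (X * (Y * (Y * (X * t)))))) := by
    intro t
    have hp1 : Y * (Y * (Y * (X * (X * (Y * (X * t)))))) = X * (Y * (X * (X * (Y * (Y * (X * t)))))) := by
      rw [r9 (Y * (X * t))]
    have hp2 : Y * (Y * (Y * (X * (X * (Y * (X * t)))))) = Y * (Y * (X * (X * (Y * (Y * (Y * t)))))) := by
      rw [r8 t]
    have hp := hp1.symm.trans hp2
    have hu : X * (Y * (X * (X * (Y * (Y * (X * t)))))) = X * (Y * (X * (X * (Y * (Y * (X * t)))))) := rfl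
    have hv : Y * (Y * (X * (X * (Y * (Y * (Y * t)))))) = Y * (Y * (X * (X * (Y * (Y * (Y * t)))))) := rfl
    exact hv.symm.trans (hp.symm.trans hu)
  have r11 : ∀ t : H, X * (Y * (X * (X * (Y * (Y * (X * (X * (Y * t)))))))) = Y * (Y * (X * (X * (Y * (Y * (X * (X * t))))))) := by
    intro t
    have hp1 : Y * (Y * (X * (X * (Y * (Y * (Y * (X * (Y * t)))))))) = X * (Y * (X * (X * (Y * (Y * (X * (X * (Y * t)))))))) := by
      rw [r10 (X * (Y * t))]
    have hp2 : Y * (Y * (X * (X * (Y * (Y * (Y * (X * (Y * t)))))))) = Y * (Y * (X * (X * (Y * (Y * (X * (X * t))))))) := by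
      rw [r3 t]
    have hp := hp1.symm.trans hp2
    have hu : X * (Y * (X * (X * (Y * (Y * (X * (X * (Y * t)))))))) = X * (Y * (X * (X * (Y * (Y * (X * (X * (Y * t)))))))) := rfl
    have hv : Y * (Y * (X * (X * (Y * (Y * (X * (X * t))))))) = Y * (Y * (X * (X * (Y * (Y * (X * (X * t))))))) := rfl
    exact hu.symm.trans (hp.trans hv)
  have r12 : ∀ t : H, X * (X * (Y * (Y * (X * (X * (Y * (Y * (X * (X * t))))))))) = Y * (X * (X * (Y * (Y * (X * (X * (Y * t))))))) := by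
    intro t
    have hp1 : X * (X * (X * (Y * (X * (X * (Y * (Y * (X * (X * (Y * t)))))))))) = Y * (X * (X * (Y * (Y * (X * (X * (Y * t))))))) := by
      rw [r0 (Y * (X * (X * (Y * (Y * (X * (X * (Y * t))))))))]
    have hp2 : X * (X * (X * (Y * (X * (X * (Y * (Y * (X * (X * (Y * t)))))))))) = X * (X * (Y * (Y * (X * (X * (Y * (Y * (X * (X * t))))))))) := by
      rw [r11 t]
    have hp := hp1.symm.trans hp2
    have hu : Y * (X * (X * (Y * (Y * (X * (X * (Y * t))))))) = Y * (X * (X * (Y * (Y * (X * (X * (Y * t))))))) := rfl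
    have hv : X * (X * (Y * (Y * (X * (X * (Y * (Y * (X * (X * t))))))))) = X * (X * (Y * (Y * (X * (X * (Y * (Y * (X * (X * t))))))))) := rfl
    exact hv.symm.trans (hp.symm.trans hu)
  have r13 : ∀ t : H, Y * (Y * (X * (X * (Y * (Y * (X * (X * (Y * (Y * t))))))))) = X * (Y * (Y * (X * (X * (Y * (Y * (X * t))))))) := by
    intro t
    have hp1 : Y * (X * (X * (Y * (X * (X * (Y * (Y * (X * (X * (Y * (Y * (X * (X * t))))))))))))) = X * (X * (Y * (Y * (Y * (X * (Y * (Y * (X * (X * (Y * (Y * (X * (X * t))))))))))))) := by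
      rw [r8 (X * (Y * (Y * (X * (X * (Y * (Y * (X * (X * t)))))))))]
    have hp2 : Y * (X * (X * (Y * (X * (X * (Y * (Y * (X * (X * (Y * (Y * (X * (X * t))))))))))))) = Y * (X * (X * (Y * (Y * (X * (X * (Y * (Y * (X * (X * (Y * t))))))))))) := by
      rw [r12 t]
    have hp := hp1.symm.trans hp2
    have hu : X * (X * (Y * (Y * (Y * (X * (Y * (Y * (X * (X * (Y * (Y * (X * (X * t))))))))))))) = X * (Y * (Y * (X * (X * (Y * (Y * (X * t))))))) := by
      rw [r3 (Y * (X * (X * (Y * (Y * (X * (X * t))))))), r8 (X * (Y * (Y * (X * (X * t))))), r3 (Y * (X * (X * t))), r11 (X * (X * t)), r0 (X * t)]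
    have hv : Y * (X * (X * (Y * (Y * (X * (X * (Y * (Y * (X * (X * (Y * t))))))))))) = Y * (Y * (X * (X * (Y * (Y * (X * (X * (Y * (Y * t))))))))) := by
      rw [r12 (Y * t)]
    exact hv.symm.trans (hp.symm.trans hu)
  have r14 : ∀ t : H, Y * (X * (X * (Y * (Y * (X * (X * (Y * (Y * (X * t))))))))) = X * (Y * (Y * (X * (X * (Y * (Y * (X * (X * (Y * t))))))))) := by
    intro t
    have hp1 : Y * (X * (Y * (Y * (X * (X * (Y * (Y * (X * (X * (Y * (Y * t))))))))))) = X * (X * (Y * (X * (X * (Y * (Y * (X * (X * (Y * (Y * t)))))))))) := by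
      rw [r3 (Y * (X * (X * (Y * (Y * (X * (X * (Y * (Y * t)))))))))]
    have hp2 : Y * (X * (Y * (Y * (X * (X * (Y * (Y * (X * (X * (Y * (Y * t))))))))))) = Y * (X * (X * (Y * (Y * (X * (X * (Y * (Y * (X * t))))))))) := by
      rw [r13 t]
    have hp := hp1.symm.trans hp2
    have hu : X * (X * (Y * (X * (X * (Y * (Y * (X * (X * (Y * (Y * t)))))))))) = X * (Y * (Y * (X * (X * (Y * (Y * (X * (X * (Y * t))))))))) := by
      rw [r11 (Y * t)]
    have hv : Y * (X * (X * (Y * (Y * (X * (X * (Y * (Y * (X * t))))))))) = Y * (X * (X * (Y * (Y * (X * (X * (Y * (Y * (X * t))))))))) := rfl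
    exact hv.symm.trans (hp.symm.trans hu)
  intro i k
  fin_cases i <;> fin_cases k <;>
    simp only [Fin.reduceFinMk, Fin.isValue, Fin.zero_eta, Fin.mk_one, nfw, mulTbl, ev, gen,
      Matrix.cons_val_zero, Matrix.cons_val_one, Matrix.cons_val, r0, r1, r2, r3, r4, r5, r6, r7, r8, r9, r10, r11, r12, r13, r14]

end Cfsg.Agent.Lib.Helper89.A5Pres
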