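import Mathlib
import Cfsg.Agent.Lib.Helper89.A5Pres

set_option autoImplicit false

namespace Cfsg.Agent.Lib.Helper89.A5Iso

open Cfsg.Agent.Lib.Helper89.A5Pres Equiv

/-- a 3-cycle -/
def a' : Perm (Fin 5) := swap 0 1 * swap 1 2

/-- a 5-cycle -/
def b' : Perm (Fin 5) := swap 0 2 * swap 2 4 * swap 4 1 * swap 1 3

theorem a'_mem : a' ∈ alternatingGroup (Fin 5) := by
  rw [Equiv.Perm.mem_alternatingGroup, a', map_mul, Equiv.Perm.sign_swap (by decide),
    Equiv.Perm.sign_swap (by decide)]
  rfl

theorem b'_mem : b' ∈ alternatingGroup (Fin 5) := by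
  rw [Equiv.Perm.mem_alternatingGroup, b', map_mul, map_mul, map_mul, Equiv.Perm.sign_swap (by decide),
    Equiv.Perm.sign_swap (by decide), Equiv.Perm.sign_swap (by decide), Equiv.Perm.sign_swap (by decide)]
  rfl

/-- a 3-cycle in the alternating group -/
def aA : alternatingGroup (Fin 5) := ⟨a', a'_mem⟩

/-- a 5-cycle in the alternating group -/
def bA : alternatingGroup (Fin 5) := ⟨b', b'_mem⟩

set_option maxRecDepth 100000 in
theorem evS_inj : ∀ i j : Fin 60, ev a' b' (nfw i) = ev a' b' (nfw j) → i = j := by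
  decide

theorem rel1 : ∀ t : Perm (Fin 5), a' * (a' * (a' * t)) = t := by
  have : a' * a' * a' = 1 := by decide
  intro t
  rw [← mul_assoc, ← mul_assoc, this, one_mul]

theorem rel2 : ∀ t : Perm (Fin 5), b' * (b' * (b' * (b' * (b' * t)))) = t := by
  have : b' * b' * b' * b' * b' = 1 := by decide
  intro t
  rw [← mul_assoc, ← mul_assoc, ← mul_assoc, ← mul_assoc, this, one_mul]

theorem rel3 : ∀ t : Perm (Fin 5), a' * (b' * (a' * (b' * t))) = t := by
  have : a' * b' * a' * b' = 1 := by decide
  intro t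
  rw [← mul_assoc, ← mul_assoc, ← mul_assoc, this, one_mul]

/-- the relators -/
abbrev rels : Set (FreeGroup (Fin 2)) :=
  {FreeGroup.of (0 : Fin 2) ^ 3, FreeGroup.of (1 : Fin 2) ^ 5, (FreeGroup.of (0 : Fin 2) * FreeGroup.of 1) ^ 2}

/-- the first generator of the presented group -/
def X : PresentedGroup rels := PresentedGroup.of 0

/-- the second generator of the presented group -/
def Y : PresentedGroup rels := PresentedGroup.of 1

theorem relP1 : ∀ t : PresentedGroup rels, X * (X * (X * t)) = t := by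
  have h : X * X * X = 1 := by
    have h := PresentedGroup.one_of_mem (rels := rels) (x := FreeGroup.of 0 ^ 3) (by simp)
    rw [map_pow] at h
    rw [← h, pow_succ, pow_two]
    rfl
  intro t
  rw [← mul_assoc, ← mul_assoc, h, one_mul]

theorem relP2 : ∀ t : PresentedGroup rels, Y * (Y * (Y * (Y * (Y * t)))) = t := by
  have h : Y * Y * Y * Y * Y = 1 := by
    have h := PresentedGroup.one_of_mem (rels := rels) (x := FreeGroup.of 1 ^ 5) (by simp)
    rw [map_pow] at h
    rw [← h, pow_succ, pow_succ, pow_succ, pow_two]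
    rfl
  intro t
  rw [← mul_assoc, ← mul_assoc, ← mul_assoc, ← mul_assoc, h, one_mul]

theorem relP3 : ∀ t : PresentedGroup rels, X * (Y * (X * (Y * t))) = t := by
  have h : X * Y * X * Y = 1 := by
    have h := PresentedGroup.one_of_mem (rels := rels) (x := (FreeGroup.of 0 * FreeGroup.of 1) ^ 2) (by simp)
    rw [map_pow, map_mul] at h
    rw [← h, pow_two, ← mul_assoc]
    rfl
  intro t
  rw [← mul_assoc, ← mul_assoc, ← mul_assoc, h, one_mul]

theorem val_ev (w : List (Fin 2)) : ((ev aA bA w : alternatingGroup (Fin 5)) : Perm (Fin 5)) = ev a' b' w := by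
  induction w with
  | nil => rfl
  | cons k w ih =>
    show ((gen aA bA k * ev aA bA w : alternatingGroup (Fin 5)) : Perm (Fin 5)) = gen a' b' k * ev a' b' w
    rw [Subgroup.coe_mul, ih]
    congr 1
    fin_cases k <;> rfl

theorem evA_inj (i j : Fin 60) (h : ev aA bA (nfw i) = ev aA bA (nfw j)) : i = j := by
  apply evS_inj
  rw [← val_ev, ← val_ev, h]

theorem relA (r : FreeGroup (Fin 2)) (hr : r ∈ rels) : FreeGroup.lift ![aA, bA] r = 1 := by
  rcases hr with rfl | rfl | rfl
  · apply Subtype.ext
    simp only [map_pow, FreeGroup.lift_apply_of, Matrix.cons_val_zero, Subgroup.coe_pow, Subgroup.coe_one]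
    show a' ^ 3 = 1
    decide
  · apply Subtype.ext
    simp only [map_pow, FreeGroup.lift_apply_of, Matrix.cons_val_one, Subgroup.coe_pow, Subgroup.coe_one]
    show b' ^ 5 = 1
    decide
  · apply Subtype.ext
    simp only [map_pow, map_mul, FreeGroup.lift_apply_of, Matrix.cons_val_zero, Matrix.cons_val_one,
      Subgroup.coe_pow, Subgroup.coe_mul, Subgroup.coe_one]
    show (a' * b') ^ 2 = 1
    decide

/-- the homomorphism to the alternating group -/
def phi : PresentedGroup rels →* alternatingGroup (Fin 5) := PresentedGroup.toGroup relA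

theorem phi_ev (w : List (Fin 2)) : phi (ev X Y w) = ev aA bA w := by
  induction w with
  | nil => exact map_one _
  | cons k w ih =>
    show phi (gen X Y k * ev X Y w) = gen aA bA k * ev aA bA w
    rw [map_mul, ih]
    congr 1
    fin_cases k
    · exact PresentedGroup.toGroup.of relA
    · exact PresentedGroup.toGroup.of relA

theorem exists_index (p : PresentedGroup rels) : ∃ i : Fin 60, p = ev X Y (nfw i) := by
  let S : Set (PresentedGroup rels) := Set.range fun i : Fin 60 => ev X Y (nfw i)
  have hX : ∀ s ∈ S, X * s ∈ S := by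
    rintro _ ⟨i, rfl⟩
    exact ⟨mulTbl i 0, (table_step X Y relP1 relP2 relP3 i 0).symm⟩
  have hY : ∀ s ∈ S, Y * s ∈ S := by
    rintro _ ⟨i, rfl⟩
    exact ⟨mulTbl i 1, (table_step X Y relP1 relP2 relP3 i 1).symm⟩
  have hXinv : X⁻¹ = X * X := by
    apply inv_eq_of_mul_eq_one_right
    have := relP1 1
    rwa [mul_one] at this
  have hYinv : Y⁻¹ = Y * (Y * (Y * Y)) := by
    apply inv_eq_of_mul_eq_one_right
    have := relP2 1
    rwa [mul_one] at this
  let H : Subgroup (PresentedGroup rels) :=
    { carrier := {p | (∀ s ∈ S, p * s ∈ S) ∧ (∀ s ∈ S, p⁻¹ * s ∈ S)}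
      mul_mem' := by
        rintro p q ⟨hp1, hp2⟩ ⟨hq1, hq2⟩
        refine ⟨fun s hs => ?_, fun s hs => ?_⟩
        · rw [mul_assoc]; exact hp1 _ (hq1 s hs)
        · rw [mul_inv_rev, mul_assoc]; exact hq2 _ (hp2 s hs)
      one_mem' := by
        refine ⟨fun s hs => ?_, fun s hs => ?_⟩
        · rwa [one_mul]
        · rwa [inv_one, one_mul]
      inv_mem' := by
        rintro p ⟨hp1, hp2⟩
        refine ⟨hp2, ?_⟩
        rwa [inv_inv] }
  have hgen : ∀ j : Fin 2, PresentedGroup.of j ∈ H := by
    intro j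
    fin_cases j
    · refine ⟨hX, fun s hs => ?_⟩
      show X⁻¹ * s ∈ S
      rw [hXinv, mul_assoc]
      exact hX _ (hX s hs)
    · refine ⟨hY, fun s hs => ?_⟩
      show Y⁻¹ * s ∈ S
      rw [hYinv, mul_assoc, mul_assoc, mul_assoc]
      exact hY _ (hY _ (hY _ (hY s hs)))
  have hp : p ∈ H := PresentedGroup.generated_by rels H hgen p
  have h1 : (1 : PresentedGroup rels) ∈ S := ⟨0, rfl⟩
  have := hp.1 1 h1
  rw [mul_one] at this
  obtain ⟨i, hi⟩ := this
  exact ⟨i, hi.symm⟩

theorem phi_bijective : Function.Bijective phi := by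
  constructor
  · intro p q hpq
    obtain ⟨i, rfl⟩ := exists_index p
    obtain ⟨j, rfl⟩ := exists_index q
    rw [phi_ev, phi_ev] at hpq
    rw [evA_inj i j hpq]
  · -- surjective by counting
    have hinj : Function.Injective (fun i : Fin 60 => ev aA bA (nfw i)) := fun i j h => evA_inj i j h
    have hcard : Fintype.card (alternatingGroup (Fin 5)) = 60 := by
      have h := two_mul_card_alternatingGroup (α := Fin 5)
      rw [Fintype.card_perm, Fintype.card_fin] at h
      have : (5 : ℕ).factorial = 120 := by decide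
      omega
    have hbij : Function.Bijective (fun i : Fin 60 => ev aA bA (nfw i)) := by
      rw [Fintype.bijective_iff_injective_and_card]
      exact ⟨hinj, by rw [hcard, Fintype.card_fin]⟩
    intro g
    obtain ⟨i, hi⟩ := hbij.2 g
    exact ⟨ev X Y (nfw i), by rw [phi_ev]; exact hi⟩

end Cfsg.Agent.Lib.Helper89.A5Iso
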