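import Mathlib
import Cfsg.Agent.Lib.Helper89.A5Iso

/-!
# Subgroups isomorphic to `A₅` from generators

If a group `G` has elements `X ≠ 1`, `Y` with `X ^ 3 = Y ^ 5 = (X * Y) ^ 2 = 1`, then `G` has a subgroup
isomorphic to the alternating group of degree 5.
-/

set_option autoImplicit false

namespace Cfsg.Agent.Lib.Helper89

theorem a5_rels_hold {G : Type*} [Group G] (X Y : G) (h3 : X ^ 3 = 1) (h5 : Y ^ 5 = 1)
    (h2 : (X * Y) ^ 2 = 1) : ∀ r ∈ Cfsg.Agent.Lib.Helper89.A5Iso.rels, FreeGroup.lift ![X, Y] r = 1 := by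
  intro r hr
  rcases hr with rfl | rfl | rfl
  · simpa using h3
  · simpa using h5
  · simpa using h2

/-- the presented group is `A₅` -/
noncomputable def a5PresEquiv : PresentedGroup Cfsg.Agent.Lib.Helper89.A5Iso.rels ≃* alternatingGroup (Fin 5) :=
  MulEquiv.ofBijective Cfsg.Agent.Lib.Helper89.A5Iso.phi Cfsg.Agent.Lib.Helper89.A5Iso.phi_bijective

/-- the homomorphism from `A₅` attached to a `(3,5,2)` generating pair -/
noncomputable def a5Hom {G : Type*} [Group G] (X Y : G) (h3 : X ^ 3 = 1) (h5 : Y ^ 5 = 1)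
    (h2 : (X * Y) ^ 2 = 1) : alternatingGroup (Fin 5) →* G :=
  (PresentedGroup.toGroup (a5_rels_hold X Y h3 h5 h2)).comp a5PresEquiv.symm.toMonoidHom

theorem a5Hom_injective {G : Type*} [Group G] (X Y : G) (h3 : X ^ 3 = 1) (h5 : Y ^ 5 = 1)
    (h2 : (X * Y) ^ 2 = 1) (hX : X ≠ 1) : Function.Injective (a5Hom X Y h3 h5 h2) := by
  have hsimple5 : IsSimpleGroup (alternatingGroup (Fin 5)) := alternatingGroup.isSimpleGroup (by simp)
  rw [← MonoidHom.ker_eq_bot_iff]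
  rcases (MonoidHom.normal_ker (a5Hom X Y h3 h5 h2)).eq_bot_or_eq_top with h | h
  · exact h
  · exfalso
    apply hX
    have hmem : a5PresEquiv Cfsg.Agent.Lib.Helper89.A5Iso.X ∈ MonoidHom.ker (a5Hom X Y h3 h5 h2) := by
      rw [h]; trivial
    rw [MonoidHom.mem_ker] at hmem
    rw [← hmem]
    show X = PresentedGroup.toGroup (a5_rels_hold X Y h3 h5 h2)
      (a5PresEquiv.symm (a5PresEquiv Cfsg.Agent.Lib.Helper89.A5Iso.X))
    rw [MulEquiv.symm_apply_apply]
    exact (PresentedGroup.toGroup.of (a5_rels_hold X Y h3 h5 h2) (x := 0)).symm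

theorem exists_subgroup_mulEquiv_alternatingGroup_five {G : Type*} [Group G] (X Y : G) (h3 : X ^ 3 = 1)
    (h5 : Y ^ 5 = 1) (h2 : (X * Y) ^ 2 = 1) (hX : X ≠ 1) :
    ∃ H : Subgroup G, Nonempty (H ≃* alternatingGroup (Fin 5)) :=
  ⟨(a5Hom X Y h3 h5 h2).range,
    ⟨(MonoidHom.ofInjective (a5Hom_injective X Y h3 h5 h2 hX)).symm⟩⟩

end Cfsg.Agent.Lib.Helper89
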