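import Mathlib

/-!
# Orders of elements of `SL₂` from their traces

For `A ∈ SL₂(R)`: trace `0` gives `A ^ 2 = -1`, trace `1` gives `A ^ 3 = -1`, trace `-1` gives `A ^ 3 = 1`,
trace `φ` with `φ² = φ + 1` gives `A ^ 5 = -1`, and trace `t` with `t² = 1 - t` gives `A ^ 5 = 1`.
-/

set_option autoImplicit false

namespace Cfsg.Agent.Lib.Helper89

variable {R : Type*} [CommRing R]

theorem sl2_entries (A : Matrix.SpecialLinearGroup (Fin 2) R) :
    ∃ a b c d : R, (A : Matrix (Fin 2) (Fin 2) R) = !![a, b; c, d] ∧ a * d - b * c = 1 := by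
  refine ⟨A.1 0 0, A.1 0 1, A.1 1 0, A.1 1 1, Matrix.eta_fin_two A.1, ?_⟩
  have := A.2
  rwa [Matrix.det_fin_two] at this

theorem sl2_trace (A : Matrix.SpecialLinearGroup (Fin 2) R) (a b c d : R)
    (hA : (A : Matrix (Fin 2) (Fin 2) R) = !![a, b; c, d]) :
    (A : Matrix (Fin 2) (Fin 2) R).trace = a + d := by
  rw [hA, Matrix.trace_fin_two_of]

theorem sl2_sq_of_trace_zero (A : Matrix.SpecialLinearGroup (Fin 2) R)
    (h : (A : Matrix (Fin 2) (Fin 2) R).trace = 0) : A ^ 2 = -1 := by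
  obtain ⟨a, b, c, d, hA, hdet⟩ := sl2_entries A
  rw [sl2_trace A a b c d hA] at h
  apply Subtype.ext
  simp only [Matrix.SpecialLinearGroup.coe_mul, Matrix.SpecialLinearGroup.coe_neg,
    Matrix.SpecialLinearGroup.coe_one, hA, pow_succ, pow_zero, one_mul]
  rw [Matrix.one_fin_two, Matrix.mul_fin_two]
  ext i j
  fin_cases i <;> fin_cases j <;> simp <;> grind

theorem sl2_cube_of_trace_one (A : Matrix.SpecialLinearGroup (Fin 2) R)
    (h : (A : Matrix (Fin 2) (Fin 2) R).trace = 1) : A ^ 3 = -1 := by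
  obtain ⟨a, b, c, d, hA, hdet⟩ := sl2_entries A
  rw [sl2_trace A a b c d hA] at h
  apply Subtype.ext
  simp only [Matrix.SpecialLinearGroup.coe_mul, Matrix.SpecialLinearGroup.coe_neg,
    Matrix.SpecialLinearGroup.coe_one, hA, pow_succ, pow_zero, one_mul]
  rw [Matrix.one_fin_two, Matrix.mul_fin_two, Matrix.mul_fin_two]
  ext i j
  fin_cases i <;> fin_cases j <;> simp <;> grind

theorem sl2_cube_of_trace_neg_one (A : Matrix.SpecialLinearGroup (Fin 2) R)
    (h : (A : Matrix (Fin 2) (Fin 2) R).trace = -1) : A ^ 3 = 1 := by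
  obtain ⟨a, b, c, d, hA, hdet⟩ := sl2_entries A
  rw [sl2_trace A a b c d hA] at h
  apply Subtype.ext
  simp only [Matrix.SpecialLinearGroup.coe_mul,
    Matrix.SpecialLinearGroup.coe_one, hA, pow_succ, pow_zero, one_mul]
  rw [Matrix.one_fin_two, Matrix.mul_fin_two, Matrix.mul_fin_two]
  ext i j
  fin_cases i <;> fin_cases j <;> simp <;> grind

theorem sl2_pow_five_of_trace_golden (A : Matrix.SpecialLinearGroup (Fin 2) R) (φ : R)
    (hφ : φ * φ = φ + 1) (h : (A : Matrix (Fin 2) (Fin 2) R).trace = φ) : A ^ 5 = -1 := by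
  obtain ⟨a, b, c, d, hA, hdet⟩ := sl2_entries A
  rw [sl2_trace A a b c d hA] at h
  apply Subtype.ext
  simp only [Matrix.SpecialLinearGroup.coe_mul, Matrix.SpecialLinearGroup.coe_neg,
    Matrix.SpecialLinearGroup.coe_one, hA, pow_succ, pow_zero, one_mul]
  rw [Matrix.one_fin_two, Matrix.mul_fin_two, Matrix.mul_fin_two, Matrix.mul_fin_two, Matrix.mul_fin_two]
  ext i j
  fin_cases i <;> fin_cases j <;> simp <;> grind

theorem sl2_pow_five_of_trace (A : Matrix.SpecialLinearGroup (Fin 2) R) (t : R)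
    (ht : t * t = 1 - t) (h : (A : Matrix (Fin 2) (Fin 2) R).trace = t) : A ^ 5 = 1 := by
  obtain ⟨a, b, c, d, hA, hdet⟩ := sl2_entries A
  rw [sl2_trace A a b c d hA] at h
  apply Subtype.ext
  simp only [Matrix.SpecialLinearGroup.coe_mul,
    Matrix.SpecialLinearGroup.coe_one, hA, pow_succ, pow_zero, one_mul]
  rw [Matrix.one_fin_two, Matrix.mul_fin_two, Matrix.mul_fin_two, Matrix.mul_fin_two, Matrix.mul_fin_two]
  ext i j
  fin_cases i <;> fin_cases j <;> simp <;> grind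

end Cfsg.Agent.Lib.Helper89
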