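import Mathlib
import Cfsg.Agent.Lib.Helper89.A5Sub
import Cfsg.Agent.Lib.Helper89.SL2Trace

/-!
# Subgroups of `PSL₂(F)` from elements of `SL₂(F)`
-/

set_option autoImplicit false

namespace Cfsg.Agent.Lib.Helper89

variable {F : Type*} [Field F]

theorem sl2_neg_one_mem_center : (-1 : Matrix.SpecialLinearGroup (Fin 2) F) ∈
    Subgroup.center (Matrix.SpecialLinearGroup (Fin 2) F) := by
  rw [Subgroup.mem_center_iff]
  intro g
  rw [mul_neg, neg_mul, mul_one, one_mul]

theorem sl2_not_mem_center_of_ne_zero (x : Matrix.SpecialLinearGroup (Fin 2) F)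
    (h : (x : Matrix (Fin 2) (Fin 2) F) 1 0 ≠ 0) :
    x ∉ Subgroup.center (Matrix.SpecialLinearGroup (Fin 2) F) := by
  intro hx
  rw [Matrix.SpecialLinearGroup.mem_center_iff] at hx
  obtain ⟨r, -, hr⟩ := hx
  apply h
  rw [← hr]
  simp

theorem sl2_not_mem_center_of_ne_zero' (x : Matrix.SpecialLinearGroup (Fin 2) F)
    (h : (x : Matrix (Fin 2) (Fin 2) F) 0 1 ≠ 0) :
    x ∉ Subgroup.center (Matrix.SpecialLinearGroup (Fin 2) F) := by
  intro hx
  rw [Matrix.SpecialLinearGroup.mem_center_iff] at hx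
  obtain ⟨r, -, hr⟩ := hx
  apply h
  rw [← hr]
  simp

/-- elements of `SL₂(F)` of orders `3, 5, 2` modulo the centre give an `A₅` in `PSL₂(F)` -/
theorem exists_a5_in_psl2 (x y : Matrix.SpecialLinearGroup (Fin 2) F)
    (hx : x ^ 3 ∈ Subgroup.center (Matrix.SpecialLinearGroup (Fin 2) F))
    (hy : y ^ 5 ∈ Subgroup.center (Matrix.SpecialLinearGroup (Fin 2) F))
    (hxy : (x * y) ^ 2 ∈ Subgroup.center (Matrix.SpecialLinearGroup (Fin 2) F))
    (hxc : x ∉ Subgroup.center (Matrix.SpecialLinearGroup (Fin 2) F)) :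
    ∃ H : Subgroup (Matrix.ProjectiveSpecialLinearGroup (Fin 2) F),
      Nonempty (H ≃* alternatingGroup (Fin 5)) := by
  apply exists_subgroup_mulEquiv_alternatingGroup_five
    (QuotientGroup.mk x : Matrix.ProjectiveSpecialLinearGroup (Fin 2) F) (QuotientGroup.mk y)
  · rw [← QuotientGroup.mk_pow, QuotientGroup.eq_one_iff]
    exact hx
  · rw [← QuotientGroup.mk_pow, QuotientGroup.eq_one_iff]
    exact hy
  · rw [← QuotientGroup.mk_mul, ← QuotientGroup.mk_pow, QuotientGroup.eq_one_iff]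
    exact hxy
  · intro h
    exact hxc ((QuotientGroup.eq_one_iff _).mp h)

end Cfsg.Agent.Lib.Helper89
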