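import Mathlib

set_option autoImplicit false
set_option linter.unusedSimpArgs false
set_option linter.unusedVariables false

namespace Cfsg.Agent.Lib.Helper89.A4Pres

/-- the 12 normal-form words -/
def nfw : Fin 12 → List (Fin 2) :=
  ![[], [0], [1], [0, 1], [1, 0], [1, 1], [0, 1, 0], [0, 1, 1], [1, 0, 1], [1, 1, 0], [1, 0, 1, 1], [1, 1, 0, 1]]

/-- left multiplication table on normal forms -/
def mulTbl : Fin 12 → Fin 2 → Fin 12 :=
  ![![1, 2], ![0, 4], ![3, 5], ![2, 8], ![6, 9], ![7, 0], ![4, 7], ![5, 10], ![9, 11], ![8, 1], ![11, 6], ![10, 3]]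

variable {H : Type*} [Group H]

/-- the generator attached to a letter -/
def gen (X Y : H) : Fin 2 → H := ![X, Y]

/-- evaluation of a word -/
def ev (X Y : H) : List (Fin 2) → H
  | [] => 1
  | k :: w => gen X Y k * ev X Y w

theorem table_step (X Y : H) (e1 : ∀ t : H, X * (X * t) = t)
    (e2 : ∀ t : H, Y * (Y * (Y * t)) = t) (e3 : ∀ t : H, X * (Y * (X * (Y * (X * (Y * t))))) = t) :
    ∀ (i : Fin 12) (k : Fin 2), gen X Y k * ev X Y (nfw i) = ev X Y (nfw (mulTbl i k)) := by
  have r0 : ∀ t : H, X * (X * t) = t := by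
    intro t
    have hp := e1 t
    have hu : X * (X * t) = X * (X * t) := rfl
    have hv : t = t := rfl
    exact hu.symm.trans (hp.trans hv)
  have r1 : ∀ t : H, Y * (Y * (Y * t)) = t := by
    intro t
    have hp := e2 t
    have hu : Y * (Y * (Y * t)) = Y * (Y * (Y * t)) := rfl
    have hv : t = t := rfl
    exact hu.symm.trans (hp.trans hv)
  have r2 : ∀ t : H, X * (Y * (X * (Y * (X * (Y * t))))) = t := by
    intro t
    have hp := e3 t
    have hu : X * (Y * (X * (Y * (X * (Y * t))))) = X * (Y * (X * (Y * (X * (Y * t))))) := rfl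
    have hv : t = t := rfl
    exact hu.symm.trans (hp.trans hv)
  have r3 : ∀ t : H, Y * (X * (Y * (X * (Y * t)))) = X * t := by
    intro t
    have hp1 : X * (X * (Y * (X * (Y * (X * (Y * t)))))) = Y * (X * (Y * (X * (Y * t)))) := by
      rw [r0 (Y * (X * (Y * (X * (Y * t)))))]
    have hp2 : X * (X * (Y * (X * (Y * (X * (Y * t)))))) = X * t := by
      rw [r2 t]
    have hp := hp1.symm.trans hp2
    have hu : Y * (X * (Y * (X * (Y * t)))) = Y * (X * (Y * (X * (Y * t)))) := rfl
    have hv : X * t = X * t := rfl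
    exact hu.symm.trans (hp.trans hv)
  have r4 : ∀ t : H, X * (Y * (X * (Y * t))) = Y * (Y * (X * t)) := by
    intro t
    have hp1 : Y * (Y * (Y * (X * (Y * (X * (Y * t)))))) = X * (Y * (X * (Y * t))) := by
      rw [r1 (X * (Y * (X * (Y * t))))]
    have hp2 : Y * (Y * (Y * (X * (Y * (X * (Y * t)))))) = Y * (Y * (X * t)) := by
      rw [r3 t]
    have hp := hp1.symm.trans hp2
    have hu : X * (Y * (X * (Y * t))) = X * (Y * (X * (Y * t))) := rfl
    have hv : Y * (Y * (X * t)) = Y * (Y * (X * t)) := rfl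
    exact hu.symm.trans (hp.trans hv)
  have r5 : ∀ t : H, X * (Y * (Y * (X * t))) = Y * (X * (Y * t)) := by
    intro t
    have hp1 : X * (X * (Y * (X * (Y * t)))) = Y * (X * (Y * t)) := by
      rw [r0 (Y * (X * (Y * t)))]
    have hp2 : X * (X * (Y * (X * (Y * t)))) = X * (Y * (Y * (X * t))) := by
      rw [r4 t]
    have hp := hp1.symm.trans hp2
    have hu : Y * (X * (Y * t)) = Y * (X * (Y * t)) := rfl
    have hv : X * (Y * (Y * (X * t))) = X * (Y * (Y * (X * t))) := rfl
    exact hv.symm.trans (hp.symm.trans hu)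
  have r6 : ∀ t : H, Y * (Y * (X * (Y * (Y * t)))) = X * (Y * (X * t)) := by
    intro t
    have hp1 : X * (Y * (X * (Y * (Y * (Y * t))))) = Y * (Y * (X * (Y * (Y * t)))) := by
      rw [r4 (Y * (Y * t))]
    have hp2 : X * (Y * (X * (Y * (Y * (Y * t))))) = X * (Y * (X * t)) := by
      rw [r1 t]
    have hp := hp1.symm.trans hp2
    have hu : Y * (Y * (X * (Y * (Y * t)))) = Y * (Y * (X * (Y * (Y * t)))) := rfl
    have hv : X * (Y * (X * t)) = X * (Y * (X * t)) := rfl
    exact hu.symm.trans (hp.trans hv)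
  have r7 : ∀ t : H, Y * (Y * (X * (Y * (X * t)))) = Y * (X * (Y * (Y * t))) := by
    intro t
    have hp1 : Y * (Y * (Y * (Y * (X * (Y * (Y * t)))))) = Y * (X * (Y * (Y * t))) := by
      rw [r1 (Y * (X * (Y * (Y * t))))]
    have hp2 : Y * (Y * (Y * (Y * (X * (Y * (Y * t)))))) = Y * (Y * (X * (Y * (X * t)))) := by
      rw [r6 t]
    have hp := hp1.symm.trans hp2
    have hu : Y * (X * (Y * (Y * t))) = Y * (X * (Y * (Y * t))) := rfl
    have hv : Y * (Y * (X * (Y * (X * t)))) = Y * (Y * (X * (Y * (X * t)))) := rfl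
    exact hv.symm.trans (hp.symm.trans hu)
  have r8 : ∀ t : H, Y * (X * (Y * (X * t))) = X * (Y * (Y * t)) := by
    intro t
    have hp1 : Y * (Y * (Y * (X * (Y * (Y * t))))) = X * (Y * (Y * t)) := by
      rw [r1 (X * (Y * (Y * t)))]
    have hp2 : Y * (Y * (Y * (X * (Y * (Y * t))))) = Y * (X * (Y * (X * t))) := by
      rw [r6 t]
    have hp := hp1.symm.trans hp2
    have hu : X * (Y * (Y * t)) = X * (Y * (Y * t)) := rfl
    have hv : Y * (X * (Y * (X * t))) = Y * (X * (Y * (X * t))) := rfl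
    exact hv.symm.trans (hp.symm.trans hu)
  intro i k
  fin_cases i <;> fin_cases k <;>
    simp only [Fin.reduceFinMk, Fin.isValue, Fin.zero_eta, Fin.mk_one, nfw, mulTbl, ev, gen,
      Matrix.cons_val_zero, Matrix.cons_val_one, Matrix.cons_val, r0, r1, r2, r3, r4, r5, r6, r7, r8]

end Cfsg.Agent.Lib.Helper89.A4Pres
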