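import Mathlib

set_option autoImplicit false
set_option linter.unusedSimpArgs false

namespace Cfsg.Agent.Lib.Helper89

open Equiv

/-- the 24 normal-form words of the Coxeter group of type A3 on the letters 0,1,2 -/
def nfw : Fin 24 → List (Fin 3) :=
  ![[], [0], [1], [2], [0, 1], [0, 2], [1, 0], [1, 2], [2, 1], [0, 1, 0], [0, 1, 2], [0, 2, 1], [1, 0, 2], [1, 2, 1], [2, 1, 0], [0, 1, 0, 2], [0, 1, 2, 1], [0, 2, 1, 0], [1, 0, 2, 1], [1, 2, 1, 0], [0, 1, 0, 2, 1], [0, 1, 2, 1, 0], [1, 0, 2, 1, 0], [0, 1, 0, 2, 1, 0]]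

/-- right multiplication table on normal forms -/
def mulTbl : Fin 24 → Fin 3 → Fin 24 :=
  ![![1, 2, 3], ![0, 4, 5], ![6, 0, 7], ![5, 8, 0], ![9, 1, 10], ![3, 11, 1], ![2, 9, 12], ![12, 13, 2], ![14, 3, 13], ![4, 6, 15], ![15, 16, 4], ![17, 5, 16], ![7, 18, 6], ![19, 7, 8], ![8, 17, 19], ![10, 20, 9], ![21, 10, 11], ![11, 14, 21], ![22, 12, 20], ![13, 22, 14], ![23, 15, 18], ![16, 23, 17], ![18, 19, 23], ![20, 21, 22]]

/-- adjacent transpositions of `Fin 4` -/
def adj : Fin 3 → Perm (Fin 4) := fun i => swap i.castSucc i.succ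

/-- evaluation of a word in the symmetric group -/
def evS : List (Fin 3) → Perm (Fin 4)
  | [] => 1
  | x :: w => adj x * evS w

theorem evS_inj : ∀ i j : Fin 24, evS (nfw i) = evS (nfw j) → i = j := by
  decide

theorem evS_step : ∀ (i : Fin 24) (x : Fin 3), evS (nfw (mulTbl i x)) = evS (nfw i) * adj x := by
  decide

theorem evS_bij : Function.Bijective (fun i : Fin 24 => evS (nfw i)) := by
  rw [Fintype.bijective_iff_injective_and_card]
  refine ⟨fun i j h => evS_inj i j h, ?_⟩
  rw [Fintype.card_perm]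
  rfl

/-- the index of the normal form of a permutation -/
noncomputable def idx : Perm (Fin 4) ≃ Fin 24 := (Equiv.ofBijective _ evS_bij).symm

theorem evS_idx (σ : Perm (Fin 4)) : evS (nfw (idx σ)) = σ :=
  (Equiv.ofBijective _ evS_bij).apply_symm_apply σ

theorem idx_evS (i : Fin 24) : idx (evS (nfw i)) = i :=
  (Equiv.ofBijective _ evS_bij).symm_apply_apply i

theorem idx_mul_adj (σ : Perm (Fin 4)) (x : Fin 3) : idx (σ * adj x) = mulTbl (idx σ) x := by
  have h := evS_step (idx σ) x
  rw [evS_idx] at h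
  rw [← h, idx_evS]

theorem idx_one : idx 1 = 0 := by
  have : evS (nfw 0) = 1 := rfl
  rw [← this, idx_evS]

variable {G : Type*} [Group G]

/-- the generator attached to a letter -/
def gen (a b c : G) : Fin 3 → G := ![a, b, c]

/-- evaluation of a word in `G` -/
def evG (a b c : G) : List (Fin 3) → G
  | [] => 1
  | x :: w => gen a b c x * evG a b c w

theorem evG_step (a b c : G) (aa : a * a = 1) (bb : b * b = 1) (cc : c * c = 1)
    (ca : c * a = a * c) (bab : b * (a * b) = a * (b * a)) (cbc : c * (b * c) = b * (c * b)) :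
    ∀ (i : Fin 24) (x : Fin 3), evG a b c (nfw (mulTbl i x)) = evG a b c (nfw i) * gen a b c x := by
  have aa' : ∀ x : G, a * (a * x) = x := fun x => by rw [← mul_assoc, aa, one_mul]
  have bb' : ∀ x : G, b * (b * x) = x := fun x => by rw [← mul_assoc, bb, one_mul]
  have cc' : ∀ x : G, c * (c * x) = x := fun x => by rw [← mul_assoc, cc, one_mul]
  have ca' : ∀ x : G, c * (a * x) = a * (c * x) := fun x => by rw [← mul_assoc, ca, mul_assoc]
  have bab' : ∀ x : G, b * (a * (b * x)) = a * (b * (a * x)) := fun x => by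
    rw [← mul_assoc a, ← mul_assoc b, bab]; simp only [mul_assoc]
  have cbc' : ∀ x : G, c * (b * (c * x)) = b * (c * (b * x)) := fun x => by
    rw [← mul_assoc b, ← mul_assoc c, cbc]; simp only [mul_assoc]
  have cbac : c * (b * (a * c)) = b * (c * (b * a)) := by
    rw [← ca, cbc']
  have cbac' : ∀ x : G, c * (b * (a * (c * x))) = b * (c * (b * (a * x))) := fun x => by
    rw [← ca', cbc']
  intro i x
  fin_cases i <;> fin_cases x <;>
    simp only [Fin.reduceFinMk, Fin.isValue, Fin.zero_eta, Fin.mk_one, nfw, mulTbl, evG, gen,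
      Matrix.cons_val_zero, Matrix.cons_val_one, Matrix.cons_val, mul_assoc, mul_one, one_mul,
      aa, bb, cc, ca, bab, cbc, cbac, aa', bb', cc', ca', bab', cbc', cbac']

/-- the underlying function of the lift -/
noncomputable def liftFun (a b c : G) : Perm (Fin 4) → G := fun σ => evG a b c (nfw (idx σ))

theorem liftFun_one (a b c : G) : liftFun a b c 1 = 1 := by
  unfold liftFun
  rw [idx_one]
  rfl

theorem liftFun_mul_adj (a b c : G) (aa : a * a = 1) (bb : b * b = 1) (cc : c * c = 1)
    (ca : c * a = a * c) (bab : b * (a * b) = a * (b * a)) (cbc : c * (b * c) = b * (c * b))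
    (σ : Perm (Fin 4)) (x : Fin 3) : liftFun a b c (σ * adj x) = liftFun a b c σ * gen a b c x := by
  unfold liftFun
  rw [idx_mul_adj, evG_step a b c aa bb cc ca bab cbc]

theorem liftFun_adj (a b c : G) (aa : a * a = 1) (bb : b * b = 1) (cc : c * c = 1)
    (ca : c * a = a * c) (bab : b * (a * b) = a * (b * a)) (cbc : c * (b * c) = b * (c * b))
    (x : Fin 3) : liftFun a b c (adj x) = gen a b c x := by
  have := liftFun_mul_adj a b c aa bb cc ca bab cbc 1 x
  rwa [one_mul, liftFun_one, one_mul] at this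

theorem liftFun_mul (a b c : G) (aa : a * a = 1) (bb : b * b = 1) (cc : c * c = 1)
    (ca : c * a = a * c) (bab : b * (a * b) = a * (b * a)) (cbc : c * (b * c) = b * (c * b))
    (σ τ : Perm (Fin 4)) : liftFun a b c (σ * τ) = liftFun a b c σ * liftFun a b c τ := by
  have hτ : τ ∈ Submonoid.closure (Set.range adj) := by
    have := Equiv.Perm.mclosure_swap_castSucc_succ 3
    unfold adj
    rw [this]
    trivial
  induction hτ using Submonoid.closure_induction generalizing σ with
  | mem y hy =>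
    obtain ⟨x, rfl⟩ := hy
    rw [liftFun_mul_adj a b c aa bb cc ca bab cbc, liftFun_adj a b c aa bb cc ca bab cbc]
  | one => rw [mul_one, liftFun_one, mul_one]
  | mul y z _ _ ihy ihz =>
    rw [← mul_assoc, ihz, ihy, ihz y, mul_assoc]

/-- The homomorphism from the symmetric group of degree 4 defined by three elements satisfying the
Coxeter relations of type A3. -/
noncomputable def s4Lift (a b c : G) (aa : a * a = 1) (bb : b * b = 1) (cc : c * c = 1)
    (ca : c * a = a * c) (bab : b * (a * b) = a * (b * a)) (cbc : c * (b * c) = b * (c * b)) :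
    Perm (Fin 4) →* G where
  toFun := liftFun a b c
  map_one' := liftFun_one a b c
  map_mul' := liftFun_mul a b c aa bb cc ca bab cbc

theorem s4Lift_swap01 (a b c : G) (aa : a * a = 1) (bb : b * b = 1) (cc : c * c = 1)
    (ca : c * a = a * c) (bab : b * (a * b) = a * (b * a)) (cbc : c * (b * c) = b * (c * b)) :
    s4Lift a b c aa bb cc ca bab cbc (swap 0 1) = a :=
  liftFun_adj a b c aa bb cc ca bab cbc 0

theorem s4Lift_swap12 (a b c : G) (aa : a * a = 1) (bb : b * b = 1) (cc : c * c = 1)
    (ca : c * a = a * c) (bab : b * (a * b) = a * (b * a)) (cbc : c * (b * c) = b * (c * b)) :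
    s4Lift a b c aa bb cc ca bab cbc (swap 1 2) = b :=
  liftFun_adj a b c aa bb cc ca bab cbc 1

theorem s4Lift_swap23 (a b c : G) (aa : a * a = 1) (bb : b * b = 1) (cc : c * c = 1)
    (ca : c * a = a * c) (bab : b * (a * b) = a * (b * a)) (cbc : c * (b * c) = b * (c * b)) :
    s4Lift a b c aa bb cc ca bab cbc (swap 2 3) = c :=
  liftFun_adj a b c aa bb cc ca bab cbc 2

/-- every nontrivial permutation of `Fin 4` is conjugate to one of three standard ones, or its
square is conjugate to the double transposition -/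
theorem s4_class_reps : ∀ σ : Perm (Fin 4), σ ≠ 1 → ∃ τ : Perm (Fin 4),
    τ * σ * τ⁻¹ = swap 0 1 ∨ τ * σ * τ⁻¹ = swap 0 1 * swap 2 3 ∨ τ * σ * τ⁻¹ = swap 0 1 * swap 1 2 ∨
      τ * (σ * σ) * τ⁻¹ = swap 0 1 * swap 2 3 := by
  set_option maxRecDepth 100000 in
  decide

/-- a homomorphism from `S4` that does not kill the three standard elements is injective -/
theorem s4_hom_injective (φ : Perm (Fin 4) →* G) (h1 : φ (swap 0 1) ≠ 1)
    (h2 : φ (swap 0 1 * swap 2 3) ≠ 1) (h3 : φ (swap 0 1 * swap 1 2) ≠ 1) : Function.Injective φ := by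
  rw [injective_iff_map_eq_one]
  intro σ hσ
  by_contra hne
  obtain ⟨τ, h | h | h | h⟩ := s4_class_reps σ hne
  · apply h1; rw [← h, map_mul, map_mul, hσ, mul_one, ← map_mul, mul_inv_cancel, map_one]
  · apply h2; rw [← h, map_mul, map_mul, hσ, mul_one, ← map_mul, mul_inv_cancel, map_one]
  · apply h3; rw [← h, map_mul, map_mul, hσ, mul_one, ← map_mul, mul_inv_cancel, map_one]
  · apply h2; rw [← h, map_mul, map_mul, map_mul, hσ, mul_one, mul_one, ← map_mul, mul_inv_cancel, map_one]

end Cfsg.Agent.Lib.Helper89
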