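import Mathlib
import Cfsg.Agent.Lib.Helper89.S4Lift
import Cfsg.Agent.Lib.Helper89.PSL2Sub

/-!
# Subgroups isomorphic to `S₄` from Coxeter generators
-/

set_option autoImplicit false

namespace Cfsg.Agent.Lib.Helper89

open Equiv

theorem braid_of_pow_three {G : Type*} [Group G] (a b : G) (aa : a * a = 1) (bb : b * b = 1)
    (hab : (a * b) ^ 3 = 1) : b * (a * b) = a * (b * a) := by
  have h1 : a * b * (a * b) * (a * b) = 1 := by rw [← hab, pow_succ, pow_two]
  have ha : a⁻¹ = a := inv_eq_of_mul_eq_one_right aa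
  have hb : b⁻¹ = b := inv_eq_of_mul_eq_one_right bb
  have h2 : b * (a * b) = (a * b * a)⁻¹ := by
    apply eq_inv_of_mul_eq_one_right
    rw [← h1]
    group
  rw [h2, mul_inv_rev, mul_inv_rev, ha, hb]

theorem comm_of_pow_two {G : Type*} [Group G] (a c : G) (aa : a * a = 1) (cc : c * c = 1)
    (hac : (a * c) ^ 2 = 1) : c * a = a * c := by
  have h1 : a * c * (a * c) = 1 := by rw [← hac, pow_two]
  have ha : a⁻¹ = a := inv_eq_of_mul_eq_one_right aa
  have hc : c⁻¹ = c := inv_eq_of_mul_eq_one_right cc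
  have h2 : a * c = (a * c)⁻¹ := eq_inv_of_mul_eq_one_right h1
  rw [h2, mul_inv_rev, ha, hc]

theorem exists_subgroup_mulEquiv_perm_four {G : Type*} [Group G] (a b c : G) (ha : a ^ 2 = 1)
    (hb : b ^ 2 = 1) (hc : c ^ 2 = 1) (hab : (a * b) ^ 3 = 1) (hbc : (b * c) ^ 3 = 1)
    (hac : (a * c) ^ 2 = 1) (h1 : a ≠ 1) (h2 : a * c ≠ 1) (h3 : a * b ≠ 1) :
    ∃ H : Subgroup G, Nonempty (H ≃* Perm (Fin 4)) := by
  have aa : a * a = 1 := by rw [← pow_two, ha]
  have bb : b * b = 1 := by rw [← pow_two, hb]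
  have cc : c * c = 1 := by rw [← pow_two, hc]
  have ca : c * a = a * c := comm_of_pow_two a c aa cc hac
  have bab : b * (a * b) = a * (b * a) := braid_of_pow_three a b aa bb hab
  have cbc : c * (b * c) = b * (c * b) := braid_of_pow_three b c bb cc hbc
  have hinj : Function.Injective (s4Lift a b c aa bb cc ca bab cbc) := by
    apply s4_hom_injective
    · rwa [s4Lift_swap01]
    · rwa [map_mul, s4Lift_swap01, s4Lift_swap23]
    · rwa [map_mul, s4Lift_swap01, s4Lift_swap12]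
  exact ⟨(s4Lift a b c aa bb cc ca bab cbc).range, ⟨(MonoidHom.ofInjective hinj).symm⟩⟩

variable {F : Type*} [Field F]

theorem sl2_not_mem_center_of_diag_ne (x : Matrix.SpecialLinearGroup (Fin 2) F)
    (h : (x : Matrix (Fin 2) (Fin 2) F) 0 0 ≠ (x : Matrix (Fin 2) (Fin 2) F) 1 1) :
    x ∉ Subgroup.center (Matrix.SpecialLinearGroup (Fin 2) F) := by
  intro hx
  rw [Matrix.SpecialLinearGroup.mem_center_iff] at hx
  obtain ⟨r, -, hr⟩ := hx
  apply h
  rw [← hr]
  simp

/-- elements of `SL₂(F)` satisfying the Coxeter relations of `S₄` modulo the centre give an `S₄` in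
`PSL₂(F)` -/
theorem exists_s4_in_psl2 (a b c : Matrix.SpecialLinearGroup (Fin 2) F)
    (ha : a ^ 2 ∈ Subgroup.center (Matrix.SpecialLinearGroup (Fin 2) F))
    (hb : b ^ 2 ∈ Subgroup.center (Matrix.SpecialLinearGroup (Fin 2) F))
    (hc : c ^ 2 ∈ Subgroup.center (Matrix.SpecialLinearGroup (Fin 2) F))
    (hab : (a * b) ^ 3 ∈ Subgroup.center (Matrix.SpecialLinearGroup (Fin 2) F))
    (hbc : (b * c) ^ 3 ∈ Subgroup.center (Matrix.SpecialLinearGroup (Fin 2) F))
    (hac : (a * c) ^ 2 ∈ Subgroup.center (Matrix.SpecialLinearGroup (Fin 2) F))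
    (h1 : a ∉ Subgroup.center (Matrix.SpecialLinearGroup (Fin 2) F))
    (h2 : a * c ∉ Subgroup.center (Matrix.SpecialLinearGroup (Fin 2) F))
    (h3 : a * b ∉ Subgroup.center (Matrix.SpecialLinearGroup (Fin 2) F)) :
    ∃ H : Subgroup (Matrix.ProjectiveSpecialLinearGroup (Fin 2) F),
      Nonempty (H ≃* Perm (Fin 4)) := by
  apply exists_subgroup_mulEquiv_perm_four
    (QuotientGroup.mk a : Matrix.ProjectiveSpecialLinearGroup (Fin 2) F) (QuotientGroup.mk b)
    (QuotientGroup.mk c)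
  · rw [← QuotientGroup.mk_pow, QuotientGroup.eq_one_iff]; exact ha
  · rw [← QuotientGroup.mk_pow, QuotientGroup.eq_one_iff]; exact hb
  · rw [← QuotientGroup.mk_pow, QuotientGroup.eq_one_iff]; exact hc
  · rw [← QuotientGroup.mk_mul, ← QuotientGroup.mk_pow, QuotientGroup.eq_one_iff]; exact hab
  · rw [← QuotientGroup.mk_mul, ← QuotientGroup.mk_pow, QuotientGroup.eq_one_iff]; exact hbc
  · rw [← QuotientGroup.mk_mul, ← QuotientGroup.mk_pow, QuotientGroup.eq_one_iff]; exact hac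
  · intro h; exact h1 ((QuotientGroup.eq_one_iff _).mp h)
  · rw [← QuotientGroup.mk_mul]; intro h; exact h2 ((QuotientGroup.eq_one_iff _).mp h)
  · rw [← QuotientGroup.mk_mul]; intro h; exact h3 ((QuotientGroup.eq_one_iff _).mp h)

end Cfsg.Agent.Lib.Helper89
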