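import Mathlib
import Cfsg.Prelude.Def_KGroupFacts
import Cfsg.Agent.Lib.Helper89.SafePres

/-!
# Bounding the kernel of a stem extension by a presentation of a central extension

A variant of `SafePres.ker_eq_bot_of_safe`: if the group presented by the power relations and the
conjugation relations has order at most `c * |G|`, then every stem extension of `G` with a `p`-group
as kernel has a kernel of order at most `c`.
-/

set_option autoImplicit false

namespace Cfsg.Agent.Lib.Helper89.SafePres2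

open Cfsg.Agent.Lib.Helper89.CosetCert Cfsg.Agent.Lib.Helper89.StemSafe
open Cfsg.Agent.Lib.Helper89.SafePres

universe u

/-- in a central extension, a subgroup mapping onto the base contains the commutator subgroup -/
theorem commutator_le_of_map_eq_top {Γ : Type*} {G : Type*} [Group Γ] [Group G] (σ : Γ →* G)
    (hcen : σ.ker ≤ Subgroup.center Γ) (T : Subgroup Γ) (hT : T.map σ = ⊤) :
    commutator Γ ≤ T := by
  have hdec : ∀ γ : Γ, ∃ l ∈ T, ∃ k ∈ σ.ker, γ = l * k := by
    intro γ
    have : σ γ ∈ T.map σ := by rw [hT]; trivial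
    obtain ⟨l, hl, hlγ⟩ := this
    refine ⟨l, hl, l⁻¹ * γ, ?_, by group⟩
    rw [MonoidHom.mem_ker, map_mul, map_inv, hlγ, inv_mul_cancel]
  rw [commutator_def, Subgroup.commutator_le]
  intro x _ y _
  obtain ⟨l1, hl1, k1, hk1, rfl⟩ := hdec x
  obtain ⟨l2, hl2, k2, hk2, rfl⟩ := hdec y
  rw [commutator_mul_central l1 l2 k1 k2 (Subgroup.mem_center_iff.1 (hcen hk1))
    (Subgroup.mem_center_iff.1 (hcen hk2))]
  rw [commutatorElement_def]
  exact T.mul_mem (T.mul_mem (T.mul_mem hl1 hl2) (T.inv_mem hl1)) (T.inv_mem hl2)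

/-- the order of a subgroup mapping onto the base and containing the kernel -/
theorem card_eq_ker_mul {Γ : Type*} {G : Type*} [Group Γ] [Group G] (σ : Γ →* G)
    (T : Subgroup Γ) (hT : T.map σ = ⊤) (hK : σ.ker ≤ T) :
    Nat.card T = Nat.card σ.ker * Nat.card G := by
  let f : T →* G := σ.comp T.subtype
  have hker : f.ker = σ.ker.subgroupOf T := by
    ext x
    rw [MonoidHom.mem_ker, Subgroup.mem_subgroupOf, MonoidHom.mem_ker]
    rfl
  have hrange : f.range = ⊤ := by
    rw [eq_top_iff]
    intro y _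
    have : y ∈ T.map σ := by rw [hT]; trivial
    obtain ⟨x, hx, rfl⟩ := this
    exact ⟨⟨x, hx⟩, rfl⟩
  have h1 := Subgroup.card_mul_index f.ker
  rw [Subgroup.index_ker, hrange, Subgroup.card_top, hker,
    Nat.card_congr (Subgroup.subgroupOfEquivOfLe hK).toEquiv] at h1
  exact h1.symm

/-- **Criterion for a bound on the kernel.** -/
theorem card_ker_le_of_safe {G : Type u} [Group G] [Finite G] (p : ℕ) [hp : Fact p.Prime]
    (k : ℕ) (g : ℕ → G) (ord : ℕ → ℕ)
    (hord : ∀ i, g i ^ ord i = 1) (hcop : ∀ i, (ord i).Coprime p)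
    (hgen : Subgroup.closure {y | ∃ i < k, y = g i} = ⊤)
    (srels : List SRel) (hvalid : ∀ r ∈ srels, ev g r.word = 1) (c : ℕ)
    (hbound : ∀ (L : Type u) [Group L] [Finite L] (t : ℕ → L), (∀ i, t i ^ ord i = 1) →
      (∀ r ∈ srels, ev t r.word = 1) →
      Nat.card (Subgroup.closure {y | ∃ i < k, y = t i}) ≤ c * Nat.card G)
    {Γ : Type u} [Group Γ] [Finite Γ] (σ : Γ →* G) (hσ : Cfsg.IsStemExtension σ)
    (hpk : ∀ z ∈ σ.ker, ∃ n : ℕ, z ^ (p ^ n) = 1) : Nat.card σ.ker ≤ c := by
  obtain ⟨hsurj, hcen, hcomm⟩ := hσ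
  have hex : ∀ i, ∃ γ : Γ, σ γ = g i ∧ γ ^ ord i = 1 := fun i =>
    good_exists σ p hsurj hcen hpk (g i) (ord i) (hord i) (hcop i)
  choose t hσt ht using hex
  have hfun : (fun i => σ (t i)) = g := funext hσt
  have hrelΓ : ∀ r ∈ srels, ev t r.word = 1 := by
    intro r hr
    apply lift_srel σ p hcen hpk t ord ht hcop r
    rw [hfun]
    exact hvalid r hr
  have hcard := hbound Γ t ht hrelΓ
  set T : Subgroup Γ := Subgroup.closure {y | ∃ i < k, y = t i} with hT
  have hmap : T.map σ = ⊤ := by
    rw [hT, map_closure_eq σ k t g hσt, hgen]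
  have hKT : σ.ker ≤ T := le_trans hcomm (commutator_le_of_map_eq_top σ hcen T hmap)
  rw [card_eq_ker_mul σ T hmap hKT] at hcard
  exact Nat.le_of_mul_le_mul_right hcard Nat.card_pos

/-- evaluation of words in a product of two groups -/
theorem ev_prod {A B : Type*} [Group A] [Group B] (x : ℕ → A) (y : ℕ → B) (w : Word) :
    ev (fun i => (x i, y i)) w = (ev x w, ev y w) := by
  apply Prod.ext
  · exact ev_map_hom (MonoidHom.fst A B) (fun i => (x i, y i)) w
  · exact ev_map_hom (MonoidHom.snd A B) (fun i => (x i, y i)) w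

/-- a subgroup of order two is contained in any subgroup containing its non-identity element -/
theorem le_of_card_two {Γ : Type*} [Group Γ] (K S : Subgroup Γ) (hK : Nat.card K = 2) (z : Γ)
    (hz : z ∈ K) (hz1 : z ≠ 1) (hzS : z ∈ S) : K ≤ S := by
  have : Fact (Nat.Prime 2) := ⟨Nat.prime_two⟩
  have hne : (⟨z, hz⟩ : K) ≠ 1 := fun h => hz1 (congrArg Subtype.val h)
  have htop := zpowers_eq_top_of_prime_card hK hne
  intro x hx
  have hmem : (⟨x, hx⟩ : K) ∈ Subgroup.zpowers (⟨z, hz⟩ : K) := by rw [htop]; trivial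
  obtain ⟨n, hn⟩ := Subgroup.mem_zpowers_iff.1 hmem
  have hx' : x = z ^ n := by
    have := congrArg Subtype.val hn
    simpa using this.symm
  rw [hx']
  exact S.zpow_mem hzS n

/-- a finite group of order at most two is a quotient of the cyclic group of order two -/
theorem exists_surj_of_card_le_two {K : Type*} [Group K] [Finite K] (h : Nat.card K ≤ 2) :
    ∃ π : Multiplicative (ZMod 2) →* K, Function.Surjective π := by
  have hpos : 0 < Nat.card K := Nat.card_pos
  have hcases : Nat.card K = 1 ∨ Nat.card K = 2 := by omega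
  rcases hcases with h1 | h2
  · have : Subsingleton K := (Nat.card_eq_one_iff_unique.1 h1).1
    exact ⟨1, fun y => ⟨1, Subsingleton.elim _ _⟩⟩
  · have : Fact (Nat.Prime 2) := ⟨Nat.prime_two⟩
    have hZ : Nat.card (Multiplicative (ZMod 2)) = 2 := by
      rw [Nat.card_eq_fintype_card, Fintype.card_multiplicative, ZMod.card]
    let e : Multiplicative (ZMod 2) ≃* K := mulEquivOfPrimeCardEq hZ h2
    exact ⟨e.toMonoidHom, e.surjective⟩

end Cfsg.Agent.Lib.Helper89.SafePres2
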