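import Mathlib

/-!
# Verified stabilizer chains (one Schreier–Sims step)

`S` generates a group, `H` is a subgroup of `closure S` fixing the point `b`, and
`u : ι → closure S` is a family of elements sending `b` to pairwise distinct points, containing `1`,
such that for every generator `s` and index `i` some `(u i')⁻¹ * (s * u i)` lies in `H`.
Then `closure S = u(ι) * H`, `H` is the stabilizer of `b` in `closure S` and
`|closure S| = |ι| * |H|`.
-/

namespace Cfsg.Agent.Lib.Helper89.Chain

variable {G α ι : Type*} [Group G] [MulAction G α]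

theorem mem_closure_iff [Finite G] (S : Set G) (H : Subgroup G) (u : ι → G)
    (hHS : H ≤ Subgroup.closure S)
    (h1 : ∃ i, u i = 1) (hUS : ∀ i, u i ∈ Subgroup.closure S)
    (hstep : ∀ s ∈ S, ∀ i, ∃ i', (u i')⁻¹ * (s * u i) ∈ H) (g : G) :
    g ∈ Subgroup.closure S ↔ ∃ i, ∃ h ∈ H, g = u i * h := by
  constructor
  · intro hg
    have hg' : g ∈ Submonoid.closure S := by
      rw [← Subgroup.closure_toSubmonoid_of_finite]; exact hg
    induction hg' using Submonoid.closure_induction_left with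
    | one =>
      obtain ⟨i, hi⟩ := h1
      exact ⟨i, 1, H.one_mem, by simp [hi]⟩
    | mul_left s hs y _ ih =>
      obtain ⟨i, h, hh, rfl⟩ := ih (by
        rw [← Subgroup.closure_toSubmonoid_of_finite] at *; assumption)
      obtain ⟨i', hmem⟩ := hstep s hs i
      exact ⟨i', (u i')⁻¹ * (s * u i) * h, H.mul_mem hmem hh, by group⟩
  · rintro ⟨i, h, hh, rfl⟩
    exact (Subgroup.closure S).mul_mem (hUS i) (hHS hh)

theorem closure_inf_stabilizer [Finite G] (S : Set G) (H : Subgroup G) (b : α) (u : ι → G)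
    (hHS : H ≤ Subgroup.closure S) (hHb : H ≤ MulAction.stabilizer G b)
    (h1 : ∃ i, u i = 1) (hUS : ∀ i, u i ∈ Subgroup.closure S)
    (hinj : ∀ i i', u i • b = u i' • b → i = i')
    (hstep : ∀ s ∈ S, ∀ i, ∃ i', (u i')⁻¹ * (s * u i) ∈ H) :
    Subgroup.closure S ⊓ MulAction.stabilizer G b = H := by
  apply le_antisymm
  · rintro g ⟨hg, hgb⟩
    obtain ⟨i, h, hh, rfl⟩ := (mem_closure_iff S H u hHS h1 hUS hstep g).1 hg
    obtain ⟨i0, hi0⟩ := h1
    have hhb : h • b = b := hHb hh
    have hgb' : (u i * h) • b = b := hgb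
    rw [mul_smul, hhb] at hgb'
    have : i = i0 := hinj i i0 (by rw [hgb', hi0, one_smul])
    subst this
    simpa [hi0] using hh
  · exact le_inf hHS hHb

theorem card_closure [Finite G] (S : Set G) (H : Subgroup G) (b : α) (u : ι → G)
    (hHS : H ≤ Subgroup.closure S) (hHb : H ≤ MulAction.stabilizer G b)
    (h1 : ∃ i, u i = 1) (hUS : ∀ i, u i ∈ Subgroup.closure S)
    (hinj : ∀ i i', u i • b = u i' • b → i = i')
    (hstep : ∀ s ∈ S, ∀ i, ∃ i', (u i')⁻¹ * (s * u i) ∈ H) :
    Nat.card (Subgroup.closure S) = Nat.card ι * Nat.card H := by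
  rw [← Nat.card_prod]
  symm
  refine Nat.card_congr (Equiv.ofBijective
    (fun p : ι × H => (⟨u p.1 * p.2.1, (Subgroup.closure S).mul_mem (hUS p.1) (hHS p.2.2)⟩ :
      Subgroup.closure S)) ⟨?_, ?_⟩)
  · rintro ⟨i, h⟩ ⟨i', h'⟩ heq
    have heq' : u i * h.1 = u i' * h'.1 := congrArg Subtype.val heq
    have hb : (h.1 : G) • b = b := hHb h.2
    have hb' : (h'.1 : G) • b = b := hHb h'.2
    have : u i • b = u i' • b := by
      have := congrArg (fun g : G => g • b) heq'
      simpa [mul_smul, hb, hb'] using this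
    have hi : i = i' := hinj i i' this
    subst hi
    have : h.1 = h'.1 := mul_left_cancel heq'
    exact Prod.ext rfl (Subtype.ext this)
  · rintro ⟨g, hg⟩
    obtain ⟨i, h, hh, rfl⟩ := (mem_closure_iff S H u hHS h1 hUS hstep g).1 hg
    exact ⟨(i, ⟨h, hh⟩), rfl⟩

end Cfsg.Agent.Lib.Helper89.Chain
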