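import Mathlib
import Cfsg.Agent.Lib.Helper89.Chain

/-!
# Table-driven verified stabiliser chains, fast version

Same mathematics as `TableChain`, but everything is indexed by natural numbers and the certificate of
a level is a `Bool`-valued function of plain `ℕ`/`List` data, so that `by decide +kernel` evaluates it
quickly (use a table function `tab j x` implemented by shifts and masks of numeric literals).
Moreover the Schreier relations are only tested on a list `chk` of points on which the action is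
already faithful (a basis, a base, ...).
-/

set_option autoImplicit false

namespace Cfsg.Agent.Lib.Helper89.TableChain2

/-- Action of a word on a point index, by table lookups. -/
def act (tab : ℕ → ℕ → ℕ) (l : List ℕ) (x : ℕ) : ℕ := l.foldr tab x

theorem act_nil (tab : ℕ → ℕ → ℕ) (x : ℕ) : act tab [] x = x := rfl

theorem act_cons (tab : ℕ → ℕ → ℕ) (j : ℕ) (l : List ℕ) (x : ℕ) :
    act tab (j :: l) x = tab j (act tab l x) := rfl

theorem act_append (tab : ℕ → ℕ → ℕ) (l l' : List ℕ) (x : ℕ) :
    act tab (l ++ l') x = act tab l (act tab l' x) := by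
  simp [act, List.foldr_append]

/-- membership test with `Nat.beq` -/
def elemB (a : ℕ) : List ℕ → Bool
  | [] => false
  | b :: l => Nat.beq a b || elemB a l

theorem elemB_iff (a : ℕ) (l : List ℕ) : elemB a l = true ↔ a ∈ l := by
  induction l with
  | nil => simp [elemB]
  | cons b l ih =>
    simp only [elemB, Bool.or_eq_true, ih, List.mem_cons]
    constructor
    · rintro (h | h)
      · exact Or.inl (Nat.eq_of_beq_eq_true h)
      · exact Or.inr h
    · rintro (h | h)
      · left; rw [h]; exact Nat.beq_refl b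
      · exact Or.inr h

/-- duplicate-freeness test -/
def nodupB : List ℕ → Bool
  | [] => true
  | a :: l => !(elemB a l) && nodupB l

theorem nodupB_iff (l : List ℕ) : nodupB l = true ↔ l.Nodup := by
  induction l with
  | nil => simp [nodupB]
  | cons a l ih =>
    simp only [nodupB, Bool.and_eq_true, Bool.not_eq_true', List.nodup_cons, ih]
    constructor
    · rintro ⟨h1, h2⟩
      refine ⟨fun hm => ?_, h2⟩
      rw [← elemB_iff] at hm
      rw [hm] at h1
      exact Bool.noConfusion h1
    · rintro ⟨h1, h2⟩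
      refine ⟨?_, h2⟩
      cases h : elemB a l
      · rfl
      · exact absurd ((elemB_iff a l).1 h) h1

/-- The check of one Schreier relation `gen j * u_l = u_{e.1} * (word e.2)`. -/
def stepCheck (tab : ℕ → ℕ → ℕ) (k' : ℕ) (chk : List ℕ) (T : List (List ℕ)) (j : ℕ)
    (l : List ℕ) (e : ℕ × List ℕ) : Bool :=
  Nat.blt e.1 T.length && e.2.all (fun c => Nat.blt c k') &&
    chk.all (fun x => Nat.beq (act tab (j :: l) x) (act tab (T.getD e.1 [] ++ e.2) x))

/-- The decidable certificate of one level of the chain. -/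
def levelCheck (tab : ℕ → ℕ → ℕ) (k k' b : ℕ) (chk : List ℕ) (T : List (List ℕ))
    (E : List (List (ℕ × List ℕ))) : Bool :=
  Nat.ble k' k &&
  (List.range k').all (fun j => Nat.beq (tab j b) b) &&
  (match T with
    | [] :: _ => true
    | _ => false) &&
  T.all (fun l => l.all (fun c => Nat.blt c k)) &&
  nodupB (T.map (fun l => act tab l b)) &&
  (List.range k).all (fun j => Nat.beq (E.getD j []).length T.length &&
    (List.zip T (E.getD j [])).all (fun le => stepCheck tab k' chk T j le.1 le.2))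

/-- The data of a table-driven action, faithful on the check points. -/
structure Data (G : Type*) [Group G] (α : Type*) [MulAction G α] where
  m : ℕ
  N : ℕ
  gen : ℕ → G
  pt : ℕ → α
  tab : ℕ → ℕ → ℕ
  chk : List ℕ
  gen_smul : ∀ j < m, ∀ x < N, gen j • pt x = pt (tab j x)
  tab_lt : ∀ j < m, ∀ x < N, tab j x < N
  chk_lt : ∀ x ∈ chk, x < N
  faithful : ∀ g g' : G, (∀ x ∈ chk, g • pt x = g' • pt x) → g = g'
  pt_inj : ∀ x < N, ∀ y < N, pt x = pt y → x = y

variable {G : Type*} [Group G] {α : Type*} [MulAction G α] (D : Data G α)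

namespace Data

/-- evaluation of a word in the generators -/
def ev (l : List ℕ) : G := (l.map D.gen).prod

theorem ev_nil : D.ev [] = 1 := rfl

theorem ev_cons (j : ℕ) (l : List ℕ) : D.ev (j :: l) = D.gen j * D.ev l := by
  simp [ev]

theorem ev_append (l l' : List ℕ) : D.ev (l ++ l') = D.ev l * D.ev l' := by
  simp [ev]

theorem act_lt (l : List ℕ) (hl : ∀ c ∈ l, c < D.m) (x : ℕ) (hx : x < D.N) :
    act D.tab l x < D.N := by
  induction l with
  | nil => exact hx
  | cons j l ih =>
    rw [act_cons]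
    exact D.tab_lt j (hl j (by simp)) _ (ih fun c hc => hl c (by simp [hc]))

theorem ev_smul (l : List ℕ) (hl : ∀ c ∈ l, c < D.m) (x : ℕ) (hx : x < D.N) :
    D.ev l • D.pt x = D.pt (act D.tab l x) := by
  induction l with
  | nil => simp [ev, act]
  | cons j l ih =>
    have hl' : ∀ c ∈ l, c < D.m := fun c hc => hl c (by simp [hc])
    rw [ev_cons, mul_smul, ih hl', D.gen_smul j (hl j (by simp)) _ (D.act_lt l hl' x hx), act_cons]

theorem ev_eq_of_act {l l' : List ℕ} (hl : ∀ c ∈ l, c < D.m) (hl' : ∀ c ∈ l', c < D.m)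
    (h : ∀ x ∈ D.chk, act D.tab l x = act D.tab l' x) : D.ev l = D.ev l' := by
  apply D.faithful
  intro x hx
  rw [D.ev_smul l hl x (D.chk_lt x hx), D.ev_smul l' hl' x (D.chk_lt x hx), h x hx]

/-- The first `k` generators. -/
def S (k : ℕ) : Set G := {g | ∃ j : ℕ, j < k ∧ D.gen j = g}

/-- The group generated by the first `k` generators. -/
def H (k : ℕ) : Subgroup G := Subgroup.closure (D.S k)

theorem gen_mem {k : ℕ} (j : ℕ) (h : j < k) : D.gen j ∈ D.H k :=
  Subgroup.subset_closure ⟨j, h, rfl⟩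

theorem ev_mem (k : ℕ) (l : List ℕ) (h : ∀ c ∈ l, c < k) : D.ev l ∈ D.H k := by
  induction l with
  | nil => exact (D.H k).one_mem
  | cons j l ih =>
    rw [ev_cons]
    exact (D.H k).mul_mem (D.gen_mem j (h j (by simp))) (ih fun c hc => h c (by simp [hc]))

theorem H_mono {k k' : ℕ} (h : k ≤ k') : D.H k ≤ D.H k' :=
  Subgroup.closure_mono fun _ ⟨j, hj, hg⟩ => ⟨j, lt_of_lt_of_le hj h, hg⟩

theorem H_zero : D.H 0 = ⊥ := by
  rw [H, Subgroup.closure_eq_bot_iff]
  rintro g ⟨j, hj, -⟩
  exact absurd hj (Nat.not_lt_zero _)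

theorem card_H_zero : Nat.card (D.H 0) = 1 := by
  rw [H_zero]; exact Subgroup.card_bot

theorem H_eq_closure_range (k : ℕ) :
    D.H k = Subgroup.closure (Set.range fun j : Fin k => D.gen j.val) := by
  unfold H
  congr 1
  ext g
  constructor
  · rintro ⟨j, hj, rfl⟩
    exact ⟨⟨j, hj⟩, rfl⟩
  · rintro ⟨j, rfl⟩
    exact ⟨j.val, j.isLt, rfl⟩

theorem H_le_stabilizer (k : ℕ) (hk : k ≤ D.m) (b : ℕ) (hb : b < D.N)
    (h : ∀ j < k, D.tab j b = b) : D.H k ≤ MulAction.stabilizer G (D.pt b) := by
  rw [H, Subgroup.closure_le]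
  rintro g ⟨j, hj, rfl⟩
  show D.gen j • D.pt b = D.pt b
  rw [D.gen_smul j (lt_of_lt_of_le hj hk) b hb, h j hj]

section level

variable {D}
variable {k k' b : ℕ} {T : List (List ℕ)} {E : List (List (ℕ × List ℕ))}

/-- the facts packed in a level certificate -/
structure LevelOK (D : Data G α) (k k' b : ℕ) (T : List (List ℕ))
    (E : List (List (ℕ × List ℕ))) : Prop where
  km : k ≤ D.m
  bN : b < D.N
  le : k' ≤ k
  fix : ∀ j < k', D.tab j b = b
  head : T.getD 0 [] = []
  pos : 0 < T.length
  words : ∀ l ∈ T, ∀ c ∈ l, c < k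
  inj : ∀ a < T.length, ∀ a' < T.length,
    act D.tab (T.getD a []) b = act D.tab (T.getD a' []) b → a = a'
  step : ∀ j < k, ∀ a < T.length, ∃ a' < T.length, ∃ w : List ℕ, (∀ c ∈ w, c < k') ∧
    ∀ x ∈ D.chk, act D.tab (j :: T.getD a []) x = act D.tab (T.getD a' [] ++ w) x

theorem levelOK_of_check (hk : k ≤ D.m) (hb : b < D.N)
    (h : levelCheck D.tab k k' b D.chk T E = true) : LevelOK D k k' b T E := by
  unfold levelCheck at h
  simp only [Bool.and_eq_true] at h
  obtain ⟨⟨⟨⟨⟨h1, h2⟩, h3⟩, h4⟩, h5⟩, h6⟩ := h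
  have hT : ∃ T', T = [] :: T' := by
    match T, h3 with
    | [] :: T', _ => exact ⟨T', rfl⟩
  obtain ⟨T', hT'⟩ := hT
  refine ⟨hk, hb, Nat.le_of_ble_eq_true h1, ?_, ?_, ?_, ?_, ?_, ?_⟩
  · intro j hj
    exact Nat.eq_of_beq_eq_true (List.all_eq_true.1 h2 j (List.mem_range.2 hj))
  · rw [hT']; rfl
  · rw [hT']; simp
  · intro l hl c hc
    have := List.all_eq_true.1 (List.all_eq_true.1 h4 l hl) c hc
    exact Nat.le_of_ble_eq_true this
  · intro a ha a' ha' heq
    have hnd := (nodupB_iff _).1 h5
    have h1' : a < (T.map (fun l => act D.tab l b)).length := by simpa using ha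
    have h2' : a' < (T.map (fun l => act D.tab l b)).length := by simpa using ha'
    have := (List.Nodup.getElem_inj_iff hnd (hi := h1') (hj := h2')).1 (by
      simp only [List.getElem_map]
      rw [List.getD_eq_getElem _ _ ha, List.getD_eq_getElem _ _ ha'] at heq
      exact heq)
    exact this
  · intro j hj a ha
    have hj' := List.all_eq_true.1 h6 j (List.mem_range.2 hj)
    rw [Bool.and_eq_true] at hj'
    obtain ⟨hlen, hall⟩ := hj'
    have hlen' : (E.getD j []).length = T.length := Nat.eq_of_beq_eq_true hlen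
    have haE : a < (E.getD j []).length := by rw [hlen']; exact ha
    have hz : a < (List.zip T (E.getD j [])).length := by
      rw [List.length_zip, hlen']; simpa using ha
    have hmem : (List.zip T (E.getD j []))[a] ∈ List.zip T (E.getD j []) := List.getElem_mem hz
    have hs := List.all_eq_true.1 hall _ hmem
    rw [List.getElem_zip] at hs
    unfold stepCheck at hs
    simp only [Bool.and_eq_true] at hs
    obtain ⟨⟨hs1, hs2⟩, hs3⟩ := hs
    refine ⟨((E.getD j [])[a]).1, Nat.le_of_ble_eq_true hs1, ((E.getD j [])[a]).2, ?_, ?_⟩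
    · intro c hc
      exact Nat.le_of_ble_eq_true (List.all_eq_true.1 hs2 c hc)
    · intro x hx
      have := Nat.eq_of_beq_eq_true (List.all_eq_true.1 hs3 x hx)
      rw [List.getD_eq_getElem _ _ ha]
      exact this

variable (h : LevelOK D k k' b T E)
include h

theorem LevelOK.hUS (a : Fin T.length) : D.ev (T.getD a.val []) ∈ D.H k := by
  apply ev_mem
  have : T.getD a.val [] ∈ T := by
    rw [List.getD_eq_getElem _ _ a.isLt]
    exact List.getElem_mem _
  exact h.words _ this

theorem LevelOK.word_lt (a : ℕ) (ha : a < T.length) : ∀ c ∈ T.getD a [], c < D.m := by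
  intro c hc
  have : T.getD a [] ∈ T := by
    rw [List.getD_eq_getElem _ _ ha]
    exact List.getElem_mem _
  exact lt_of_lt_of_le (h.words _ this c hc) h.km

theorem LevelOK.hstep :
    ∀ s ∈ D.S k, ∀ a : Fin T.length, ∃ a' : Fin T.length,
      (D.ev (T.getD a'.val []))⁻¹ * (s * D.ev (T.getD a.val [])) ∈ D.H k' := by
  rintro s ⟨j, hj, rfl⟩ a
  obtain ⟨a', ha', w, hw, h3⟩ := h.step j hj a.val a.isLt
  refine ⟨⟨a', ha'⟩, ?_⟩
  have hjm : j < D.m := lt_of_lt_of_le hj h.km
  have hwm : ∀ c ∈ w, c < D.m := fun c hc => lt_of_lt_of_le (hw c hc) (h.le.trans h.km)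
  have := D.ev_eq_of_act (l := j :: T.getD a.val []) (l' := T.getD a' [] ++ w) (by
      intro c hc
      rcases List.mem_cons.1 hc with rfl | hc
      · exact hjm
      · exact h.word_lt a.val a.isLt c hc) (by
      intro c hc
      rcases List.mem_append.1 hc with hc | hc
      · exact h.word_lt a' ha' c hc
      · exact hwm c hc) h3
  rw [ev_cons, ev_append] at this
  rw [this]
  simpa using D.ev_mem k' _ hw

theorem LevelOK.hinj (a a' : Fin T.length)
    (he : D.ev (T.getD a.val []) • D.pt b = D.ev (T.getD a'.val []) • D.pt b) : a = a' := by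
  apply Fin.ext
  apply h.inj a.val a.isLt a'.val a'.isLt
  rw [D.ev_smul _ (h.word_lt a.val a.isLt) b h.bN, D.ev_smul _ (h.word_lt a'.val a'.isLt) b h.bN] at he
  exact D.pt_inj _ (D.act_lt _ (h.word_lt a.val a.isLt) b h.bN) _
    (D.act_lt _ (h.word_lt a'.val a'.isLt) b h.bN) he

theorem LevelOK.h1 : ∃ a : Fin T.length, D.ev (T.getD a.val []) = 1 :=
  ⟨⟨0, h.pos⟩, by show D.ev (T.getD 0 []) = 1; rw [h.head, ev_nil]⟩

theorem LevelOK.le_stab : D.H k' ≤ MulAction.stabilizer G (D.pt b) :=
  D.H_le_stabilizer k' (h.le.trans h.km) b h.bN h.fix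

variable [Finite G]

theorem LevelOK.inf_stabilizer : D.H k ⊓ MulAction.stabilizer G (D.pt b) = D.H k' :=
  Chain.closure_inf_stabilizer (D.S k) (D.H k') (D.pt b)
    (fun a : Fin T.length => D.ev (T.getD a.val []))
    (D.H_mono h.le) h.le_stab h.h1 h.hUS h.hinj h.hstep

theorem LevelOK.card : Nat.card (D.H k) = T.length * Nat.card (D.H k') := by
  have := Chain.card_closure (D.S k) (D.H k') (D.pt b)
    (fun a : Fin T.length => D.ev (T.getD a.val []))
    (D.H_mono h.le) h.le_stab h.h1 h.hUS h.hinj h.hstep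
  rw [Nat.card_fin] at this
  exact this

/-- Every element of `H k` is a transversal word times an element of `H k'`. -/
theorem LevelOK.mem_H_iff (g : G) :
    g ∈ D.H k ↔ ∃ a : Fin T.length, ∃ h' ∈ D.H k', g = D.ev (T.getD a.val []) * h' :=
  Chain.mem_closure_iff (D.S k) (D.H k') (fun a : Fin T.length => D.ev (T.getD a.val []))
    (D.H_mono h.le) h.h1 h.hUS h.hstep g

/-- The orbit of the base point under `H k` is given by the transversal. -/
theorem LevelOK.exists_smul_eq (g : G) (hg : g ∈ D.H k) :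
    ∃ a : Fin T.length, g • D.pt b = D.pt (act D.tab (T.getD a.val []) b) := by
  obtain ⟨a, h', hh', rfl⟩ := (h.mem_H_iff g).1 hg
  refine ⟨a, ?_⟩
  have : h' • D.pt b = D.pt b := h.le_stab hh'
  rw [mul_smul, this, D.ev_smul _ (h.word_lt a.val a.isLt) b h.bN]

omit [Finite G] in
/-- Upper-bound step: if every `γ` satisfying `P` sends the base point to a point index in the orbit
given by the transversal, and the elements fixing the base point lie in `H k'`, then all such `γ` lie
in `H k`. -/
theorem LevelOK.mem_H_of_cover (P : G → Prop)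
    (hP : ∀ γ u, P γ → u ∈ D.H k → P (u⁻¹ * γ))
    (hyp : ∀ γ, P γ → ∃ a < T.length, γ • D.pt b = D.pt (act D.tab (T.getD a []) b))
    (next : ∀ γ, P γ → γ • D.pt b = D.pt b → γ ∈ D.H k') :
    ∀ γ, P γ → γ ∈ D.H k := by
  intro γ hγ
  obtain ⟨a, ha, hay⟩ := hyp γ hγ
  have hu : D.ev (T.getD a []) ∈ D.H k := h.hUS ⟨a, ha⟩
  have hub : D.ev (T.getD a []) • D.pt b = γ • D.pt b := by
    rw [D.ev_smul _ (h.word_lt a ha) b h.bN, hay]
  have h1 : ((D.ev (T.getD a []))⁻¹ * γ) • D.pt b = D.pt b := by
    rw [mul_smul, ← hub, inv_smul_smul]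
  have h2 := next _ (hP γ _ hγ hu) h1
  have : γ = D.ev (T.getD a []) * ((D.ev (T.getD a []))⁻¹ * γ) := by group
  rw [this]
  exact (D.H k).mul_mem hu (D.H_mono h.le h2)

end level

end Data

end Cfsg.Agent.Lib.Helper89.TableChain2
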