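import Mathlib
import Cfsg.Agent.Lib.Helper89.TableChain2

/-!
# Lower bounds for the order of a generated permutation group

`fixH D l` is the subgroup of `⟨D.gen j : j < D.m⟩` fixing the points with indices in `l`.
`fixH_level` bounds the index of `fixH D (b :: l)` in `fixH D l` from below by exhibiting words whose
images of `b` are pairwise distinct; `lbCheck` is the `Bool`-valued test.
-/

set_option autoImplicit false

namespace Cfsg.Agent.Lib.Helper89.OrbitLB

open Cfsg.Agent.Lib.Helper89.TableChain2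

theorem card_ge_mul {G α : Type*} [Group G] [MulAction G α] [Finite G] (K K' : Subgroup G)
    (b : α) (ws : List G) (hws : ∀ w ∈ ws, w ∈ K) (hK' : K' ≤ K) (hstab : ∀ x ∈ K', x • b = b)
    (hnd : (ws.map (fun w => w • b)).Nodup) : ws.length * Nat.card K' ≤ Nat.card K := by
  classical
  let φ : Fin ws.length × K' → K := fun p =>
    ⟨ws[p.1] * p.2.1, K.mul_mem (hws _ (List.getElem_mem _)) (hK' p.2.2)⟩
  have hφ : Function.Injective φ := by
    rintro ⟨i, x⟩ ⟨j, y⟩ h
    have h' : ws[i] * x.1 = ws[j] * y.1 := congrArg Subtype.val h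
    have hb : ws[i] • b = ws[j] • b := by
      have h2 := congrArg (fun g => g • b) h'
      simp only [mul_smul, hstab x.1 x.2, hstab y.1 y.2] at h2
      exact h2
    have hij : i = j := by
      have hi' : i.1 < (ws.map (fun w => w • b)).length := by simp
      have hj' : j.1 < (ws.map (fun w => w • b)).length := by simp
      have h3 : (ws.map (fun w => w • b))[i.1]'hi' = (ws.map (fun w => w • b))[j.1]'hj' := by
        rw [List.getElem_map, List.getElem_map]
        exact hb
      exact Fin.ext ((List.Nodup.getElem_inj_iff hnd).1 h3)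
    subst hij
    have : x.1 = y.1 := mul_left_cancel h'
    exact Prod.ext rfl (Subtype.ext this)
  have := Nat.card_le_card_of_injective φ hφ
  rwa [Nat.card_prod, Nat.card_fin] at this

variable {G : Type*} [Group G] {α : Type*} [MulAction G α] (D : Data G α)

/-- elements of the generated group fixing the listed points -/
def fixH (l : List ℕ) : Subgroup G where
  carrier := {x | x ∈ D.H D.m ∧ ∀ j ∈ l, x • D.pt j = D.pt j}
  one_mem' := ⟨(D.H D.m).one_mem, fun _ _ => one_smul _ _⟩
  mul_mem' := by
    rintro a b ⟨ha, ha'⟩ ⟨hb, hb'⟩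
    refine ⟨(D.H D.m).mul_mem ha hb, fun j hj => ?_⟩
    rw [mul_smul, hb' j hj, ha' j hj]
  inv_mem' := by
    rintro a ⟨ha, ha'⟩
    refine ⟨(D.H D.m).inv_mem ha, fun j hj => ?_⟩
    rw [inv_smul_eq_iff, ha' j hj]

theorem fixH_nil : fixH D [] = D.H D.m := by
  ext x
  constructor
  · rintro ⟨h, _⟩; exact h
  · intro h; exact ⟨h, fun _ hj => absurd hj (List.not_mem_nil)⟩

/-- the `Bool` test for one level -/
def lbCheck (tab : ℕ → ℕ → ℕ) (m : ℕ) (l : List ℕ) (b : ℕ) (W : List (List ℕ)) : Bool :=
  W.all (fun w => w.all (fun c => decide (c < m)) && l.all (fun j => act tab w j == j)) &&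
    nodupB (W.map (fun w => act tab w b))

theorem fixH_level [Finite G] (l : List ℕ) (b : ℕ) (hb : b < D.N) (hl : ∀ j ∈ l, j < D.N)
    (W : List (List ℕ)) (h : lbCheck D.tab D.m l b W = true) :
    W.length * Nat.card (fixH D (b :: l)) ≤ Nat.card (fixH D l) := by
  unfold lbCheck at h
  rw [Bool.and_eq_true, List.all_eq_true, nodupB_iff] at h
  obtain ⟨hW, hnd⟩ := h
  have hW' : ∀ w ∈ W, (∀ c ∈ w, c < D.m) ∧ ∀ j ∈ l, act D.tab w j = j := by
    intro w hw
    have := hW w hw
    rw [Bool.and_eq_true, List.all_eq_true, List.all_eq_true] at this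
    refine ⟨fun c hc => of_decide_eq_true (this.1 c hc), fun j hj => ?_⟩
    exact beq_iff_eq.1 (this.2 j hj)
  have hlen : (W.map D.ev).length = W.length := List.length_map _
  rw [← hlen]
  apply card_ge_mul (fixH D l) (fixH D (b :: l)) (D.pt b) (W.map D.ev)
  · intro x hx
    rw [List.mem_map] at hx
    obtain ⟨w, hw, rfl⟩ := hx
    refine ⟨D.ev_mem D.m w (hW' w hw).1, fun j hj => ?_⟩
    rw [D.ev_smul w (hW' w hw).1 j (hl j hj), (hW' w hw).2 j hj]
  · rintro x ⟨hx, hx'⟩
    exact ⟨hx, fun j hj => hx' j (List.mem_cons_of_mem _ hj)⟩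
  · rintro x ⟨_, hx'⟩
    exact hx' b (List.mem_cons_self)
  · rw [List.map_map]
    have hinj : ∀ w ∈ W, ∀ w' ∈ W, (fun w => D.ev w • D.pt b) w = (fun w => D.ev w • D.pt b) w' →
        act D.tab w b = act D.tab w' b := by
      intro w hw w' hw' he
      simp only at he
      rw [D.ev_smul w (hW' w hw).1 b hb, D.ev_smul w' (hW' w' hw').1 b hb] at he
      exact D.pt_inj _ (D.act_lt w (hW' w hw).1 b hb) _ (D.act_lt w' (hW' w' hw').1 b hb) he
    -- nodup of the images follows from nodup of the indices
    have hmap : (W.map (fun w => act D.tab w b)).Nodup := hnd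
    rw [List.nodup_map_iff_inj_on (List.Nodup.of_map _ hmap)]
    intro w hw w' hw' he
    have h1 := hinj w hw w' hw' he
    exact (List.nodup_map_iff_inj_on (List.Nodup.of_map _ hmap)).1 hmap w hw w' hw' h1

end Cfsg.Agent.Lib.Helper89.OrbitLB
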