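import Cfsg.Agent.Lib.Helper65.SchurCover

/-!
# Transport of `HasSchurMultiplier` along an isomorphism (also across universes)
-/

set_option autoImplicit false

namespace Cfsg.Agent.Lib.Helper89.MultTransfer

open Cfsg Cfsg.Agent.Lib.Helper65

universe u v w

theorem ker_comp_equiv {Γ : Type*} {G : Type*} {H : Type*} [Group Γ] [Group G] [Group H]
    (σ : Γ →* G) (e : G ≃* H) : (e.toMonoidHom.comp σ).ker = σ.ker := by
  ext x
  rw [MonoidHom.mem_ker, MonoidHom.mem_ker, MonoidHom.comp_apply]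
  exact e.map_eq_one_iff

theorem stem_comp_equiv {Γ : Type*} {G : Type*} {H : Type*} [Group Γ] [Group G] [Group H]
    (σ : Γ →* G) (e : G ≃* H) (hσ : Cfsg.IsStemExtension σ) :
    Cfsg.IsStemExtension (e.toMonoidHom.comp σ) := by
  obtain ⟨h1, h2, h3⟩ := hσ
  refine ⟨e.surjective.comp h1, ?_, ?_⟩
  · rw [ker_comp_equiv]; exact h2
  · rw [ker_comp_equiv]; exact h3

/-- the Schur multiplier only depends on the isomorphism type, in whatever universe -/
theorem hasSchurMultiplier_of_mulEquiv {G : Type u} {G0 : Type w} [Group G] [Group G0]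
    [Finite G0] (e : G ≃* G0) {A : Type v} [CommGroup A] (h : Cfsg.HasSchurMultiplier G0 A) :
    Cfsg.HasSchurMultiplier G A := by
  have hfinG : Finite G := Finite.of_equiv G0 e.symm.toEquiv
  obtain ⟨eA⟩ := equiv_multSub G0 h
  -- part 2 for `G`
  have part2 : ∀ (Γ : Type u) [Group Γ] [Finite Γ] (σ : Γ →* G), Cfsg.IsStemExtension σ →
      ∃ π : A →* σ.ker, Function.Surjective π := by
    intro Γ _ _ σ hσ
    have hτ := stem_comp_equiv σ e hσ
    obtain ⟨π, hπ⟩ := exists_surj_of_stem G0 (e.toMonoidHom.comp σ) hτ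
    have hk := ker_comp_equiv σ e
    refine ⟨(MulEquiv.subgroupCongr hk).toMonoidHom.comp (π.comp eA.toMonoidHom), ?_⟩
    exact (MulEquiv.subgroupCongr hk).surjective.comp (hπ.comp eA.surjective)
  refine ⟨?_, part2⟩
  -- a cover of `G`
  obtain ⟨⟨ΓG, iG, fG, σG, hσG, ⟨eG⟩⟩, -⟩ := hasSchurMultiplier_multSub G
  obtain ⟨⟨Γ0, i0, f0, σ0, hσ0, ⟨e0⟩⟩, -⟩ := h
  have hfinA : Finite A := Finite.of_equiv _ e0.toEquiv
  have hfinM : Finite (multSub G) := Finite.of_equiv _ eG.toEquiv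
  obtain ⟨π, hπ⟩ := part2 ΓG σG hσG
  -- `|A| ≤ |M(G)|`
  have hτ0 := stem_comp_equiv σ0 e.symm hσ0
  obtain ⟨ρ, hρ⟩ := exists_surj_of_stem G (e.symm.toMonoidHom.comp σ0) hτ0
  have hk0 := ker_comp_equiv σ0 e.symm
  have hle1 : Nat.card A ≤ Nat.card (multSub G) := by
    rw [← Nat.card_congr e0.toEquiv, ← Nat.card_congr (MulEquiv.subgroupCongr hk0).toEquiv]
    exact Nat.card_le_card_of_surjective _ hρ
  have hle2 : Nat.card σG.ker ≤ Nat.card A := Nat.card_le_card_of_surjective _ hπ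
  have heq : Nat.card A = Nat.card σG.ker := by
    apply le_antisymm _ hle2
    rw [Nat.card_congr eG.toEquiv]
    exact hle1
  have hbij : Function.Bijective π :=
    (Nat.bijective_iff_surjective_and_card _).mpr ⟨hπ, heq⟩
  exact ⟨ΓG, iG, fG, σG, hσG, ⟨(MulEquiv.ofBijective π hbij).symm⟩⟩

end Cfsg.Agent.Lib.Helper89.MultTransfer
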