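import Mathlib
import Cfsg.Prelude.Def_ClassicalGeometry

/-!
# Transfer of matrix groups along a ring isomorphism

`glCongr σ : GL ι R ≃* GL ι S` for a ring isomorphism `σ : R ≃+* S`, and the induced isomorphism of
isometry groups `isometryGroupCongr`.  With `ZMod.ringEquivOfPrime` this reduces statements about
"a field with `p` elements" to `ZMod p`, where `decide` is available.
-/

set_option autoImplicit false

namespace Cfsg.Agent.Lib.Helper89

open Matrix

variable {ι : Type} [Fintype ι] [DecidableEq ι]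

/-- The general linear groups over isomorphic rings are isomorphic. -/
noncomputable def glCongr {R S : Type*} [CommRing R] [CommRing S] (σ : R ≃+* S) :
    Matrix.GeneralLinearGroup ι R ≃* Matrix.GeneralLinearGroup ι S :=
  Units.mapEquiv (σ.mapMatrix (m := ι)).toMulEquiv

theorem glCongr_coe {R S : Type*} [CommRing R] [CommRing S] (σ : R ≃+* S)
    (g : Matrix.GeneralLinearGroup ι R) :
    ((glCongr σ g : Matrix.GeneralLinearGroup ι S) : Matrix ι ι S) = (g : Matrix ι ι R).map σ := rfl

theorem glCongr_symm_coe {R S : Type*} [CommRing R] [CommRing S] (σ : R ≃+* S)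
    (g : Matrix.GeneralLinearGroup ι S) :
    (((glCongr σ).symm g : Matrix.GeneralLinearGroup ι R) : Matrix ι ι R) =
      (g : Matrix ι ι S).map σ.symm := rfl

omit [DecidableEq ι] in
theorem map_mulVec_comp {R S : Type*} [CommRing R] [CommRing S] (σ : R ≃+* S) (M : Matrix ι ι R)
    (v : ι → R) : (M.map σ) *ᵥ (σ ∘ v) = σ ∘ (M *ᵥ v) := by
  ext i
  exact (RingHom.map_mulVec (σ : R →+* S) M v i).symm

theorem glCongr_mem_isometryGroup {F K : Type*} [Field F] [Field K] (σ : F ≃+* K)
    (Q : (ι → F) → F) (Q' : (ι → K) → K) (h : ∀ v, Q' (σ ∘ v) = σ (Q v))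
    (g : Matrix.GeneralLinearGroup ι F) (hg : g ∈ Cfsg.isometryGroup F Q) :
    glCongr σ g ∈ Cfsg.isometryGroup K Q' := by
  intro u _
  show Q' (((glCongr σ g : Matrix.GeneralLinearGroup ι K) : Matrix ι ι K) *ᵥ u) = Q' u
  have hu : u = σ ∘ (σ.symm ∘ u) := by
    ext i
    simp
  have hg' : Q ((g : Matrix ι ι F) *ᵥ (σ.symm ∘ u)) = Q (σ.symm ∘ u) := hg (σ.symm ∘ u) (σ.symm ∘ u)
  rw [glCongr_coe]
  conv_lhs => rw [hu]
  rw [map_mulVec_comp, h, hg', ← h, ← hu]

/-- The isometry groups of corresponding forms over isomorphic fields are isomorphic. -/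
noncomputable def isometryGroupCongr {F K : Type*} [Field F] [Field K] (σ : F ≃+* K)
    (Q : (ι → F) → F) (Q' : (ι → K) → K) (h : ∀ v, Q' (σ ∘ v) = σ (Q v)) :
    Cfsg.isometryGroup F Q ≃* Cfsg.isometryGroup K Q' where
  toFun g := ⟨glCongr σ g.1, glCongr_mem_isometryGroup σ Q Q' h g.1 g.2⟩
  invFun g := ⟨(glCongr σ).symm g.1, by
    have h' : ∀ v, Q (σ.symm ∘ v) = σ.symm (Q' v) := by
      intro v
      apply σ.injective
      rw [← h]
      simp only [RingEquiv.apply_symm_apply]
      congr 1
      ext i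
      simp
    exact glCongr_mem_isometryGroup σ.symm Q' Q h' g.1 g.2⟩
  left_inv g := by
    apply Subtype.ext
    exact (glCongr σ).symm_apply_apply g.1
  right_inv g := by
    apply Subtype.ext
    exact (glCongr σ).apply_symm_apply g.1
  map_mul' a b := by
    apply Subtype.ext
    exact map_mul (glCongr σ) a.1 b.1

theorem isometryGroupCongr_coe {F K : Type*} [Field F] [Field K] (σ : F ≃+* K)
    (Q : (ι → F) → F) (Q' : (ι → K) → K) (h : ∀ v, Q' (σ ∘ v) = σ (Q v))
    (g : Cfsg.isometryGroup F Q) :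
    ((isometryGroupCongr σ Q Q' h g).1 : Matrix ι ι K) = (g.1 : Matrix ι ι F).map σ := rfl

/-- The determinant-one isometry groups of corresponding forms over isomorphic fields are isomorphic. -/
noncomputable def specialIsometryGroupCongr {F K : Type*} [Field F] [Field K] (σ : F ≃+* K)
    (Q : (ι → F) → F) (Q' : (ι → K) → K) (h : ∀ v, Q' (σ ∘ v) = σ (Q v)) :
    Cfsg.specialIsometryGroup F Q ≃* Cfsg.specialIsometryGroup K Q' :=
  have key : ∀ g : Cfsg.isometryGroup F Q, g ∈ Cfsg.specialIsometryGroup F Q ↔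
      isometryGroupCongr σ Q Q' h g ∈ Cfsg.specialIsometryGroup K Q' := by
    intro g
    have h1 : g ∈ Cfsg.specialIsometryGroup F Q ↔ (g.1 : Matrix ι ι F).det = 1 := by
      show Matrix.GeneralLinearGroup.det g.1 = 1 ↔ _
      rw [Units.ext_iff]
      rfl
    have h2 : isometryGroupCongr σ Q Q' h g ∈ Cfsg.specialIsometryGroup K Q' ↔
        ((isometryGroupCongr σ Q Q' h g).1 : Matrix ι ι K).det = 1 := by
      show Matrix.GeneralLinearGroup.det (isometryGroupCongr σ Q Q' h g).1 = 1 ↔ _
      rw [Units.ext_iff]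
      rfl
    rw [h1, h2, isometryGroupCongr_coe]
    have hdet : ((g.1 : Matrix ι ι F).map σ).det = σ (g.1 : Matrix ι ι F).det :=
      (RingHom.map_det (σ : F →+* K) _).symm
    rw [hdet]
    constructor
    · intro hh
      rw [hh, map_one]
    · intro hh
      apply σ.injective
      rw [hh, map_one]
  (isometryGroupCongr σ Q Q' h).subgroupMap (Cfsg.specialIsometryGroup F Q) |>.trans
    (MulEquiv.subgroupCongr (by
      ext g
      constructor
      · rintro ⟨x, hx, rfl⟩
        exact (key x).mp hx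
      · intro hg
        exact ⟨(isometryGroupCongr σ Q Q' h).symm g,
          (key _).mpr (by rwa [MulEquiv.apply_symm_apply]), MulEquiv.apply_symm_apply _ g⟩))

end Cfsg.Agent.Lib.Helper89
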