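import Mathlib
import Cfsg.Agent.Lib.Helper89.Chain

/-!
# Table-driven verified stabilizer chains

A group `G` acts on `α`; `pt : Fin N → α` enumerates an invariant family of points on which the
action is faithful, `gen : Fin m → G` are generators whose action on the points is given by a
lookup table `tab`.  `H k` is the subgroup generated by the first `k` generators.  A decidable
certificate `LevelOK tab k k' b T E` (transversal words `T`, Schreier witnesses `E`) proves
`H k ⊓ stabilizer (pt b) = H k'` and `|H k| = |T| * |H k'|`.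
-/

set_option autoImplicit false

namespace Cfsg.Agent.Lib.Helper89.TableChain

/-- Action of a word on a point index, by table lookups. -/
def act {m N : ℕ} (tab : Fin m → Fin N → Fin N) (l : List (Fin m)) (x : Fin N) : Fin N :=
  l.foldr tab x

/-- The decidable certificate of one level of the chain. -/
structure LevelOK {m N : ℕ} (tab : Fin m → Fin N → Fin N) (k k' : ℕ) (b : Fin N)
    (T : List (List (Fin m))) (E : List (List (ℕ × List (Fin m)))) : Prop where
  le : k' ≤ k
  fix : ∀ j ∈ List.finRange m, j.val < k' → tab j b = b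
  head : T.head? = some []
  pos : 0 < T.length
  words : ∀ l ∈ T, ∀ c ∈ l, c.val < k
  inj : ∀ a ∈ List.range T.length, ∀ a' ∈ List.range T.length,
    act tab (T.getD a []) b = act tab (T.getD a' []) b → a = a'
  step : ∀ j ∈ List.finRange m, j.val < k → ∀ a ∈ List.range T.length,
    ((E.getD j.val []).getD a (0, [])).1 < T.length ∧
    (∀ c ∈ ((E.getD j.val []).getD a (0, [])).2, c.val < k') ∧
    ∀ x ∈ List.finRange N, act tab (j :: T.getD a []) x =
      act tab (T.getD ((E.getD j.val []).getD a (0, [])).1 [] ++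
        ((E.getD j.val []).getD a (0, [])).2) x

/-- The data of a table-driven faithful action. -/
structure Data (G : Type*) [Group G] (α : Type*) [MulAction G α] (m N : ℕ) where
  gen : Fin m → G
  pt : Fin N → α
  tab : Fin m → Fin N → Fin N
  gen_smul : ∀ j x, gen j • pt x = pt (tab j x)
  faithful : ∀ g g' : G, (∀ x, g • pt x = g' • pt x) → g = g'
  pt_inj : Function.Injective pt

variable {G : Type*} [Group G] {α : Type*} [MulAction G α] {m N : ℕ} (D : Data G α m N)

namespace Data

def ev (l : List (Fin m)) : G := (l.map D.gen).prod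

theorem ev_nil : D.ev [] = 1 := rfl

theorem ev_cons (j : Fin m) (l : List (Fin m)) : D.ev (j :: l) = D.gen j * D.ev l := by
  simp [ev]

theorem ev_append (l l' : List (Fin m)) : D.ev (l ++ l') = D.ev l * D.ev l' := by
  simp [ev]

theorem ev_smul (l : List (Fin m)) (x : Fin N) : D.ev l • D.pt x = D.pt (act D.tab l x) := by
  induction l with
  | nil => simp [ev, act]
  | cons j l ih =>
    rw [ev_cons, mul_smul, ih, D.gen_smul]
    rfl

theorem ev_eq_of_act {l l' : List (Fin m)}
    (h : ∀ x ∈ List.finRange N, act D.tab l x = act D.tab l' x) : D.ev l = D.ev l' := by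
  apply D.faithful
  intro x
  rw [ev_smul, ev_smul, h x (List.mem_finRange x)]

/-- The first `k` generators. -/
def S (k : ℕ) : Set G := {g | ∃ j : Fin m, j.val < k ∧ D.gen j = g}

/-- The group generated by the first `k` generators. -/
def H (k : ℕ) : Subgroup G := Subgroup.closure (D.S k)

theorem gen_mem {k : ℕ} (j : Fin m) (h : j.val < k) : D.gen j ∈ D.H k :=
  Subgroup.subset_closure ⟨j, h, rfl⟩

theorem ev_mem (k : ℕ) (l : List (Fin m)) (h : ∀ c ∈ l, c.val < k) : D.ev l ∈ D.H k := by
  induction l with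
  | nil => exact (D.H k).one_mem
  | cons j l ih =>
    rw [ev_cons]
    exact (D.H k).mul_mem (D.gen_mem j (h j (by simp))) (ih fun c hc => h c (by simp [hc]))

theorem H_mono {k k' : ℕ} (h : k ≤ k') : D.H k ≤ D.H k' :=
  Subgroup.closure_mono fun _ ⟨j, hj, hg⟩ => ⟨j, lt_of_lt_of_le hj h, hg⟩

theorem H_zero : D.H 0 = ⊥ := by
  rw [H, Subgroup.closure_eq_bot_iff]
  rintro g ⟨j, hj, -⟩
  exact absurd hj (Nat.not_lt_zero _)

theorem card_H_zero : Nat.card (D.H 0) = 1 := by
  rw [H_zero]; exact Subgroup.card_bot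

theorem H_le_stabilizer (k : ℕ) (b : Fin N)
    (h : ∀ j ∈ List.finRange m, j.val < k → D.tab j b = b) :
    D.H k ≤ MulAction.stabilizer G (D.pt b) := by
  rw [H, Subgroup.closure_le]
  rintro g ⟨j, hj, rfl⟩
  show D.gen j • D.pt b = D.pt b
  rw [D.gen_smul, h j (List.mem_finRange j) hj]

section level

variable {D}
variable {k k' : ℕ} {b : Fin N} {T : List (List (Fin m))} {E : List (List (ℕ × List (Fin m)))}

theorem head' (h : LevelOK D.tab k k' b T E) : T.getD 0 [] = [] := by
  have := h.head
  cases T with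
  | nil => simp at this
  | cons l T => simpa using this

theorem hUS (h : LevelOK D.tab k k' b T E) (a : Fin T.length) :
    D.ev (T.getD a.val []) ∈ D.H k := by
  apply ev_mem
  have : T.getD a.val [] ∈ T := by
    rw [List.getD_eq_getElem _ _ a.isLt]
    exact List.getElem_mem _
  exact h.words _ this

theorem hstep (h : LevelOK D.tab k k' b T E) :
    ∀ s ∈ D.S k, ∀ a : Fin T.length, ∃ a' : Fin T.length,
      (D.ev (T.getD a'.val []))⁻¹ * (s * D.ev (T.getD a.val [])) ∈ D.H k' := by
  rintro s ⟨j, hj, rfl⟩ a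
  obtain ⟨h1, h2, h3⟩ := h.step j (List.mem_finRange j) hj a.val (List.mem_range.2 a.isLt)
  refine ⟨⟨_, h1⟩, ?_⟩
  have := D.ev_eq_of_act h3
  rw [ev_cons, ev_append] at this
  rw [this]
  simpa using D.ev_mem k' _ h2

theorem hinj (h : LevelOK D.tab k k' b T E) (a a' : Fin T.length)
    (he : D.ev (T.getD a.val []) • D.pt b = D.ev (T.getD a'.val []) • D.pt b) : a = a' := by
  apply Fin.ext
  apply h.inj a.val (List.mem_range.2 a.isLt) a'.val (List.mem_range.2 a'.isLt)
  rw [ev_smul, ev_smul] at he
  exact D.pt_inj he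

variable [Finite G]

theorem inf_stabilizer (h : LevelOK D.tab k k' b T E) :
    D.H k ⊓ MulAction.stabilizer G (D.pt b) = D.H k' :=
  Chain.closure_inf_stabilizer (D.S k) (D.H k') (D.pt b)
    (fun a : Fin T.length => D.ev (T.getD a.val []))
    (D.H_mono h.le) (D.H_le_stabilizer k' b h.fix) ⟨⟨0, h.pos⟩, by
      show D.ev (T.getD 0 []) = 1
      rw [head' h, ev_nil]⟩ (hUS h) (hinj h) (hstep h)

theorem card (h : LevelOK D.tab k k' b T E) :
    Nat.card (D.H k) = T.length * Nat.card (D.H k') := by
  have := Chain.card_closure (D.S k) (D.H k') (D.pt b)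
    (fun a : Fin T.length => D.ev (T.getD a.val []))
    (D.H_mono h.le) (D.H_le_stabilizer k' b h.fix) ⟨⟨0, h.pos⟩, by
      show D.ev (T.getD 0 []) = 1
      rw [head' h, ev_nil]⟩ (hUS h) (hinj h) (hstep h)
  rw [Nat.card_fin] at this
  exact this

/-- Every element of `H k` is a transversal word times an element of `H k'`. -/
theorem mem_H_iff (h : LevelOK D.tab k k' b T E) (g : G) :
    g ∈ D.H k ↔ ∃ a : Fin T.length, ∃ h' ∈ D.H k', g = D.ev (T.getD a.val []) * h' :=
  Chain.mem_closure_iff (D.S k) (D.H k') (fun a : Fin T.length => D.ev (T.getD a.val []))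
    (D.H_mono h.le) ⟨⟨0, h.pos⟩, by
      show D.ev (T.getD 0 []) = 1
      rw [head' h, ev_nil]⟩ (hUS h) (hstep h) g

/-- The orbit of the base point under `H k` is given by the transversal. -/
theorem exists_smul_eq (h : LevelOK D.tab k k' b T E) (g : G) (hg : g ∈ D.H k) :
    ∃ a : Fin T.length, g • D.pt b = D.pt (act D.tab (T.getD a.val []) b) := by
  obtain ⟨a, h', hh', rfl⟩ := (mem_H_iff h g).1 hg
  refine ⟨a, ?_⟩
  have : h' • D.pt b = D.pt b := D.H_le_stabilizer k' b h.fix hh'
  rw [mul_smul, this, ev_smul]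

/-- Upper-bound step: if every `γ` satisfying `P` sends the base point into the orbit given by the
transversal (certified via an invariant `inv`), and the elements fixing the base point lie in
`H k'`, then all such `γ` lie in `H k`. -/
theorem mem_H_of_cover (h : LevelOK D.tab k k' b T E) (P : G → Prop)
    (hP : ∀ γ u, P γ → u ∈ D.H k → P (u⁻¹ * γ))
    (inv : Fin N → Prop)
    (hyp : ∀ γ, P γ → ∃ y, γ • D.pt b = D.pt y ∧ inv y)
    (cover : ∀ y, inv y → ∃ a ∈ List.range T.length, act D.tab (T.getD a []) b = y)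
    (next : ∀ γ, P γ → γ • D.pt b = D.pt b → γ ∈ D.H k') :
    ∀ γ, P γ → γ ∈ D.H k := by
  intro γ hγ
  obtain ⟨y, hy, hinv⟩ := hyp γ hγ
  obtain ⟨a, ha, hay⟩ := cover y hinv
  have hu : D.ev (T.getD a []) ∈ D.H k := hUS h ⟨a, List.mem_range.1 ha⟩
  have hub : D.ev (T.getD a []) • D.pt b = γ • D.pt b := by
    rw [ev_smul, hay, hy]
  have h1 : ((D.ev (T.getD a []))⁻¹ * γ) • D.pt b = D.pt b := by
    rw [mul_smul, ← hub, inv_smul_smul]
  have h2 := next _ (hP γ _ hγ hu) h1
  have : γ = D.ev (T.getD a []) * ((D.ev (T.getD a []))⁻¹ * γ) := by group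
  rw [this]
  exact (D.H k).mul_mem hu (D.H_mono h.le h2)

end level

/-- New data whose generators are words in the generators of `D`. -/
def ofWords {m' : ℕ} (W : Fin m' → List (Fin m)) (tab' : Fin m' → Fin N → Fin N)
    (h : ∀ j x, tab' j x = act D.tab (W j) x) : Data G α m' N where
  gen j := D.ev (W j)
  pt := D.pt
  tab := tab'
  gen_smul j x := by rw [D.ev_smul, h]
  faithful := D.faithful
  pt_inj := D.pt_inj

theorem ofWords_gen {m' : ℕ} (W : Fin m' → List (Fin m)) (tab' : Fin m' → Fin N → Fin N)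
    (h : ∀ j x, tab' j x = act D.tab (W j) x) (j : Fin m') :
    (D.ofWords W tab' h).gen j = D.ev (W j) := rfl

/-- The groups generated by words lie in the group generated by all original generators. -/
theorem ofWords_H_le {m' : ℕ} (W : Fin m' → List (Fin m)) (tab' : Fin m' → Fin N → Fin N)
    (h : ∀ j x, tab' j x = act D.tab (W j) x) (k : ℕ) :
    (D.ofWords W tab' h).H k ≤ D.H m := by
  rw [H, Subgroup.closure_le]
  rintro g ⟨j, -, rfl⟩
  exact D.ev_mem m (W j) (fun c _ => c.isLt)

/-- If every original generator is one of the words, the top groups agree. -/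
theorem ofWords_H_eq {m' : ℕ} (W : Fin m' → List (Fin m)) (tab' : Fin m' → Fin N → Fin N)
    (h : ∀ j x, tab' j x = act D.tab (W j) x) (hW : ∀ i : Fin m, ∃ j : Fin m', W j = [i]) :
    (D.ofWords W tab' h).H m' = D.H m := by
  apply le_antisymm (D.ofWords_H_le W tab' h m')
  rw [H, Subgroup.closure_le]
  rintro g ⟨i, -, rfl⟩
  obtain ⟨j, hj⟩ := hW i
  have : D.gen i = (D.ofWords W tab' h).gen j := by
    rw [ofWords_gen, hj, ev_cons, ev_nil, mul_one]
  rw [this]
  exact (D.ofWords W tab' h).gen_mem j j.isLt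

/-- The orbit of the base point is the set of transversal images. -/
theorem orbit_eq [Finite G] {k k' : ℕ} {b : Fin N} {T : List (List (Fin m))}
    {E : List (List (ℕ × List (Fin m)))} (h : LevelOK D.tab k k' b T E) :
    MulAction.orbit (D.H k) (D.pt b) =
      Set.range (fun a : Fin T.length => D.pt (act D.tab (T.getD a.val []) b)) := by
  ext y
  constructor
  · rintro ⟨⟨g, hg⟩, rfl⟩
    obtain ⟨a, ha⟩ := exists_smul_eq h g hg
    exact ⟨a, ha.symm⟩
  · rintro ⟨a, rfl⟩
    refine ⟨⟨D.ev (T.getD a.val []), hUS h a⟩, ?_⟩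
    show D.ev (T.getD a.val []) • D.pt b = _
    rw [ev_smul]

theorem card_orbit [Finite G] {k k' : ℕ} {b : Fin N} {T : List (List (Fin m))}
    {E : List (List (ℕ × List (Fin m)))} (h : LevelOK D.tab k k' b T E) :
    Nat.card (MulAction.orbit (D.H k) (D.pt b)) = T.length := by
  rw [orbit_eq D h]
  have hinj : Function.Injective
      (fun a : Fin T.length => D.pt (act D.tab (T.getD a.val []) b)) := by
    intro a a' haa
    apply hinj h a a'
    rw [ev_smul, ev_smul]
    exact haa
  rw [Nat.card_congr (Equiv.ofInjective _ hinj).symm, Nat.card_fin]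

end Data

end Cfsg.Agent.Lib.Helper89.TableChain
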