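import Mathlib
import Cfsg.Agent.S0256

/-!
# `GL₄(2) ≅ SL₄(2) ≅ PSL₄(2) ≅ A₈`
-/

set_option autoImplicit false

namespace Cfsg.Agent.Lib.Helper89.GL42

open Matrix

/-- `SL₄(2) ≃* PSL₄(2)` (the centre is trivial). -/
noncomputable def slEquivPsl :
    Matrix.SpecialLinearGroup (Fin 4) (ZMod 2) ≃* Matrix.ProjectiveSpecialLinearGroup (Fin 4) (ZMod 2) :=
  MulEquiv.ofBijective (QuotientGroup.mk' _) (by
    constructor
    · rw [← MonoidHom.ker_eq_bot_iff, QuotientGroup.ker_mk']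
      exact Cfsg.Agent.S0256.center_SL_eq_bot (F := ZMod 2) (by simp)
    · exact QuotientGroup.mk'_surjective _)

/-- `SL₄(2) ≃* GL₄(2)` (every determinant is `1`). -/
noncomputable def slEquivGl :
    Matrix.SpecialLinearGroup (Fin 4) (ZMod 2) ≃* Matrix.GeneralLinearGroup (Fin 4) (ZMod 2) :=
  MulEquiv.ofBijective Matrix.SpecialLinearGroup.toGL (by
    constructor
    · exact Matrix.SpecialLinearGroup.toGL_injective
    · intro g
      have hdet : (g : Matrix (Fin 4) (Fin 4) (ZMod 2)).det = 1 := by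
        have hu : IsUnit (g : Matrix (Fin 4) (Fin 4) (ZMod 2)).det :=
          (Matrix.isUnit_iff_isUnit_det _).mp g.isUnit
        have : ∀ z : ZMod 2, IsUnit z → z = 1 := by decide
        exact this _ hu
      refine ⟨⟨(g : Matrix (Fin 4) (Fin 4) (ZMod 2)), hdet⟩, ?_⟩
      apply Units.ext
      exact Matrix.SpecialLinearGroup.coe_GL_coe_matrix _)

/-- `GL₄(2) ≅ A₈`. -/
theorem gl_four_two_equiv_alternating :
    Nonempty (Matrix.GeneralLinearGroup (Fin 4) (ZMod 2) ≃* alternatingGroup (Fin 8)) := by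
  obtain ⟨e⟩ := Cfsg.Agent.S0256.result (F := ZMod 2) (by simp)
  exact ⟨slEquivGl.symm.trans (slEquivPsl.trans e)⟩

end Cfsg.Agent.Lib.Helper89.GL42
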