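import Mathlib
import Cfsg.Agent.Lib.Helper89.TableChain2

/-!
# Normalisers through verified stabiliser chains

For a table-driven chain `D` (see `TableChain2`) acting on a set of points all of which are indexed,
we certify the orbits of the groups `D.H k` by a labelling and connecting words, and deduce that an
element normalising `D.H k` preserves the sizes of the `D.H k`-orbits.  Combined with
`LevelOK.mem_H_of_cover` this gives `step`, one level of the proof that the normaliser of the top
group is the top group itself.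
-/

set_option autoImplicit false

namespace Cfsg.Agent.Lib.Helper89.NormChain

open TableChain2

/-- size of the class of `x` for the labelling `lab` on `{0,…,N-1}` -/
def sz (N : ℕ) (lab : ℕ → ℕ) (x : ℕ) : ℕ :=
  ((List.range N).filter (fun y => Nat.beq (lab y) (lab x))).length

theorem sz_eq_card (N : ℕ) (lab : ℕ → ℕ) (x : ℕ) :
    sz N lab x = ((Finset.range N).filter (fun y => lab y = lab x)).card := by
  unfold sz
  rw [← List.toFinset_card_of_nodup (List.Nodup.filter _ List.nodup_range)]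
  congr 1
  ext y
  simp only [List.mem_toFinset, List.mem_filter, List.mem_range, Finset.mem_filter, Finset.mem_range]
  constructor
  · rintro ⟨h1, h2⟩
    exact ⟨h1, Nat.eq_of_beq_eq_true h2⟩
  · rintro ⟨h1, h2⟩
    exact ⟨h1, by rw [h2]; exact Nat.beq_refl _⟩

/-- decidable certificate of the orbits of the first `k` generators -/
def orbCheck (tab : ℕ → ℕ → ℕ) (N k : ℕ) (lab : ℕ → ℕ) (W : ℕ → List ℕ) : Bool :=
  (List.range N).all (fun x => Nat.blt (lab x) N &&
    (List.range k).all (fun j => Nat.beq (lab (tab j x)) (lab x)) &&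
    (W x).all (fun c => Nat.blt c k) && Nat.beq (act tab (W x) (lab x)) x)

/-- decidable uniqueness criterion: a point outside `earlier` having the same class sizes as `b` for
all labellings in `sigs` has the same `lab` as `b`. -/
def uniqB (N : ℕ) (sigs : List (ℕ → ℕ)) (earlier : List ℕ) (lab : ℕ → ℕ) (b : ℕ) : Bool :=
  (List.range N).all (fun y => elemB y earlier ||
    !(sigs.all (fun l => Nat.beq (sz N l y) (sz N l b))) || Nat.beq (lab y) (lab b))

theorem uniqB_spec {N : ℕ} {sigs : List (ℕ → ℕ)} {earlier : List ℕ} {lab : ℕ → ℕ} {b : ℕ}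
    (h : uniqB N sigs earlier lab b = true) (y : ℕ) (hy : y < N) (he : y ∉ earlier)
    (hs : ∀ l ∈ sigs, sz N l y = sz N l b) : lab y = lab b := by
  unfold uniqB at h
  rw [List.all_eq_true] at h
  have := h y (List.mem_range.2 hy)
  simp only [Bool.or_eq_true, Bool.not_eq_true'] at this
  rcases this with (h1 | h2) | h3
  · exact absurd ((elemB_iff y earlier).1 h1) he
  · exfalso
    have : sigs.all (fun l => Nat.beq (sz N l y) (sz N l b)) = true := by
      rw [List.all_eq_true]
      intro l hl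
      rw [hs l hl]
      exact Nat.beq_refl _
    rw [this] at h2
    exact Bool.noConfusion h2
  · exact Nat.eq_of_beq_eq_true h3

variable {G : Type*} [Group G] {α : Type*} [MulAction G α] {D : Data G α}

/-- the facts packed in an orbit certificate -/
structure OrbOK (D : Data G α) (k : ℕ) (lab : ℕ → ℕ) (W : ℕ → List ℕ) : Prop where
  km : k ≤ D.m
  lab_lt : ∀ x < D.N, lab x < D.N
  inv : ∀ j < k, ∀ x < D.N, lab (D.tab j x) = lab x
  wlt : ∀ x < D.N, ∀ c ∈ W x, c < k
  conn : ∀ x < D.N, act D.tab (W x) (lab x) = x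

theorem orbOK_of_check {k : ℕ} {lab : ℕ → ℕ} {W : ℕ → List ℕ} (hk : k ≤ D.m)
    (h : orbCheck D.tab D.N k lab W = true) : OrbOK D k lab W := by
  unfold orbCheck at h
  rw [List.all_eq_true] at h
  have h' : ∀ x < D.N, (lab x < D.N ∧ (∀ j < k, lab (D.tab j x) = lab x) ∧
      (∀ c ∈ W x, c < k) ∧ act D.tab (W x) (lab x) = x) := by
    intro x hx
    have := h x (List.mem_range.2 hx)
    simp only [Bool.and_eq_true, List.all_eq_true, List.mem_range,
      Nat.blt_eq] at this
    obtain ⟨⟨⟨a, b⟩, c⟩, d⟩ := this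
    exact ⟨a, fun j hj => Nat.eq_of_beq_eq_true (b j hj), c, Nat.eq_of_beq_eq_true d⟩
  exact ⟨hk, fun x hx => (h' x hx).1, fun j hj x hx => (h' x hx).2.1 j hj,
    fun x hx => (h' x hx).2.2.1, fun x hx => (h' x hx).2.2.2⟩

section
variable {k : ℕ} {lab : ℕ → ℕ} {W : ℕ → List ℕ}
variable (ix : α → ℕ) (hix : ∀ a, ix a < D.N) (hpt : ∀ a, D.pt (ix a) = a)

include hix hpt in
theorem ix_pt (x : ℕ) (hx : x < D.N) : ix (D.pt x) = x :=
  D.pt_inj _ (hix _) _ hx (hpt _)

include hix hpt in
/-- the groups `H k` preserve the labelling -/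
theorem OrbOK.lab_smul (orb : OrbOK D k lab W) {g : G} (hg : g ∈ D.H k) (a : α) :
    lab (ix (g • a)) = lab (ix a) := by
  let K : Subgroup G :=
    { carrier := {g | ∀ a, lab (ix (g • a)) = lab (ix a)}
      one_mem' := fun a => by rw [one_smul]
      mul_mem' := fun {g h} hg hh a => by rw [mul_smul, hg, hh]
      inv_mem' := fun {g} hg a => by
        have := hg (g⁻¹ • a)
        rw [smul_inv_smul] at this
        exact this.symm }
  have : D.H k ≤ K := by
    rw [Data.H, Subgroup.closure_le]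
    rintro g ⟨j, hj, rfl⟩ a
    have h1 : D.gen j • a = D.pt (D.tab j (ix a)) := by
      conv_lhs => rw [← hpt a]
      exact D.gen_smul j (lt_of_lt_of_le hj orb.km) _ (hix a)
    rw [h1, ix_pt ix hix hpt _ (D.tab_lt j (lt_of_lt_of_le hj orb.km) _ (hix a))]
    exact orb.inv j hj _ (hix a)
  exact this hg a

include hix hpt in
/-- two points are in the same `H k`-orbit iff they have the same label -/
theorem OrbOK.orbit_iff (orb : OrbOK D k lab W) (a a' : α) :
    (∃ h ∈ D.H k, h • a = a') ↔ lab (ix a) = lab (ix a') := by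
  constructor
  · rintro ⟨h, hh, rfl⟩
    exact (orb.lab_smul ix hix hpt hh a).symm
  · intro hl
    have e1 : D.ev (W (ix a)) • D.pt (lab (ix a)) = a := by
      rw [D.ev_smul _ (fun c hc => lt_of_lt_of_le (orb.wlt _ (hix a) c hc) orb.km) _
        (orb.lab_lt _ (hix a)), orb.conn _ (hix a), hpt]
    have e2 : D.ev (W (ix a')) • D.pt (lab (ix a)) = a' := by
      rw [hl, D.ev_smul _ (fun c hc => lt_of_lt_of_le (orb.wlt _ (hix a') c hc) orb.km) _
        (orb.lab_lt _ (hix a')), orb.conn _ (hix a'), hpt]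
    refine ⟨D.ev (W (ix a')) * (D.ev (W (ix a)))⁻¹, ?_, ?_⟩
    · exact (D.H k).mul_mem (D.ev_mem k _ (orb.wlt _ (hix a')))
        ((D.H k).inv_mem (D.ev_mem k _ (orb.wlt _ (hix a))))
    · rw [mul_smul]
      have : (D.ev (W (ix a)))⁻¹ • a = D.pt (lab (ix a)) := by
        rw [inv_smul_eq_iff, e1]
      rw [this, e2]

include hix hpt in
/-- an element normalising `H k` maps orbits to orbits -/
theorem OrbOK.norm_lab (orb : OrbOK D k lab W) {γ : G} (hγ : γ ∈ Subgroup.normalizer (D.H k : Set G)) (a a' : α)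
    (h : lab (ix a) = lab (ix a')) : lab (ix (γ • a)) = lab (ix (γ • a')) := by
  obtain ⟨u, hu, rfl⟩ := (orb.orbit_iff ix hix hpt a a').2 h
  apply (orb.orbit_iff ix hix hpt _ _).1
  refine ⟨γ * u * γ⁻¹, (Subgroup.mem_normalizer_iff.1 hγ u).1 hu, ?_⟩
  rw [mul_smul, mul_smul, inv_smul_smul]

include hix hpt in
theorem OrbOK.sz_le (orb : OrbOK D k lab W) {γ : G} (hγ : γ ∈ Subgroup.normalizer (D.H k : Set G)) (a : α) :
    sz D.N lab (ix a) ≤ sz D.N lab (ix (γ • a)) := by
  rw [sz_eq_card, sz_eq_card]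
  apply Finset.card_le_card_of_injOn (fun y => ix (γ • D.pt y))
  · intro y hy
    simp only [Finset.coe_filter, Finset.mem_range, Set.mem_ofPred_eq] at hy ⊢
    refine ⟨hix _, ?_⟩
    have := orb.norm_lab ix hix hpt hγ (D.pt y) a (by rw [ix_pt ix hix hpt y hy.1]; exact hy.2)
    exact this
  · intro y hy y' hy' he
    simp only [Finset.coe_filter, Finset.mem_range, Set.mem_ofPred_eq] at hy hy'
    have h1 : γ • D.pt y = γ • D.pt y' := by
      have := congrArg D.pt he
      simpa [hpt] using this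
    exact D.pt_inj y hy.1 y' hy'.1 (smul_left_cancel γ h1)

include hix hpt in
/-- an element normalising `H k` preserves the sizes of the orbits -/
theorem OrbOK.sz_eq (orb : OrbOK D k lab W) {γ : G} (hγ : γ ∈ Subgroup.normalizer (D.H k : Set G)) (a : α) :
    sz D.N lab (ix (γ • a)) = sz D.N lab (ix a) := by
  apply le_antisymm
  · have := orb.sz_le ix hix hpt ((Subgroup.normalizer (D.H k : Set G)).inv_mem hγ) (γ • a)
    rwa [inv_smul_smul] at this
  · exact orb.sz_le ix hix hpt hγ a

end

/-- an element normalising `H` and fixing `a` normalises `H ⊓ stabilizer a` -/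
theorem mem_normalizer_inf_stabilizer {H : Subgroup G} {γ : G} (hγ : γ ∈ Subgroup.normalizer (H : Set G)) (a : α)
    (ha : γ • a = a) : γ ∈ Subgroup.normalizer ((H ⊓ MulAction.stabilizer G a : Subgroup G) : Set G) := by
  rw [Subgroup.mem_normalizer_iff]
  intro u
  have ha' : γ⁻¹ • a = a := by rw [inv_smul_eq_iff, ha]
  constructor
  · rintro ⟨h1, h2⟩
    refine ⟨(Subgroup.mem_normalizer_iff.1 hγ u).1 h1, ?_⟩
    have h2' : u • a = a := h2
    show (γ * u * γ⁻¹) • a = a
    rw [mul_smul, mul_smul, ha', h2', ha]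
  · rintro ⟨h1, h2⟩
    refine ⟨(Subgroup.mem_normalizer_iff.1 hγ u).2 h1, ?_⟩
    show u • a = a
    have : (γ * u * γ⁻¹) • a = a := h2
    rw [mul_smul, mul_smul, ha'] at this
    have h3 : γ⁻¹ • (γ • u • a) = γ⁻¹ • a := by rw [this]
    rwa [inv_smul_smul, ha'] at h3

section step
variable [Finite G]
variable {k k' b : ℕ} {T : List (List ℕ)} {E : List (List (ℕ × List ℕ))}
variable {lab : ℕ → ℕ} {W : ℕ → List ℕ}
variable (ix : α → ℕ) (hix : ∀ a, ix a < D.N) (hpt : ∀ a, D.pt (ix a) = a)

include hix hpt in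
/-- One level of the normaliser argument.  `Q` collects the side conditions inherited from the earlier
levels (normalising the earlier groups, fixing the earlier base points). -/
theorem step (h : Data.LevelOK D k k' b T E) (orb : OrbOK D k lab W) (Q : G → Prop)
    (hQ : ∀ γ u, Q γ → u ∈ D.H k → Q (u⁻¹ * γ))
    (hsel : ∀ γ, Q γ → γ ∈ Subgroup.normalizer (D.H k : Set G) → lab (ix (γ • D.pt b)) = lab b)
    (next : ∀ γ, Q γ → γ ∈ Subgroup.normalizer (D.H k : Set G) → γ ∈ Subgroup.normalizer (D.H k' : Set G) →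
      γ • D.pt b = D.pt b → γ ∈ D.H k') :
    ∀ γ, Q γ → γ ∈ Subgroup.normalizer (D.H k : Set G) → γ ∈ D.H k := by
  intro γ hq hn
  refine h.mem_H_of_cover (fun γ => Q γ ∧ γ ∈ Subgroup.normalizer (D.H k : Set G)) ?_ ?_ ?_ γ ⟨hq, hn⟩
  · rintro γ u ⟨h1, h2⟩ hu
    exact ⟨hQ γ u h1 hu, (Subgroup.normalizer (D.H k : Set G)).mul_mem
      ((Subgroup.normalizer (D.H k : Set G)).inv_mem (Subgroup.le_normalizer hu)) h2⟩
  · rintro γ ⟨h1, h2⟩
    have hl := hsel γ h1 h2
    have : lab (ix (D.pt b)) = lab (ix (γ • D.pt b)) := by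
      rw [ix_pt ix hix hpt b h.bN, hl]
    obtain ⟨u, hu, hub⟩ := (orb.orbit_iff ix hix hpt (D.pt b) (γ • D.pt b)).2 this
    obtain ⟨a, ha⟩ := h.exists_smul_eq u hu
    exact ⟨a.val, a.isLt, by rw [← hub, ha]⟩
  · rintro γ ⟨h1, h2⟩ hb
    refine next γ h1 h2 ?_ hb
    rw [← h.inf_stabilizer]
    exact mem_normalizer_inf_stabilizer h2 _ hb

end step

end Cfsg.Agent.Lib.Helper89.NormChain
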