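import Mathlib

/-!
# Isomorphism certificates through the diagonal subgroup

Let `D ≤ G₁ × G₂` be a finite subgroup (typically generated by pairs `(aⱼ, bⱼ)`).  If `D` has no
more elements than its first projection `A = π₁(D)`, then `D` is the graph of a surjective
homomorphism `ψ : A →* B = π₂(D)` with `ψ aⱼ = bⱼ`, whose kernel is `{x | (x, 1) ∈ D}`.  If moreover
`|D| ≤ |B|`, then `A ≃* B`.  The order of `D` can be certified by a stabiliser chain for the action of
`G₁ × G₂` on the disjoint union `SumPt α β` of an action space for each factor.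
-/

set_option autoImplicit false

namespace Cfsg.Agent.Lib.Helper89.DiagIso

/-- The disjoint union of an action space for `G₁` and one for `G₂`. -/
def SumPt (α β : Type*) := α ⊕ β

namespace SumPt

variable {α β : Type*}

/-- a point of the first space -/
def inl (a : α) : SumPt α β := Sum.inl a

/-- a point of the second space -/
def inr (b : β) : SumPt α β := Sum.inr b

instance [DecidableEq α] [DecidableEq β] : DecidableEq (SumPt α β) :=
  inferInstanceAs (DecidableEq (α ⊕ β))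

theorem inl_injective : Function.Injective (inl : α → SumPt α β) := fun _ _ h => Sum.inl.inj h

theorem inr_injective : Function.Injective (inr : β → SumPt α β) := fun _ _ h => Sum.inr.inj h

theorem inl_ne_inr (a : α) (b : β) : (inl a : SumPt α β) ≠ inr b := fun h => Sum.inl_ne_inr h

variable {G₁ G₂ : Type*} [Group G₁] [Group G₂] [MulAction G₁ α] [MulAction G₂ β]

instance : MulAction (G₁ × G₂) (SumPt α β) where
  smul g x := Sum.elim (fun a => Sum.inl (g.1 • a)) (fun b => Sum.inr (g.2 • b)) x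
  one_smul x := by
    cases x with
    | inl a => show Sum.inl ((1 : G₁) • a) = Sum.inl a; rw [one_smul]
    | inr b => show Sum.inr ((1 : G₂) • b) = Sum.inr b; rw [one_smul]
  mul_smul g h x := by
    cases x with
    | inl a => show Sum.inl ((g.1 * h.1) • a) = Sum.inl (g.1 • h.1 • a); rw [mul_smul]
    | inr b => show Sum.inr ((g.2 * h.2) • b) = Sum.inr (g.2 • h.2 • b); rw [mul_smul]

@[simp] theorem smul_inl (g : G₁ × G₂) (a : α) : g • (inl a : SumPt α β) = inl (g.1 • a) := rfl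

@[simp] theorem smul_inr (g : G₁ × G₂) (b : β) : g • (inr b : SumPt α β) = inr (g.2 • b) := rfl

end SumPt

section graph

variable {G₁ G₂ : Type*} [Group G₁] [Group G₂]

/-- the first projection of a subgroup of `G₁ × G₂` -/
abbrev proj₁ (D : Subgroup (G₁ × G₂)) : Subgroup G₁ := D.map (MonoidHom.fst G₁ G₂)

/-- the second projection of a subgroup of `G₁ × G₂` -/
abbrev proj₂ (D : Subgroup (G₁ × G₂)) : Subgroup G₂ := D.map (MonoidHom.snd G₁ G₂)

theorem fst_mem {D : Subgroup (G₁ × G₂)} {d : G₁ × G₂} (hd : d ∈ D) : d.1 ∈ proj₁ D :=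
  ⟨d, hd, rfl⟩

theorem snd_mem {D : Subgroup (G₁ × G₂)} {d : G₁ × G₂} (hd : d ∈ D) : d.2 ∈ proj₂ D :=
  ⟨d, hd, rfl⟩

/-- If `|D| ≤ |π₁ D|`, then `D` is the graph of a surjective homomorphism `π₁ D →* π₂ D`. -/
theorem exists_hom (D : Subgroup (G₁ × G₂)) [Finite D]
    (h : Nat.card D ≤ Nat.card (proj₁ D)) :
    ∃ ψ : proj₁ D →* proj₂ D, Function.Surjective ψ ∧
      (∀ (d : G₁ × G₂) (hd : d ∈ D), ψ ⟨d.1, fst_mem hd⟩ = ⟨d.2, snd_mem hd⟩) ∧
      ∀ x : proj₁ D, ψ x = 1 ↔ ((x : G₁), (1 : G₂)) ∈ D := by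
  classical
  let π₁ : D →* proj₁ D := (MonoidHom.fst G₁ G₂).subgroupMap D
  let π₂ : D →* proj₂ D := (MonoidHom.snd G₁ G₂).subgroupMap D
  have hs₁ : Function.Surjective π₁ := MonoidHom.subgroupMap_surjective _ _
  have hs₂ : Function.Surjective π₂ := MonoidHom.subgroupMap_surjective _ _
  have hb₁ : Function.Bijective π₁ := hs₁.bijective_of_nat_card_le h
  let E : D ≃* proj₁ D := MulEquiv.ofBijective π₁ hb₁
  let ψ : proj₁ D →* proj₂ D := π₂.comp E.symm.toMonoidHom
  have key : ∀ (d : G₁ × G₂) (hd : d ∈ D), ψ ⟨d.1, fst_mem hd⟩ = ⟨d.2, snd_mem hd⟩ := by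
    intro d hd
    have h1 : E ⟨d, hd⟩ = ⟨d.1, fst_mem hd⟩ := rfl
    have h2 : E.symm ⟨d.1, fst_mem hd⟩ = ⟨d, hd⟩ := by rw [← h1, MulEquiv.symm_apply_apply]
    show π₂ (E.symm ⟨d.1, fst_mem hd⟩) = _
    rw [h2]
    rfl
  refine ⟨ψ, hs₂.comp E.symm.surjective, key, ?_⟩
  intro x
  obtain ⟨⟨d, hd⟩, rfl⟩ := hs₁ x
  have hx : π₁ ⟨d, hd⟩ = ⟨d.1, fst_mem hd⟩ := rfl
  rw [hx, key d hd]
  constructor
  · intro h1
    have h2 : d.2 = 1 := congrArg Subtype.val h1
    have : d = (d.1, 1) := Prod.ext rfl h2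
    rw [← this]
    exact hd
  · intro h1
    have h2 := key (d.1, 1) h1
    have h3 : (⟨d.1, fst_mem hd⟩ : proj₁ D) = ⟨((d.1, (1 : G₂)) : G₁ × G₂).1, fst_mem h1⟩ := rfl
    rw [← key d hd, h3, h2]
    rfl

/-- If `|D| ≤ |π₁ D|` and `|D| ≤ |π₂ D|`, then the two projections are isomorphic (by the
isomorphism whose graph is `D`). -/
theorem exists_mulEquiv (D : Subgroup (G₁ × G₂)) [Finite D]
    (h₁ : Nat.card D ≤ Nat.card (proj₁ D)) (h₂ : Nat.card D ≤ Nat.card (proj₂ D)) :
    ∃ ψ : proj₁ D ≃* proj₂ D,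
      ∀ (d : G₁ × G₂) (hd : d ∈ D), ψ ⟨d.1, fst_mem hd⟩ = ⟨d.2, snd_mem hd⟩ := by
  classical
  let π₁ : D →* proj₁ D := (MonoidHom.fst G₁ G₂).subgroupMap D
  let π₂ : D →* proj₂ D := (MonoidHom.snd G₁ G₂).subgroupMap D
  have hs₁ : Function.Surjective π₁ := MonoidHom.subgroupMap_surjective _ _
  have hs₂ : Function.Surjective π₂ := MonoidHom.subgroupMap_surjective _ _
  have hb₁ : Function.Bijective π₁ := hs₁.bijective_of_nat_card_le h₁
  have hb₂ : Function.Bijective π₂ := hs₂.bijective_of_nat_card_le h₂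
  let E₁ : D ≃* proj₁ D := MulEquiv.ofBijective π₁ hb₁
  let E₂ : D ≃* proj₂ D := MulEquiv.ofBijective π₂ hb₂
  refine ⟨E₁.symm.trans E₂, ?_⟩
  intro d hd
  have h1 : E₁ ⟨d, hd⟩ = ⟨d.1, fst_mem hd⟩ := rfl
  have h2 : E₁.symm ⟨d.1, fst_mem hd⟩ = ⟨d, hd⟩ := by rw [← h1, MulEquiv.symm_apply_apply]
  show E₂ (E₁.symm ⟨d.1, fst_mem hd⟩) = _
  rw [h2]
  rfl

/-- The projections of a subgroup generated by pairs are generated by the components. -/
theorem proj₁_closure {ι : Type*} (a : ι → G₁) (b : ι → G₂) :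
    proj₁ (Subgroup.closure (Set.range fun j => (a j, b j))) = Subgroup.closure (Set.range a) := by
  rw [proj₁, MonoidHom.map_closure, ← Set.range_comp]
  rfl

theorem proj₂_closure {ι : Type*} (a : ι → G₁) (b : ι → G₂) :
    proj₂ (Subgroup.closure (Set.range fun j => (a j, b j))) = Subgroup.closure (Set.range b) := by
  rw [proj₂, MonoidHom.map_closure, ← Set.range_comp]
  rfl

end graph

/-- A subgroup of order `2` is generated by any of its non-identity elements. -/
theorem eq_zpowers_of_card_two {G : Type*} [Group G] (H : Subgroup G) (hH : Nat.card H = 2) (z : G)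
    (hz : z ∈ H) (hz1 : z ≠ 1) : H = Subgroup.zpowers z := by
  have : Finite H := Nat.finite_of_card_ne_zero (by rw [hH]; norm_num)
  symm
  apply Subgroup.eq_of_le_of_card_ge (by rwa [Subgroup.zpowers_le])
  rw [hH, Nat.card_zpowers]
  have h1 : orderOf z ≠ 1 := by rwa [Ne, orderOf_eq_one_iff]
  have h0 : 0 < orderOf z := by
    have h := orderOf_pos (⟨z, hz⟩ : H)
    rwa [← Subgroup.orderOf_coe] at h
  omega

/-- If `ψ : G →* B` is surjective with `|G| = 2 |B|` and `z ≠ 1` is a central element of the kernel,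
then `G ⧸ Z ≃* B` for every subgroup `Z` of order `2` containing `z`. -/
theorem quotient_equiv_of_card_two {G B : Type*} [Group G] [Finite G] [Group B]
    (ψ : G →* B) (hψ : Function.Surjective ψ) (hcard : Nat.card G = 2 * Nat.card B)
    (Z : Subgroup G) [Z.Normal] (hZ : Nat.card Z = 2) (z : G) (hzZ : z ∈ Z) (hz1 : z ≠ 1)
    (hzψ : ψ z = 1) : Nonempty (G ⧸ Z ≃* B) := by
  have hB : Finite B := Finite.of_surjective ψ hψ
  have hker : Nat.card ψ.ker = 2 := by
    have h1 := ψ.ker.card_mul_index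
    rw [Subgroup.index_ker, MonoidHom.range_eq_top.2 hψ, Subgroup.card_top, hcard] at h1
    have hpos : 0 < Nat.card B := Nat.card_pos
    nlinarith
  have h1 : ψ.ker = Subgroup.zpowers z :=
    eq_zpowers_of_card_two _ hker z (MonoidHom.mem_ker.2 hzψ) hz1
  have h2 : Z = Subgroup.zpowers z := eq_zpowers_of_card_two _ hZ z hzZ hz1
  have h3 : Z = ψ.ker := by rw [h1, h2]
  exact ⟨(QuotientGroup.quotientMulEquivOfEq h3).trans
    (QuotientGroup.quotientKerEquivOfSurjective ψ hψ)⟩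

/-- If `G ⧸ Z` is simple, `ψ : G →* B` is surjective onto a nontrivial group and kills `Z`, then
`G ⧸ Z ≃* B`. -/
theorem quotient_equiv_of_simple {G B : Type*} [Group G] [Group B] (Z : Subgroup G) [Z.Normal]
    [IsSimpleGroup (G ⧸ Z)] (ψ : G →* B) (hψ : Function.Surjective ψ) (hZ : Z ≤ ψ.ker)
    [Nontrivial B] : Nonempty (G ⧸ Z ≃* B) := by
  let φ : G ⧸ Z →* B := QuotientGroup.lift Z ψ hZ
  have hφs : Function.Surjective φ := by
    intro b
    obtain ⟨g, rfl⟩ := hψ b
    exact ⟨QuotientGroup.mk g, rfl⟩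
  have hφi : Function.Injective φ := by
    rw [← MonoidHom.ker_eq_bot_iff]
    rcases (MonoidHom.normal_ker φ).eq_bot_or_eq_top with h | h
    · exact h
    · exfalso
      obtain ⟨b, hb⟩ := exists_ne (1 : B)
      obtain ⟨x, rfl⟩ := hφs b
      apply hb
      have : x ∈ φ.ker := by rw [h]; trivial
      exact this
  exact ⟨MulEquiv.ofBijective φ ⟨hφi, hφs⟩⟩

end Cfsg.Agent.Lib.Helper89.DiagIso
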