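import Mathlib
import Cfsg.Prelude.Def_Classical
import Cfsg.Agent.Lib.Helper89.FieldTransfer

/-!
# Transfer of `SU_n`, `Sp_{2m}` and of quotients by the centre along isomorphisms

* `quotCenterCongr` : `G ≃* H` induces `G ⧸ Z(G) ≃* H ⧸ Z(H)`.
* `center_quot_center_eq_bot` : for a perfect group `G`, the centre of `G ⧸ Z(G)` is trivial (Grün).
* `suCongr`, `psuCongr` : `SU_n(F, q) ≃* SU_n(F', q)` and `PSU_n(F, q) ≃* PSU_n(F', q)` for `F ≃+* F'`.
* `spCongr`, `pspCongr` : the same for the symplectic groups.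
* `mem_SU_of_cols` : a matrix criterion for membership in `SU_n`.
-/

set_option autoImplicit false

namespace Cfsg.Agent.Lib.Helper89.ClassicalTransfer

open Matrix
open scoped commutatorElement

section quot

variable {G H : Type*} [Group G] [Group H]

theorem map_center (e : G ≃* H) : (Subgroup.center G).map e.toMonoidHom = Subgroup.center H := by
  ext y
  constructor
  · rintro ⟨x, hx, rfl⟩
    rw [Subgroup.mem_center_iff]
    intro z
    obtain ⟨w, rfl⟩ := e.surjective z
    have := Subgroup.mem_center_iff.1 hx w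
    show e w * e x = e x * e w
    rw [← map_mul, ← map_mul, this]
  · intro hy
    refine ⟨e.symm y, ?_, by simp⟩
    show e.symm y ∈ Subgroup.center G
    rw [Subgroup.mem_center_iff]
    intro w
    apply e.injective
    rw [map_mul, map_mul, e.apply_symm_apply]
    exact Subgroup.mem_center_iff.1 hy (e w)

/-- an isomorphism induces an isomorphism of the quotients by the centres -/
noncomputable def quotCenterCongr (e : G ≃* H) :
    G ⧸ Subgroup.center G ≃* H ⧸ Subgroup.center H :=
  QuotientGroup.congr (Subgroup.center G) (Subgroup.center H) e (map_center e)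

/-- Grün's lemma: the centre of `G ⧸ Z(G)` is trivial when `G` is perfect. -/
theorem center_quot_center_eq_bot (hG : commutator G = ⊤) :
    Subgroup.center (G ⧸ Subgroup.center G) = ⊥ := by
  rw [Subgroup.eq_bot_iff_forall]
  intro xb hxb
  obtain ⟨x, rfl⟩ := QuotientGroup.mk_surjective xb
  -- all commutators `x g x⁻¹ g⁻¹` are central
  have hc : ∀ g : G, x * g * x⁻¹ * g⁻¹ ∈ Subgroup.center G := by
    intro g
    have h2 : Commute (QuotientGroup.mk x : G ⧸ Subgroup.center G) (QuotientGroup.mk g) :=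
      (Subgroup.mem_center_iff.1 hxb (QuotientGroup.mk g)).symm
    rw [← QuotientGroup.eq_one_iff]
    have h3 : x * g * x⁻¹ * g⁻¹ = ⁅x, g⁆ := (commutatorElement_def x g).symm
    rw [h3]
    have h4 : ((⁅x, g⁆ : G) : G ⧸ Subgroup.center G) =
        ⁅(QuotientGroup.mk x : G ⧸ Subgroup.center G), QuotientGroup.mk g⁆ :=
      map_commutatorElement (QuotientGroup.mk' (Subgroup.center G)) x g
    rw [h4]
    exact commutatorElement_eq_one_iff_commute.2 h2
  -- `g ↦ x g x⁻¹ g⁻¹` is a homomorphism to the centre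
  let φ : G →* Subgroup.center G :=
    { toFun := fun g => ⟨x * g * x⁻¹ * g⁻¹, hc g⟩
      map_one' := by
        apply Subtype.ext
        simp
      map_mul' := fun g h => by
        apply Subtype.ext
        show x * (g * h) * x⁻¹ * (g * h)⁻¹ = (x * g * x⁻¹ * g⁻¹) * (x * h * x⁻¹ * h⁻¹)
        have hz : (x * h * x⁻¹ * h⁻¹) * g⁻¹ = g⁻¹ * (x * h * x⁻¹ * h⁻¹) :=
          (Subgroup.mem_center_iff.1 (hc h) (g⁻¹)).symm
        have e1 : x * (g * h) * x⁻¹ * (g * h)⁻¹ =
            x * g * x⁻¹ * ((x * h * x⁻¹ * h⁻¹) * g⁻¹) := by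
          simp only [mul_assoc, _root_.mul_inv_rev, inv_mul_cancel_left]
        rw [e1, hz]
        simp only [mul_assoc] }
  have hker : φ.ker = ⊤ := by
    apply top_le_iff.1
    rw [← hG, commutator_def, Subgroup.commutator_le]
    intro a _ b _
    rw [MonoidHom.mem_ker, map_commutatorElement]
    apply commutatorElement_eq_one_iff_commute.2
    apply Subtype.ext
    exact (Subgroup.mem_center_iff.1 (φ a).2 (φ b).1).symm
  have hx : x ∈ Subgroup.center G := by
    rw [Subgroup.mem_center_iff]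
    intro g
    have : g ∈ φ.ker := by rw [hker]; trivial
    have h1 : x * g * x⁻¹ * g⁻¹ = 1 := congrArg Subtype.val (MonoidHom.mem_ker.1 this)
    have h2 : x * g = (x * g * x⁻¹ * g⁻¹) * (g * x) := by
      simp only [mul_assoc, inv_mul_cancel_left, inv_mul_cancel, mul_one]
    rw [h2, h1, one_mul]
  exact (QuotientGroup.eq_one_iff x).2 hx

/-- a group with trivial centre is isomorphic to its quotient by the centre -/
noncomputable def quotCenterEquivOfEqBot (h : Subgroup.center G = ⊥) :
    G ⧸ Subgroup.center G ≃* G :=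
  (QuotientGroup.quotientMulEquivOfEq h).trans QuotientGroup.quotientBot

end quot

section su

variable {n : ℕ} {F F' : Type*} [Field F] [Field F']

theorem hermForm_comp (σ : F ≃+* F') (q : ℕ) (u v : Fin n → F) :
    Cfsg.hermForm n F' q (σ ∘ u) (σ ∘ v) = σ (Cfsg.hermForm n F q u v) := by
  unfold Cfsg.hermForm
  rw [map_sum]
  refine Finset.sum_congr rfl fun i _ => ?_
  simp [map_mul, map_pow]

theorem map_mem_SU (σ : F ≃+* F') (q : ℕ) (g : Matrix.SpecialLinearGroup (Fin n) F)
    (hg : g ∈ Cfsg.SU n F q) :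
    Matrix.SpecialLinearGroup.map σ.toRingHom g ∈ Cfsg.SU n F' q := by
  intro u' v'
  have hu : u' = σ ∘ (σ.symm ∘ u') := by ext i; simp
  have hv : v' = σ ∘ (σ.symm ∘ v') := by ext i; simp
  have hm : (Cfsg.slToMat n F' (Matrix.SpecialLinearGroup.map σ.toRingHom g)) =
      (g : Matrix (Fin n) (Fin n) F).map σ := rfl
  rw [hm, hu, hv, Cfsg.Agent.Lib.Helper89.map_mulVec_comp, Cfsg.Agent.Lib.Helper89.map_mulVec_comp, hermForm_comp,
    hermForm_comp]
  congr 1
  exact hg _ _

/-- `SU_n` over isomorphic fields -/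
noncomputable def suCongr (σ : F ≃+* F') (n q : ℕ) : ↥(Cfsg.SU n F q) ≃* ↥(Cfsg.SU n F' q) where
  toFun g := ⟨Matrix.SpecialLinearGroup.map σ.toRingHom g.1, map_mem_SU σ q g.1 g.2⟩
  invFun g := ⟨Matrix.SpecialLinearGroup.map σ.symm.toRingHom g.1, map_mem_SU σ.symm q g.1 g.2⟩
  left_inv g := by
    apply Subtype.ext
    apply Matrix.SpecialLinearGroup.ext
    intro i j
    simp
  right_inv g := by
    apply Subtype.ext
    apply Matrix.SpecialLinearGroup.ext
    intro i j
    simp
  map_mul' g h := by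
    apply Subtype.ext
    exact map_mul _ g.1 h.1

/-- `PSU_n` over isomorphic fields -/
noncomputable def psuCongr (σ : F ≃+* F') (n q : ℕ) : Cfsg.PSU n F q ≃* Cfsg.PSU n F' q :=
  quotCenterCongr (suCongr σ n q)

/-- Membership in `SU_n` from the orthonormality of the columns, when `x ↦ x ^ q` is additive. -/
theorem mem_SU_of_cols (q : ℕ) (hq : 0 < q) (hadd : ∀ x y : F, (x + y) ^ q = x ^ q + y ^ q)
    (g : Matrix.SpecialLinearGroup (Fin n) F)
    (h : ∀ j k : Fin n, ∑ i, g.1 i j * (g.1 i k) ^ q = if j = k then 1 else 0) :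
    g ∈ Cfsg.SU n F q := by
  intro u v
  have hm : Cfsg.slToMat n F g = g.1 := rfl
  rw [hm]
  let frob : F →+ F :=
    { toFun := fun x => x ^ q
      map_zero' := zero_pow hq.ne'
      map_add' := hadd }
  have hf : ∀ x, frob x = x ^ q := fun _ => rfl
  unfold Cfsg.hermForm
  have h1 : ∀ i, (g.1 *ᵥ v) i ^ q = ∑ k, (g.1 i k) ^ q * (v k) ^ q := by
    intro i
    rw [← hf, Matrix.mulVec, dotProduct, map_sum]
    refine Finset.sum_congr rfl fun k _ => ?_
    rw [hf, mul_pow]
  calc ∑ i, (g.1 *ᵥ u) i * (g.1 *ᵥ v) i ^ q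
      = ∑ i, ∑ j, ∑ k, (g.1 i j * (g.1 i k) ^ q) * (u j * (v k) ^ q) := by
        refine Finset.sum_congr rfl fun i _ => ?_
        rw [h1 i, Matrix.mulVec, dotProduct, Finset.sum_mul_sum]
        refine Finset.sum_congr rfl fun j _ => Finset.sum_congr rfl fun k _ => ?_
        ring
    _ = ∑ j, ∑ k, (∑ i, g.1 i j * (g.1 i k) ^ q) * (u j * (v k) ^ q) := by
        rw [Finset.sum_comm]
        refine Finset.sum_congr rfl fun j _ => ?_
        rw [Finset.sum_comm]
        refine Finset.sum_congr rfl fun k _ => ?_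
        rw [Finset.sum_mul]
    _ = ∑ j, u j * (v j) ^ q := by
        refine Finset.sum_congr rfl fun j _ => ?_
        simp [h]

end su

section sp

variable {l : Type*} [DecidableEq l] [Fintype l] {K K' : Type*} [CommRing K] [CommRing K']

omit [Fintype l] in
theorem J_map (σ : K ≃+* K') : (Matrix.J l K).map σ = Matrix.J l K' := by
  unfold Matrix.J
  rw [Matrix.fromBlocks_map]
  congr 1
  · ext i j; simp
  · ext i j
    by_cases hij : i = j
    · subst hij; simp
    · simp [hij]
  · ext i j
    by_cases hij : i = j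
    · subst hij; simp
    · simp [hij]
  · ext i j; simp

theorem map_mem_symplectic (σ : K ≃+* K') (A : Matrix (l ⊕ l) (l ⊕ l) K)
    (hA : A ∈ Matrix.symplecticGroup l K) : A.map σ ∈ Matrix.symplecticGroup l K' := by
  rw [SymplecticGroup.mem_iff] at hA ⊢
  rw [← J_map σ, ← Matrix.transpose_map, ← Matrix.map_mul, ← Matrix.map_mul, hA]

/-- symplectic groups over isomorphic rings -/
noncomputable def spCongr (σ : K ≃+* K') :
    ↥(Matrix.symplecticGroup l K) ≃* ↥(Matrix.symplecticGroup l K') where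
  toFun A := ⟨A.1.map σ, map_mem_symplectic σ A.1 A.2⟩
  invFun A := ⟨A.1.map σ.symm, map_mem_symplectic σ.symm A.1 A.2⟩
  left_inv A := by
    apply Subtype.ext
    ext i j
    simp
  right_inv A := by
    apply Subtype.ext
    ext i j
    simp
  map_mul' A B := by
    apply Subtype.ext
    show (A.1 * B.1).map σ = A.1.map σ * B.1.map σ
    exact Matrix.map_mul

end sp

/-- `PSp_{2m}` over isomorphic fields -/
noncomputable def pspCongr {K K' : Type*} [Field K] [Field K'] (σ : K ≃+* K') (m : ℕ) :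
    Cfsg.PSp m K ≃* Cfsg.PSp m K' :=
  quotCenterCongr (spCongr σ)

end Cfsg.Agent.Lib.Helper89.ClassicalTransfer
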