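import Cfsg.Agent.Lib.Helper89.CosetCert

/-! # Checking `Cert.finOK` in chunks (to bound the memory of the kernel evaluation) -/

set_option autoImplicit false

namespace Cfsg.Agent.Lib.Helper89.CosetCert

namespace Cert

variable (C : Cert)

/-- one row of the final-table check -/
def finRow (a : ℕ) : Bool :=
  (List.range (2 * C.k)).all fun l =>
      decide (C.fin (a * (2 * C.k) + l) < C.n) &&
        (C.fact (C.finBase + a * (2 * C.k) + l) ==
          (C.roots.getD a 0, l, C.roots.getD (C.fin (a * (2 * C.k) + l)) 0))

/-- the head conditions of the final-table check -/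
def finHead : Bool :=
  (C.roots.length == C.n) && (C.roots.headD 1 == 0) && decide (0 < C.n) &&
    decide (C.n * (2 * C.k) ≤ C.steps.length)

theorem finOK_eq : C.finOK = (C.finHead && (List.range C.n).all C.finRow) := rfl

theorem finOK_of_rows (h0 : C.finHead = true) (s m : ℕ) (hs : 0 < s) (hm : C.n ≤ s * m)
    (h : ∀ c < m, (List.range' (c * s) s).all C.finRow = true) : C.finOK = true := by
  rw [finOK_eq, h0, Bool.true_and, List.all_eq_true]
  intro a ha
  rw [List.mem_range] at ha
  have hc : a / s < m := Nat.div_lt_of_lt_mul (lt_of_lt_of_le ha hm)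
  have h1 := h (a / s) hc
  rw [List.all_eq_true] at h1
  apply h1
  rw [List.mem_range'_1]
  constructor
  · exact Nat.div_mul_le_self a s
  · have := Nat.lt_div_mul_add (a := a) hs
    omega

/-- one row of the final-table check, the list of roots replaced by a function -/
def finRowF (f : ℕ → ℕ) (a : ℕ) : Bool :=
  (List.range (2 * C.k)).all fun l =>
      decide (C.fin (a * (2 * C.k) + l) < C.n) &&
        (C.fact (C.finBase + a * (2 * C.k) + l) ==
          (f a, l, f (C.fin (a * (2 * C.k) + l))))

theorem getD_map_range (f : ℕ → ℕ) (n a : ℕ) (h : a < n) :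
    ((List.range n).map f).getD a 0 = f a := by
  simp [List.getD_eq_getElem?_getD, h]

theorem finRow_of_finRowF (f : ℕ → ℕ) (hroots : C.roots = (List.range C.n).map f) (a : ℕ)
    (ha : a < C.n) (h : C.finRowF f a = true) : C.finRow a = true := by
  unfold finRowF at h
  unfold finRow
  rw [List.all_eq_true] at h ⊢
  intro l hl
  have h1 := h l hl
  rw [Bool.and_eq_true] at h1 ⊢
  obtain ⟨h2, h3⟩ := h1
  refine ⟨h2, ?_⟩
  rw [hroots, getD_map_range f _ _ ha, getD_map_range f _ _ (of_decide_eq_true h2)]
  exact h3

theorem finOK_of_rowsF (f : ℕ → ℕ) (hroots : C.roots = (List.range C.n).map f)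
    (h0 : C.finHead = true) (s m : ℕ) (hs : 0 < s) (hm : C.n ≤ s * m)
    (h : ∀ c < m, (List.range' (c * s) s).all (C.finRowF f) = true) : C.finOK = true := by
  rw [finOK_eq, h0, Bool.true_and, List.all_eq_true]
  intro a ha
  rw [List.mem_range] at ha
  have hc : a / s < m := Nat.div_lt_of_lt_mul (lt_of_lt_of_le ha hm)
  have h1 := h (a / s) hc
  rw [List.all_eq_true] at h1
  have h2 := h1 a (by
    rw [List.mem_range'_1]
    constructor
    · exact Nat.div_mul_le_self a s
    · have := Nat.lt_div_mul_add (a := a) hs
      omega)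
  exact finRow_of_finRowF C f hroots a ha h2

end Cert

end Cfsg.Agent.Lib.Helper89.CosetCert
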