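import Mathlib

/-!
# Simplicity and derived subgroup certificates for explicitly generated groups

* `isSimpleGroup_of_cert`: a subgroup `K` of a group is a simple group as soon as there is `x ∈ K`
  of finite order such that (a) every nontrivial `g ∈ K` has a commutator `g⁻¹ * (c⁻¹ * g * c)`
  that is conjugate in `K` to a generator `x ^ k` of `⟨x⟩` (stated without inverses as
  `g * c * u = c * g * u * x ^ k`), and (b) the only `K`-invariant subgroup of `K` containing `x`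
  is `K`.
* `commutator_le_of_closure`: if `G` is generated by a set all of whose elements lie in the normal
  subgroup `N` or are equal to a fixed `z`, then `commutator G ≤ N`.
* `commutator_eq_of_simple`: if `K ≤ R`, `K` is simple and not commutative, normalised by `R`, and
  `R` is generated by `K` and one more element, then `⁅R, R⁆ = K`.
-/

set_option autoImplicit false

namespace Cfsg.Agent.Lib.Helper89.SimpleCert

open scoped commutatorElement

theorem mem_of_pow_mem {Γ : Type*} [Group Γ] (M : Subgroup Γ) (x : Γ) (n k : ℕ) (hn : 1 < n)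
    (hxn : x ^ n = 1) (hk : Nat.Coprime k n) (h : x ^ k ∈ M) : x ∈ M := by
  obtain ⟨j, -, hj⟩ := Nat.exists_mul_mod_eq_one_of_coprime hk hn
  have h1 : (x ^ k) ^ j ∈ M := M.pow_mem h j
  rw [← pow_mul, pow_eq_pow_mod (k * j) hxn, hj, pow_one] at h1
  exact h1

theorem isSimpleGroup_of_cert {Γ : Type*} [Group Γ] (K : Subgroup Γ) (x : Γ) (n : ℕ)
    (hn : 1 < n) (hxn : x ^ n = 1)
    (hnt : ∃ g ∈ K, g ≠ 1)
    (hcert : ∀ g ∈ K, g ≠ 1 → ∃ c ∈ K, ∃ u ∈ K, ∃ k : ℕ, Nat.Coprime k n ∧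
      g * c * u = c * g * u * x ^ k)
    (hgen : ∀ M : Subgroup Γ, M ≤ K → (∀ k ∈ K, ∀ m ∈ M, k * m * k⁻¹ ∈ M) → x ∈ M → K ≤ M) :
    IsSimpleGroup ↥K := by
  obtain ⟨g0, hg0, hg01⟩ := hnt
  have : Nontrivial ↥K := ⟨⟨⟨g0, hg0⟩, 1, fun h => hg01 (congrArg Subtype.val h)⟩⟩
  refine ⟨fun N hN => ?_⟩
  rcases N.bot_or_exists_ne_one with hbot | ⟨g', hg'N, hg'1⟩
  · exact Or.inl hbot
  right
  set M : Subgroup Γ := N.map K.subtype with hM
  have hMK : M ≤ K := by
    rintro _ ⟨y, -, rfl⟩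
    exact y.2
  have hconj : ∀ k ∈ K, ∀ m ∈ M, k * m * k⁻¹ ∈ M := by
    rintro k hk _ ⟨y, hy, rfl⟩
    exact ⟨(⟨k, hk⟩ : ↥K) * y * (⟨k, hk⟩ : ↥K)⁻¹, hN.conj_mem y hy ⟨k, hk⟩, rfl⟩
  have hgM : (g' : Γ) ∈ M := ⟨g', hg'N, rfl⟩
  have hg1 : (g' : Γ) ≠ 1 := fun h => hg'1 (Subtype.ext h)
  obtain ⟨c, hc, u, hu, k, hk, heq⟩ := hcert g' g'.2 hg1
  set g : Γ := (g' : Γ) with hg
  -- u * x^k * u⁻¹ = g⁻¹ * (c⁻¹ * g * c)
  have h1 : u * x ^ k * u⁻¹ = g⁻¹ * (c⁻¹ * g * (c⁻¹)⁻¹) := by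
    have : c * g * (u * x ^ k * u⁻¹) = g * c := by
      have : c * g * u * x ^ k = g * c * u := heq.symm
      calc c * g * (u * x ^ k * u⁻¹) = (c * g * u * x ^ k) * u⁻¹ := by group
        _ = g * c * u * u⁻¹ := by rw [this]
        _ = g * c := by group
    calc u * x ^ k * u⁻¹ = (c * g)⁻¹ * (c * g * (u * x ^ k * u⁻¹)) := by group
      _ = (c * g)⁻¹ * (g * c) := by rw [this]
      _ = g⁻¹ * (c⁻¹ * g * (c⁻¹)⁻¹) := by group
  have h2 : u * x ^ k * u⁻¹ ∈ M := by
    rw [h1]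
    exact M.mul_mem (M.inv_mem hgM) (hconj c⁻¹ (K.inv_mem hc) g hgM)
  have h3 : x ^ k ∈ M := by
    have := hconj u⁻¹ (K.inv_mem hu) _ h2
    have e : u⁻¹ * (u * x ^ k * u⁻¹) * (u⁻¹)⁻¹ = x ^ k := by group
    rwa [e] at this
  have h4 : x ∈ M := mem_of_pow_mem M x n k hn hxn hk h3
  have h5 : K ≤ M := hgen M hMK hconj h4
  rw [eq_top_iff]
  intro y _
  obtain ⟨y', hy', hyy⟩ := h5 y.2
  have : y' = y := Subtype.ext hyy
  rwa [this] at hy'

theorem commutator_le_of_closure {G : Type*} [Group G] (N : Subgroup G) [N.Normal] (z : G)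
    (S : Set G) (hS : Subgroup.closure S = ⊤) (h : ∀ s ∈ S, s ∈ N ∨ s = z) :
    commutator G ≤ N := by
  have key : ∀ g : G, ∃ n : ℤ, (QuotientGroup.mk' N) g = (QuotientGroup.mk' N z) ^ n := by
    intro g
    have hg : g ∈ Subgroup.closure S := by rw [hS]; trivial
    induction hg using Subgroup.closure_induction with
    | mem s hs =>
      rcases h s hs with hs | rfl
      · exact ⟨0, by rw [zpow_zero]; exact (QuotientGroup.eq_one_iff s).2 hs⟩
      · exact ⟨1, by rw [zpow_one]⟩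
    | one => exact ⟨0, by rw [zpow_zero, map_one]⟩
    | mul a b _ _ ha hb =>
      obtain ⟨m, hm⟩ := ha
      obtain ⟨n, hn⟩ := hb
      exact ⟨m + n, by rw [map_mul, hm, hn, zpow_add]⟩
    | inv a _ ha =>
      obtain ⟨m, hm⟩ := ha
      exact ⟨-m, by rw [map_inv, hm, zpow_neg]⟩
  rw [commutator_def, Subgroup.commutator_le]
  intro a _ b _
  obtain ⟨m, hm⟩ := key a
  obtain ⟨n, hn⟩ := key b
  rw [← QuotientGroup.eq_one_iff (N := N)]
  show (QuotientGroup.mk' N) ⁅a, b⁆ = 1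
  rw [map_commutatorElement, hm, hn, commutatorElement_eq_one_iff_commute]
  exact (Commute.refl _).zpow_zpow m n

theorem conj_mem_of_gens {G : Type*} [Group G] (S : Set G) (K : Subgroup G)
    (hK : K = Subgroup.closure S) (z : G) (h : ∀ s ∈ S, z * s * z⁻¹ ∈ K) :
    ∀ k ∈ K, z * k * z⁻¹ ∈ K := by
  intro k hk
  rw [hK] at hk
  induction hk using Subgroup.closure_induction with
  | mem s hs => exact h s hs
  | one => simp
  | mul a b _ _ ha hb =>
    have : z * (a * b) * z⁻¹ = (z * a * z⁻¹) * (z * b * z⁻¹) := by group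
    rw [this]
    exact K.mul_mem ha hb
  | inv a _ ha =>
    have : z * a⁻¹ * z⁻¹ = (z * a * z⁻¹)⁻¹ := by group
    rw [this]
    exact K.inv_mem ha

/-- An element conjugating the generators of `K` into `K` in both directions normalises `K`. -/
theorem mem_normalizer_of_gens {G : Type*} [Group G] (S : Set G) (K : Subgroup G)
    (hK : K = Subgroup.closure S) (z : G) (h : ∀ s ∈ S, z * s * z⁻¹ ∈ K)
    (h' : ∀ s ∈ S, z⁻¹ * s * z ∈ K) : z ∈ Subgroup.normalizer (K : Set G) := by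
  rw [Subgroup.mem_normalizer_iff]
  intro k
  constructor
  · exact conj_mem_of_gens S K hK z h k
  · intro hk
    have h2 : ∀ s ∈ S, z⁻¹ * s * (z⁻¹)⁻¹ ∈ K := by
      intro s hs
      rw [inv_inv]
      exact h' s hs
    have := conj_mem_of_gens S K hK z⁻¹ h2 _ hk
    have e : z⁻¹ * (z * k * z⁻¹) * (z⁻¹)⁻¹ = k := by group
    rwa [e] at this

theorem commutator_eq_of_simple {Γ : Type*} [Group Γ] (K R : Subgroup Γ) (z : Γ) (S : Set Γ)
    (hR : R = Subgroup.closure S) (hS : ∀ s ∈ S, s ∈ K ∨ s = z) (hz : z ∈ R) (hKR : K ≤ R)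
    (hnorm : R ≤ Subgroup.normalizer (K : Set Γ))
    [IsSimpleGroup ↥K] (hnc : ∃ a ∈ K, ∃ b ∈ K, a * b ≠ b * a) :
    ⁅R, R⁆ = K := by
  apply le_antisymm
  · -- `R / K` is cyclic
    subst hR
    have : (K.subgroupOf (Subgroup.closure S)).Normal :=
      Subgroup.normal_subgroupOf_of_le_normalizer hnorm
    have h1 : commutator ↥(Subgroup.closure S) ≤ K.subgroupOf (Subgroup.closure S) := by
      apply commutator_le_of_closure (K.subgroupOf (Subgroup.closure S)) ⟨z, hz⟩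
        (((↑) : ↥(Subgroup.closure S) → Γ) ⁻¹' S) Subgroup.closure_closure_coe_preimage
      intro s hs
      rcases hS s.val hs with h | h
      · exact Or.inl (Subgroup.mem_subgroupOf.2 h)
      · exact Or.inr (Subtype.ext h)
    rw [← Subgroup.map_subtype_commutator]
    rintro _ ⟨y, hy, rfl⟩
    exact Subgroup.mem_subgroupOf.1 (h1 hy)
  · have h1 : commutator ↥K = ⊤ := by
      rcases (inferInstance : (commutator ↥K).Normal).eq_bot_or_eq_top with h | h
      · exfalso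
        obtain ⟨a, ha, b, hb, hab⟩ := hnc
        have : ⁅(⟨a, ha⟩ : ↥K), ⟨b, hb⟩⁆ ∈ commutator ↥K := by
          rw [commutator_def]
          exact Subgroup.commutator_mem_commutator (Subgroup.mem_top _) (Subgroup.mem_top _)
        rw [h, Subgroup.mem_bot, commutatorElement_eq_one_iff_commute] at this
        exact hab (congrArg Subtype.val this.eq)
      · exact h
    have h2 : ⁅K, K⁆ = K := by
      rw [← Subgroup.map_subtype_commutator, h1, ← MonoidHom.range_eq_map, Subgroup.range_subtype]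
    calc K = ⁅K, K⁆ := h2.symm
      _ ≤ ⁅R, R⁆ := Subgroup.commutator_mono hKR hKR

/-- the derived subgroup of `R` as a group, when `⁅R, R⁆ = K` -/
noncomputable def commutatorEquiv {Γ : Type*} [Group Γ] (K R : Subgroup Γ) (h : ⁅R, R⁆ = K) :
    ↥(commutator ↥R) ≃* ↥K :=
  ((commutator ↥R).equivMapOfInjective R.subtype R.subtype_injective).trans
    (MulEquiv.subgroupCongr ((Subgroup.map_subtype_commutator R).trans h))

theorem card_and_simple {Γ : Type*} [Group Γ] (K R : Subgroup Γ) (h : ⁅R, R⁆ = K)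
    (hs : IsSimpleGroup ↥K) (n : ℕ) (hn : Nat.card ↥K = n) :
    Nat.card ↥(commutator ↥R) = n ∧ IsSimpleGroup ↥(commutator ↥R) :=
  ⟨(Nat.card_congr (commutatorEquiv K R h).toEquiv).trans hn, (commutatorEquiv K R h).isSimpleGroup⟩

end Cfsg.Agent.Lib.Helper89.SimpleCert
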