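import Mathlib
import Cfsg.Prelude.Def_LieTwisted
import Cfsg.Agent.Lib.Helper89.TableChain2
import Cfsg.Agent.Lib.Helper89.SimpleCert

set_option autoImplicit false
set_option maxRecDepth 1000000
open Cfsg

namespace Cfsg.Agent.Lib.Helper89.G22A

open Cfsg.Lie Cfsg.Agent.Lib.Helper89 Matrix

/-! `G₂(2)` as a matrix group over `ZMod 2`: the twelve root elements as literals, the faithful
action on the 63 long root vectors (orbit of the highest root vector), the subgroup `K₀ = D.H 4`
of order 6048 generated by two commutators of root elements (verified stabiliser chain), and the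
identification `⁅G, G⁆ = K₀` for `G = chevG2.group (ZMod 2) = D.H 17`.
Data from `tools/helper89/s1057/`. -/

abbrev K2 := ZMod 2
abbrev I14 := chevG2.Idx
abbrev Γ := GL I14 K2

/-- position of a coordinate -/
def idx : I14 → ℕ
  | .inl i => i.val
  | .inr u => 2 + u.val

theorem idx_lt (x : I14) : idx x < 14 := by
  rcases x with i | u
  · have : i.val < 2 := i.isLt
    show i.val < 14
    omega
  · have : u.val < 12 := u.isLt
    show 2 + u.val < 14
    omega

/-- base 2 digit -/
def dg (c k : ℕ) : ℕ := c / 2 ^ k % 2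

theorem dg_lt (c k : ℕ) : dg c k < 2 := Nat.mod_lt _ (by norm_num)

/-- the matrix with base 2 digits `c` -/
def mat (c : ℕ) : Matrix I14 I14 K2 := fun i j => ((dg c (14 * idx i + idx j) : ℕ) : K2)
/-- the vector with base 2 digits `c` -/
def vec (c : ℕ) : I14 → K2 := fun i => ((dg c (idx i) : ℕ) : K2)

/-- `g 0 + ... + g (n-1)` -/
def sumTo : ℕ → (ℕ → ℕ) → ℕ
  | 0, _ => 0
  | n + 1, g => sumTo n g + g n

theorem sum_idx (g : ℕ → ℕ) : (∑ x : I14, ((g (idx x) : ℕ) : K2)) = ((sumTo 14 g : ℕ) : K2) := by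
  show (∑ x : Fin 2 ⊕ Fin 12, ((g (idx x) : ℕ) : K2)) = _
  rw [Fintype.sum_sum_type]
  simp only [Fin.sum_univ_succ, Fin.sum_univ_zero, idx, sumTo]
  push_cast
  simp
  ring

/-- Boolean test for `mat a * mat b = mat c` -/
def mulOK (a b c : ℕ) : Bool :=
  (List.range 14).all fun i => (List.range 14).all fun j =>
    Nat.beq ((sumTo 14 fun k => dg a (14 * i + k) * dg b (14 * k + j)) % 2) (dg c (14 * i + j))

theorem mul_of_mulOK (a b c : ℕ) (h : mulOK a b c = true) : mat a * mat b = mat c := by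
  ext i j
  rw [Matrix.mul_apply]
  have h1 := List.all_eq_true.1 (List.all_eq_true.1 h (idx i) (List.mem_range.2 (idx_lt i)))
    (idx j) (List.mem_range.2 (idx_lt j))
  have h2 := Nat.eq_of_beq_eq_true h1
  have h3 : ∀ x : I14, mat a i x * mat b x j =
      (((fun k => dg a (14 * idx i + k) * dg b (14 * k + idx j)) (idx x) : ℕ) : K2) := by
    intro x
    simp only [mat]
    push_cast
    rfl
  refine (Finset.sum_congr rfl fun x _ => h3 x).trans
    ((sum_idx (fun k => dg a (14 * idx i + k) * dg b (14 * k + idx j))).trans ?_)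
  show _ = ((dg c (14 * idx i + idx j) : ℕ) : K2)
  rw [ZMod.natCast_eq_natCast_iff']
  rw [h2, Nat.mod_eq_of_lt (dg_lt _ _)]

/-- Boolean test for `mat a = 1` -/
def oneOK (a : ℕ) : Bool :=
  (List.range 14).all fun i => (List.range 14).all fun j =>
    Nat.beq (dg a (14 * i + j)) (if i = j then 1 else 0)

theorem idx_inj {x y : I14} (h : idx x = idx y) : x = y := by
  rcases x with i | u <;> rcases y with i' | u'
  · simp only [idx] at h
    exact congrArg _ (Fin.ext h)
  · simp only [idx] at h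
    have := i.isLt
    have : i.val < 2 := i.isLt
    omega
  · simp only [idx] at h
    have : i'.val < 2 := i'.isLt
    omega
  · simp only [idx] at h
    exact congrArg _ (Fin.ext (by omega))

theorem one_of_oneOK (a : ℕ) (h : oneOK a = true) : mat a = 1 := by
  ext i j
  have h1 := List.all_eq_true.1 (List.all_eq_true.1 h (idx i) (List.mem_range.2 (idx_lt i)))
    (idx j) (List.mem_range.2 (idx_lt j))
  have h2 := Nat.eq_of_beq_eq_true h1
  show ((dg a (14 * idx i + idx j) : ℕ) : K2) = _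
  rw [h2, Matrix.one_apply]
  by_cases hij : i = j
  · subst hij
    simp
  · have : idx i ≠ idx j := fun hh => hij (idx_inj hh)
    rw [if_neg this, if_neg hij]
    simp

/-- Boolean test for `mat a *ᵥ vec v = vec w` -/
def mvOK (a v w : ℕ) : Bool :=
  (List.range 14).all fun i =>
    Nat.beq ((sumTo 14 fun k => dg a (14 * i + k) * dg v k) % 2) (dg w i)

theorem mulVec_of_mvOK (a v w : ℕ) (h : mvOK a v w = true) : mat a *ᵥ vec v = vec w := by
  ext i
  have h1 := List.all_eq_true.1 h (idx i) (List.mem_range.2 (idx_lt i))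
  have h2 := Nat.eq_of_beq_eq_true h1
  show ∑ x, mat a i x * vec v x = _
  have h3 : ∀ x : I14, mat a i x * vec v x =
      (((fun k => dg a (14 * idx i + k) * dg v k) (idx x) : ℕ) : K2) := by
    intro x
    simp only [mat, vec]
    push_cast
    rfl
  refine (Finset.sum_congr rfl fun x _ => h3 x).trans
    ((sum_idx (fun k => dg a (14 * idx i + k) * dg v k)).trans ?_)
  show _ = ((dg w (idx i) : ℕ) : K2)
  rw [ZMod.natCast_eq_natCast_iff']
  rw [h2, Nat.mod_eq_of_lt (dg_lt _ _)]

/-- column vectors with the natural action -/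
structure Col where
  /-- the underlying vector -/
  v : I14 → K2

theorem Col.ext' {w w' : Col} (h : w.v = w'.v) : w = w' := by
  cases w; cases w'; simp_all

instance instMulActionCol : MulAction Γ Col where
  smul g w := ⟨(g : Matrix I14 I14 K2) *ᵥ w.v⟩
  one_smul w := by
    apply Col.ext'
    show ((1 : Γ) : Matrix I14 I14 K2) *ᵥ w.v = w.v
    rw [Units.val_one, Matrix.one_mulVec]
  mul_smul g h w := by
    apply Col.ext'
    show ((g * h : Γ) : Matrix I14 I14 K2) *ᵥ w.v =
      (g : Matrix I14 I14 K2) *ᵥ ((h : Matrix I14 I14 K2) *ᵥ w.v)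
    rw [Units.val_mul, Matrix.mulVec_mulVec]

theorem smul_v (g : Γ) (w : Col) : (g • w).v = (g : Matrix I14 I14 K2) *ᵥ w.v := rfl

/-- codes of the root elements `x_r(1)` -/
def xcodeL : List ℕ := [
  50218346425403791685383746607603637046832867491380648255489,
  50218346425403791685426280605434151384427498535604149325825,
  50218346425415210015374536715777334030331220955330320039937,
  50218346612476001960637609701132818141999769526507715724289,
  50218346518945605465369574297981402434427213169571445899777,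
  50221411416485523550212748016790518400413272777960596733953,
  75326753366951228364573925788595984765378402692284347875329,
  50219591583877108586942608701216576583555919773118125604929,
  66695738483716880758884092062001261239887031090576232054817,
  56937011908089768841264230354974705320337397592334048460801,
  51787625976300574238857342714062914815077116088205669728265,
  50255174209600998196421860864625478093466813251793992056837]

/-- codes of the generators: four generators of `K₀`, then `z = x_2(1)`, then the twelve root elements -/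
def gcodeL : List ℕ := [
  50219591648189960056062628831559175522587141422870989668867,
  68778527107350017835442618175182937533596498379282202656771,
  75326753460498751483803648447737866542905955365524003131905,
  50222656762031050748803545255414012048158071893663043069249,
  50218346425415210015374536715777334030331220955330320039937,
  50218346425403791685383746607603637046832867491380648255489,
  50218346425403791685426280605434151384427498535604149325825,
  50218346425415210015374536715777334030331220955330320039937,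
  50218346612476001960637609701132818141999769526507715724289,
  50218346518945605465369574297981402434427213169571445899777,
  50221411416485523550212748016790518400413272777960596733953,
  75326753366951228364573925788595984765378402692284347875329,
  50219591583877108586942608701216576583555919773118125604929,
  66695738483716880758884092062001261239887031090576232054817,
  56937011908089768841264230354974705320337397592334048460801,
  51787625976300574238857342714062914815077116088205669728265,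
  50255174209600998196421860864625478093466813251793992056837]

/-- codes of the inverses of the generators -/
def icodeL : List ℕ := [
  50216909693297994288149675041315865371401282511561455337539,
  85403055582328578684465717914099681010685667483226051215507,
  75326753460498751483782380799844921970528656197166513029633,
  50219591770949318862196474087291882774272522981420570813761,
  50218346425415210015374536715777334030331220955330320039937,
  50218346425403791685383746607603637046832867491380648255489,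
  50218346425403791685426280605434151384427498535604149325825,
  50218346425415210015374536715777334030331220955330320039937,
  50218346612476001960637609701132818141999769526507715724289,
  50218346518945605465369574297981402434427213169571445899777,
  50221411416485523550212748016790518400413272777960596733953,
  75326753366951228364573925788595984765378402692284347875329,
  50219591583877108586942608701216576583555919773118125604929,
  66695738483716880758884092062001261239887031090576232054817,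
  56937011908089768841264230354974705320337397592334048460801,
  51787625976300574238857342714062914815077116088205669728265,
  50255174209600998196421860864625478093466813251793992056837]

/-- codes of the 63 points -/
def ptcL : List ℕ := [8192, 4096, 12288, 256, 8448, 7424, 15616, 128, 4224, 10880, 14976, 8, 264, 9288, 9544, 184, 7608, 4, 132, 4644, 4772, 340, 11220, 12, 13932, 348, 188, 386, 12674, 12162, 8066, 15610, 506, 15222, 502, 398, 14318, 11998, 7998, 14073, 11257, 8197, 12421, 14885, 10917, 9557, 8149, 8461, 8045, 9309, 15805, 4107, 12555, 15435, 7499, 4795, 12219, 14199, 7671, 4239, 12015, 15327, 4671]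

/-- the action of the generators on the points, 6 bits per entry -/
def tabC : List ℕ := [
  567249602136000904233632712440708066333163495782638452086056469701793497110651456555400821280844023464612424081728,
  358712443196656671796605497946597374302470077012687400981606289650944936366065943486592177854581993304101843648704,
  518795793166543231074307018512165691357145121422909754339982237568987410867342944980826801938859551079160307714766,
  571975480362611679176223847599672457732151459560158467929917290100379237590104267563767106099542191666858618438187,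
  498221868635254116018120635888181791199646243421161265722914959910496996235790700818896235230261811014218850075853,
  534128593841492469704930138809048207437785673249691212503844314427172020390135541402323329562389014323462394782249,
  184407866564677152889878975531443049388292032184968854957828142932024993607961432586243277217831418169429811219652,
  498221868635254116018120635888181791199646243421161265722914959910496996235790700818896235230261811014218850075853,
  536928321801753111159319207901561104840522712269197263586676250681381856829367809052754446626976707980850936193097,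
  371046056605448594497955475808481850385202222094141247570973808836681304371574364544004853122212871698249352503616,
  535218313096472445921650388791538391284277965091595531081644007496136889196535844314838305489704762642835572523074,
  555337949583646451549761742727591555573324427477132479153673458616608985422677994870402596191552071162827109044352,
  573058427858132611658008000772923113766878581872698195637473806408910669055164548751014320768665500781639212736576,
  239802539051204499533365082161517680290342213900424275612424862993811790193405316851036759797861278791196495061056,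
  479018019353045304072855708704807320525856470369414606081107070703608326854697511346552243272120987567986454569024,
  253925301261246629997237063472535354532874341709738265435732547510286564906815214896728424568794518593609883721792,
  371193156450002834834529884145969458190521748083365943767517294142723236096343456015367398351452132890440635260992]

/-- check points: a basis -/
def chk : List ℕ := [0, 1, 3, 5, 7, 9, 11, 13, 15, 17, 19, 27, 29, 39]

/-- code of the inverse of the matrix of check points -/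
def qcode : ℕ := 7513278551380268312998989995062580700313046822422585969

def AT0 : List (List ℕ) := [
  [],
  [1, 2, 2],
  [3, 3],
  [1, 1, 2, 2],
  [2, 2],
  [0, 1, 2, 2],
  [0, 3, 3],
  [1, 2, 3],
  [1, 1, 1, 2],
  [0, 2],
  [3, 3, 0, 2],
  [1, 0, 2],
  [3, 0, 1, 3],
  [2, 2, 2],
  [2],
  [3, 1, 0, 2],
  [2, 3, 3, 2],
  [1, 0, 3],
  [2, 1, 0, 3, 2],
  [2, 1, 3, 2],
  [2, 3, 0, 3],
  [1, 0, 1, 3],
  [0, 3],
  [2, 1, 0, 3],
  [0, 2, 0, 2],
  [0, 2, 3, 2],
  [1, 0, 2, 0, 2],
  [1, 1, 0, 2],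
  [3, 2],
  [1, 2],
  [0, 2, 3],
  [0, 1, 2],
  [1, 0, 3, 2],
  [2, 2, 3],
  [1, 2, 1, 2],
  [3, 2, 3, 2],
  [3, 3, 2],
  [1, 1, 3],
  [2, 1, 1, 2],
  [0, 0, 2],
  [3, 1, 2],
  [3, 0, 2],
  [2, 2, 3, 2],
  [3],
  [2, 0, 2],
  [0, 0, 2, 0, 2],
  [2, 3, 2],
  [2, 0, 0, 3],
  [2, 3, 3],
  [0, 0, 3],
  [3, 0, 3],
  [2, 3],
  [1, 1, 2],
  [1, 3, 2],
  [1, 1, 1, 0, 2],
  [2, 0, 1, 2],
  [0, 3, 2],
  [1, 2, 0, 2],
  [0, 1, 3],
  [3, 1, 3],
  [2, 1, 2],
  [3, 0, 3, 3],
  [1, 3]]

def AE0 : List (List (ℕ × List ℕ)) := [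
  [(0, [0]), (5, []), (6, []), (1, [1, 1, 1, 0, 1, 1]), (2, [0]), (3, [1, 1, 0, 0, 1]), (4, [0, 0]), (15, [1, 0, 1, 1, 0]), (16, [1, 1, 1, 0, 1, 0, 1, 0]), (39, []), (40, [1, 1, 0, 0, 1, 0]), (7, [1, 0, 1, 1, 1, 0]), (8, [0, 1, 1, 0, 1, 1, 1, 0]), (10, []), (9, []), (11, [0, 1]), (12, [0, 1, 0, 1, 0, 0]), (17, [1, 1, 1, 0, 1]), (26, [1, 0, 0, 1, 1, 0, 0]), (46, [1, 1, 0, 1, 1]), (48, [1, 1, 0, 0, 1, 0, 0]), (20, [1, 1, 1, 0, 1, 1, 0]), (49, []), (18, [1, 0, 0, 1, 0, 0]), (45, []), (19, [1, 1, 0, 0, 1, 1]), (23, [1, 1, 0, 0, 1]), (55, [1, 1, 0, 0, 1, 0]), (56, []), (31, []), (32, [1, 1, 0, 0, 1, 1, 0, 0]), (52, [1, 1, 0, 0, 1]), (51, [1, 1, 1, 0, 0, 1, 0]), (33, [0, 0]), (59, [1, 1, 0, 1, 0]), (62, [1, 1, 0]), (36, [1, 1, 1, 0, 1]), (37, [1, 1, 1, 0, 0, 1]), (34, [0, 0, 1, 0, 0]), (14, []), (13, [0, 1, 1, 0, 1, 1, 1, 0]), (41, [1, 1, 1, 0, 0, 1]), (50, [0, 0, 1, 1, 0, 0]), (22, []), (24, []), (44, []), (25, []), (42, [1, 1, 1, 0, 1, 0, 0]), (21, [1, 1, 1, 0, 1, 0, 0]), (43,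 []), (47, [0, 0, 1, 1, 0, 0]), (30, []), (29, [1, 1, 1, 0, 1, 1]), (28, [1, 1, 0, 1, 1, 1]), (27, [1, 1, 1, 0, 1, 1]), (54, [1, 1, 0, 1, 0, 1, 0]), (53, [1, 0, 0, 1, 1]), (57, [1, 1, 1, 0, 1]), (35, [0, 0, 1, 1]), (38, [1, 1, 1, 0, 1, 0]), (60, [1, 0, 1, 1, 1]), (61, [0, 0]), (58, [])],
  [(0, [1]), (3, []), (4, [1, 0, 0, 1, 0]), (2, [1, 1, 1, 0, 1, 1, 1, 0, 0]), (1, []), (5, [1, 1, 0, 0, 1, 1, 0]), (6, [1, 0, 1, 0, 1, 0, 0]), (13, [1, 0, 1, 1]), (14, []), (11, []), (12, [1, 1, 1, 0, 0, 1, 0]), (27, []), (28, [1, 1, 1, 0, 1, 1, 1]), (30, [1, 1, 1, 0, 0, 1, 0, 0]), (29, []), (16, [1, 1, 1, 0, 0, 1, 1]), (15, [0, 1]), (24, [0, 1, 0, 1, 0, 0]), (19, [1, 1, 1, 0, 0, 1]), (38, [1, 0, 1, 1]), (33, [1, 1, 1, 0, 1, 0, 1]), (23, [1, 1, 1, 0, 1, 0, 1, 0, 0]), (17, []), (36, [0, 1, 0, 1]), (26, []), (35, [1, 1, 0, 0, 1, 0]), (22, [0, 0, 1, 0, 1]), (54, []), (53, []), (52, []), (51, [1, 0]), (56, [1, 0, 1, 0, 1]), (55, [1, 0, 0, 1]), (49, [1, 0, 1]), (45, [1, 0, 1, 1, 0, 0]), (44, [1,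 0, 1, 1, 1, 0, 0]), (58, [0, 1, 1, 0, 1, 1, 1, 0]), (42, [1, 0, 0, 1, 0, 1, 0]), (61, [1, 0, 0, 1, 0, 1, 0]), (40, [1, 1, 0, 1, 1, 1]), (39, [1, 0, 0]), (48, [1, 1, 0, 1, 0]), (43, [1, 1, 1, 0, 1, 1, 0]), (62, []), (57, []), (47, [1, 1, 1, 0, 1, 1, 0]), (41, [1, 0, 0, 1, 0, 0]), (60, [1, 1, 0, 1, 1, 0]), (50, [1, 0]), (59, [1, 0, 0, 1, 0, 0]), (46, [1, 1, 0]), (7, []), (8, []), (10, [0, 1, 1, 0]), (9, []), (31, [1, 0, 1, 0, 1, 0, 0]), (32, []), (25, [1, 1, 1, 0, 0, 1, 1, 0, 0]), (21, []), (20, [1, 0, 0, 1, 0, 1]), (34, []), (18, [1, 1]), (37, [])],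
  [(14, []), (43, [1, 1, 0, 0, 1]), (48, []), (3, [1, 1, 1]), (13, []), (57, [1, 1, 0, 1, 0, 1]), (62, [1, 1, 0, 0, 1, 1, 0]), (32, [1, 1, 1, 0, 1]), (61, [1, 0, 1, 1, 1, 0, 0]), (44, []), (8, [1, 0, 1]), (11, [1, 1, 0, 0, 1, 1, 0]), (12, [1, 1, 0, 1, 1, 1, 0]), (0, []), (4, []), (35, [1, 1, 0, 0, 1, 0]), (39, [1, 1, 1, 0, 1]), (23, []), (34, [1, 1, 1, 0, 0, 1, 0]), (6, [1, 0, 1, 1, 0]), (31, [0, 0, 1, 0, 0]), (25, [1, 1]), (40, [1, 0, 1, 1]), (17, [1, 0, 1, 0]), (5, [0, 0, 1, 1]), (21, [1, 1, 0, 1, 0, 1]), (27, [0, 1, 0, 1, 0, 0]), (15, [0, 1, 1, 1, 0, 0]), (46, []), (60, []), (28, [1, 0, 1, 1]), (55, []), (18, []), (1, [1, 1, 1, 0, 1, 1]), (7, [1, 1, 0, 0, 1, 1]), (26, [1, 1, 1, 0, 0, 1, 0]), (16, []), (56, [1, 1, 0, 0]), (2, [1, 1, 0, 0, 1, 1, 0, 0]), (58, [0, 1, 1, 0, 1, 1, 1, 0, 0]), (9, [1, 1, 1]), (49, [1, 1, 0, 1, 0, 1, 0, 0]), (30, [1, 1, 1, 0, 1, 0, 1, 0]), (51, []), (22, [1, 1, 0, 0]), (41, [1, 1, 0, 0, 1, 0, 1, 0]), (42, []), (45, [1, 1, 1, 0, 0, 1, 0]), (52, [1,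 1, 1, 0, 0, 1, 0]), (47, []), (20, []), (33, []), (38, []), (19, []), (24, [0]), (50, [0, 1, 1, 1, 0]), (29, [0, 0, 1, 0]), (54, [0, 0, 1, 0, 1, 0, 0]), (36, [1, 0, 0, 1, 0, 1, 0]), (10, [1, 1, 1, 0, 1, 1]), (37, [1, 1, 1, 0, 1, 0, 1, 0]), (59, [1, 1, 1, 0, 1, 1]), (53, [1, 1, 1, 0, 1, 1, 0])],
  [(43, []), (8, [1, 0, 1, 1, 1]), (44, [1, 1, 1, 0, 0, 1, 0]), (48, [0, 1, 1]), (14, [0, 1, 1]), (32, [1, 0, 1]), (61, []), (7, [1, 1, 1, 0, 1, 0]), (1, [1, 1, 0]), (41, []), (42, [1, 1, 1, 0, 1]), (15, []), (46, [1, 1, 1, 0, 1, 1]), (60, [1, 1, 1, 0, 1, 1]), (28, []), (23, [1]), (34, [0, 0]), (17, [1]), (18, [1, 0, 0, 1, 1, 0, 0]), (20, [1, 1, 0, 0, 1, 1, 0, 0]), (19, [0, 1, 0, 1, 0, 0]), (16, [0, 1, 1, 0, 1, 1, 1, 0, 0]), (50, []), (26, [1, 0, 1, 0, 1, 0]), (53, [1, 0]), (5, [1, 1, 0, 1]), (11, [0]), (54, [1, 1, 1, 0, 0, 1, 0]), (36, []), (40, []), (25, [0, 1, 1, 0]), (49, [1, 0, 1, 0, 1, 0, 0]), (30, [1, 1, 0, 1, 1, 1]), (56, [0, 1, 1, 0, 0]), (38, [1, 1, 1, 0, 0, 1, 0, 0]), (58,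 [1, 1, 0, 0, 1]), (4, [1, 1, 0, 0]), (39, [1, 1, 1, 0, 1]), (21, [1, 0, 1, 0, 1, 0]), (31, [1, 0, 1, 1]), (6, [0, 1, 1, 1, 0]), (10, []), (9, [1, 1, 1, 0, 0, 1]), (2, []), (0, [1, 1, 0, 0, 1, 1, 0, 0]), (52, [1, 1, 0, 1, 1]), (35, []), (45, [0, 1, 1, 0, 0]), (27, [0, 1, 1, 0]), (37, [0, 1, 1, 0]), (33, [0, 0]), (62, [1, 1, 0, 1, 0]), (57, [0, 0, 1, 1, 0]), (13, [1, 1, 0, 1, 1, 1, 0]), (3, [1, 0, 1, 1, 1, 0, 0]), (51, [0, 0, 1, 1]), (22, [0, 0, 1, 1, 0, 0]), (47, [1, 1, 0, 0, 1, 1]), (12, []), (55, [1, 0, 0, 1, 1]), (24, [1, 1, 0, 1, 1, 1]), (29, [0, 0, 1, 0, 0]), (59, [])]]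

def AT1 : List (List ℕ) := [
  [],
  [0, 0, 1, 1],
  [1, 0, 0, 1, 1],
  [1, 1, 0, 1, 1, 1],
  [1, 1, 1, 0, 1, 1],
  [1, 1, 1],
  [0, 1, 1],
  [1],
  [1, 1, 0, 0, 1],
  [1, 1],
  [1, 1, 1, 0, 1, 1, 1],
  [1, 1, 1, 0, 1],
  [1, 1, 1, 0, 0, 1],
  [1, 0, 1, 1],
  [1, 1, 1, 0, 1, 0, 1],
  [1, 1, 0, 0, 1, 1],
  [1, 1, 0, 0, 1, 0, 1],
  [0, 1, 0, 1],
  [1, 0, 1, 0, 1],
  [0, 0, 1],
  [0, 1],
  [1, 0, 0, 1, 0, 1],
  [1, 0, 1],
  [0, 1, 1, 0, 1, 1, 1],
  [0, 1, 1, 1],
  [0, 0, 1, 0, 1],
  [1, 0, 0, 1],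
  [1, 1, 0, 1, 1],
  [1, 0, 1, 1, 1],
  [1, 1, 0, 1],
  [1, 1, 1, 0, 0, 1, 1],
  [1, 1, 0, 1, 0, 1]]

def AE1 : List (List (ℕ × List ℕ)) := [
  [(0, [0]), (9, []), (21, []), (23, []), (3, [0]), (24, []), (1, []), (20, []), (2, [0]), (6, []), (10, [0]), (28, [0]), (31, [0, 0]), (13, [0, 0]), (14, [0, 0]), (11, [0]), (16, [0]), (25, []), (5, [0, 0]), (7, []), (19, []), (8, [0, 0]), (17, []), (4, [0, 0]), (18, [0]), (22, []), (26, [0]), (12, [0]), (15, [0]), (29, [0, 0]), (30, [0, 0]), (27, [])],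
  [(7, []), (2, []), (15, []), (10, []), (6, []), (0, []), (13, []), (9, []), (12, []), (5, []), (24, []), (20, []), (19, []), (27, []), (17, []), (30, []), (23, []), (18, []), (31, []), (26, []), (22, []), (16, []), (29, []), (25, []), (28, []), (21, []), (8, []), (4, []), (3, []), (11, []), (1, []), (14, [])]]

def AT2 : List (List ℕ) := [
  [],
  [0, 0],
  [0]]

def AE2 : List (List (ℕ × List ℕ)) := [
  [(2, []), (0, []), (1, [])]]

/-- conjugation of the generators of `K₀` by `z`: `z s_j = w_j z`, `s_j z = z w'_j` -/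
def ZC : List (List ℕ × List ℕ) := [
  ([0, 1, 2, 0, 0, 1, 0], [0, 1, 2, 0, 0, 1, 0]),
  ([2, 3, 3, 2, 1, 0, 1, 1, 0, 0], [2, 3, 3, 2, 1, 0, 1, 1, 0, 0]),
  ([2, 2, 2], [2, 2, 2]),
  ([2, 0, 2, 1, 1, 1, 0, 0, 1, 0], [2, 0, 2, 1, 1, 1, 0, 0, 1, 0])]

/-- the root elements as `z ^ a * w` -/
def GC : List (ℕ × List ℕ) := [
  (0, [3, 0, 2, 0, 1, 1, 0]),
  (0, [2, 2]),
  (1, []),
  (1, [1, 1, 3, 0, 1, 1]),
  (1, [2, 2, 2, 0, 1, 1, 0, 0]),
  (0, [3, 3]),
  (0, [0, 1, 1, 0, 0]),
  (1, [2, 2, 2, 0, 1, 1]),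
  (1, [2, 2, 2, 1, 1, 1, 0, 1, 1]),
  (1, [2, 2, 2, 1, 0, 1, 0, 1, 0]),
  (0, [0, 0, 1, 1, 0]),
  (0, [1, 1, 0, 0, 1, 0, 1, 0, 0])]

/-- the first two generators as words in the last two -/
def ew0 : List ℕ := [2, 3, 2, 2, 3, 2, 3, 3, 2, 2, 3]
def ew1 : List ℕ := [2, 3, 2, 3, 2, 3, 3, 2, 3, 2, 2, 3, 2]

/-! ### the generators -/

/-- code of `x_r(1)` -/
def xcode (r : ℕ) : ℕ := xcodeL.getD r 0

theorem x_lit : ∀ r : Fin 12, chevG2.xMat K2 r 1 = mat (xcode r.val) := by
  decide +kernel

theorem x_zero : ∀ r : Fin 12, chevG2.xMat K2 r 0 = 1 := by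
  decide +kernel

/-- code of the `j`-th generator -/
def gcode (j : ℕ) : ℕ := gcodeL.getD j 0

/-- code of the inverse of the `j`-th generator -/
def icode (j : ℕ) : ℕ := icodeL.getD j 0

theorem gcode_x : ∀ r : Fin 12, gcode (5 + r.val) = xcode r.val := by decide

/-- the code of the identity matrix -/
def oneCode : ℕ := 50218346425403791685383745309529419995200533025103911354369

theorem one_ok : oneOK oneCode = true := by decide +kernel

theorem g_inv_ok : (List.range 17).all (fun j => mulOK (gcode j) (icode j) oneCode) = true := by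
  decide +kernel

theorem g_inv (j : ℕ) (hj : j < 17) : mat (gcode j) * mat (icode j) = 1 := by
  rw [mul_of_mulOK _ _ _ (List.all_eq_true.1 g_inv_ok j (List.mem_range.2 hj))]
  exact one_of_oneOK _ one_ok

theorem g_inv' (j : ℕ) (hj : j < 17) : mat (icode j) * mat (gcode j) = 1 :=
  mul_eq_one_comm.1 (g_inv j hj)

/-- the generators -/
def gen (j : ℕ) : Γ :=
  if h : j < 17 then ⟨mat (gcode j), mat (icode j), g_inv j h, g_inv' j h⟩ else 1

theorem gen_val (j : ℕ) (hj : j < 17) : (gen j : Matrix I14 I14 K2) = mat (gcode j) := by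
  rw [gen, dif_pos hj]

/-- the code of the `x`-th point -/
def ptc (x : ℕ) : ℕ := ptcL.getD x 0

/-- the `x`-th point -/
def pt (x : ℕ) : Col := ⟨vec (ptc x)⟩

/-- the action table -/
def tab (j x : ℕ) : ℕ := ((tabC.getD j 0) >>> (6 * x)) &&& 63

theorem tab_ok : (List.range 17).all (fun j => (List.range 63).all (fun x =>
    Nat.blt (tab j x) 63)) = true := by decide +kernel

theorem tab_lt (j : ℕ) (hj : j < 17) (x : ℕ) (hx : x < 63) : tab j x < 63 := by
  have := List.all_eq_true.1 (List.all_eq_true.1 tab_ok j (List.mem_range.2 hj)) x (List.mem_range.2 hx)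
  exact Nat.le_of_ble_eq_true this

theorem g_smul_ok : (List.range 17).all (fun j => (List.range 63).all (fun x =>
    mvOK (gcode j) (ptc x) (ptc (tab j x)))) = true := by
  decide +kernel

theorem gen_smul (j : ℕ) (hj : j < 17) (x : ℕ) (hx : x < 63) : gen j • pt x = pt (tab j x) := by
  apply Col.ext'
  rw [smul_v, gen_val j hj]
  exact mulVec_of_mvOK _ _ _ (List.all_eq_true.1
    (List.all_eq_true.1 g_smul_ok j (List.mem_range.2 hj)) x (List.mem_range.2 hx))

theorem dg_eq_of_vec_eq {c c' : ℕ} (h : vec c = vec c') (k : ℕ) (hk : k < 14) :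
    dg c k = dg c' k := by
  have hx : ∃ x : I14, idx x = k := by
    by_cases h2 : k < 2
    · exact ⟨Sum.inl ⟨k, h2⟩, rfl⟩
    · refine ⟨Sum.inr ⟨k - 2, by show k - 2 < 12; omega⟩, ?_⟩
      show 2 + (k - 2) = k
      omega
  obtain ⟨x, rfl⟩ := hx
  have h1 : ((dg c (idx x) : ℕ) : K2) = ((dg c' (idx x) : ℕ) : K2) := congrFun h x
  rw [ZMod.natCast_eq_natCast_iff', Nat.mod_eq_of_lt (dg_lt _ _), Nat.mod_eq_of_lt (dg_lt _ _)] at h1
  exact h1

theorem pt_inj_ok : (List.range 63).all (fun x => (List.range 63).all (fun y =>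
    Nat.beq x y || (List.range 14).any (fun k => !(Nat.beq (dg (ptc x) k) (dg (ptc y) k))))) = true := by
  decide +kernel

theorem pt_inj (x : ℕ) (hx : x < 63) (y : ℕ) (hy : y < 63) (h : pt x = pt y) : x = y := by
  have h1 := List.all_eq_true.1 (List.all_eq_true.1 pt_inj_ok x (List.mem_range.2 hx)) y
    (List.mem_range.2 hy)
  rw [Bool.or_eq_true] at h1
  rcases h1 with h1 | h1
  · exact Nat.eq_of_beq_eq_true h1
  · exfalso
    obtain ⟨k, hk, hk2⟩ := List.any_eq_true.1 h1
    have h2 := dg_eq_of_vec_eq (congrArg Col.v h) k (List.mem_range.1 hk)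
    rw [h2, Nat.beq_refl] at hk2
    exact Bool.noConfusion hk2

theorem chk_lt : ∀ x ∈ chk, x < 63 := by decide

/-- the matrix whose columns are the check points -/
def Pm : Matrix I14 (Fin 14) K2 := fun i k => vec (ptc (chk.getD k.val 0)) i

/-- its inverse -/
def Qm : Matrix (Fin 14) I14 K2 := fun k i => ((dg qcode (14 * k.val + idx i) : ℕ) : K2)

theorem PQ : Pm * Qm = 1 := by decide +kernel

theorem faithful (g g' : Γ) (h : ∀ x ∈ chk, g • pt x = g' • pt x) : g = g' := by
  have h1 : (g : Matrix I14 I14 K2) * Pm = (g' : Matrix I14 I14 K2) * Pm := by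
    ext i k
    have hk : chk.getD k.val 0 ∈ chk := by
      rw [List.getD_eq_getElem _ _ (by simp [chk])]
      exact List.getElem_mem _
    have := congrFun (congrArg Col.v (h _ hk)) i
    rw [smul_v, smul_v] at this
    simpa [Matrix.mul_apply, Matrix.mulVec, dotProduct, Pm, pt] using this
  apply Units.ext
  calc (g : Matrix I14 I14 K2) = (g : Matrix I14 I14 K2) * (Pm * Qm) := by rw [PQ, mul_one]
    _ = ((g : Matrix I14 I14 K2) * Pm) * Qm := (Matrix.mul_assoc _ _ _).symm
    _ = ((g' : Matrix I14 I14 K2) * Pm) * Qm := by rw [h1]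
    _ = (g' : Matrix I14 I14 K2) * (Pm * Qm) := Matrix.mul_assoc _ _ _
    _ = (g' : Matrix I14 I14 K2) := by rw [PQ, mul_one]

/-- the chain data -/
def D : TableChain2.Data Γ Col where
  m := 17
  N := 63
  gen := gen
  pt := pt
  tab := tab
  chk := chk
  gen_smul := gen_smul
  tab_lt := tab_lt
  chk_lt := chk_lt
  faithful := faithful
  pt_inj := pt_inj

theorem level0 : TableChain2.levelCheck tab 4 2 0 chk AT0 AE0 = true := by decide +kernel

theorem level1 : TableChain2.levelCheck tab 2 1 17 chk AT1 AE1 = true := by decide +kernel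

theorem level2 : TableChain2.levelCheck tab 1 0 1 chk AT2 AE2 = true := by decide +kernel

theorem lvl0 : TableChain2.Data.LevelOK D 4 2 0 AT0 AE0 :=
  TableChain2.Data.levelOK_of_check (D := D) (by decide) (by decide) level0

theorem lvl1 : TableChain2.Data.LevelOK D 2 1 17 AT1 AE1 :=
  TableChain2.Data.levelOK_of_check (D := D) (by decide) (by decide) level1

theorem lvl2 : TableChain2.Data.LevelOK D 1 0 1 AT2 AE2 :=
  TableChain2.Data.levelOK_of_check (D := D) (by decide) (by decide) level2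

instance : Finite Γ := inferInstance

theorem card_K0 : Nat.card (D.H 4) = 6048 := by
  rw [lvl0.card, lvl1.card, lvl2.card, D.card_H_zero]
  decide

/-! ### the derived subgroup -/

open scoped commutatorElement

theorem D_gen (j : ℕ) : D.gen j = gen j := rfl

theorem ev_replicate (k j : ℕ) : D.ev (List.replicate k j) = gen j ^ k := by
  induction k with
  | zero => simp [TableChain2.Data.ev]
  | succ k ih => rw [List.replicate_succ, D.ev_cons, ih, pow_succ', D_gen]

theorem ev_single (j : ℕ) : D.ev [j] = gen j := by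
  rw [D.ev_cons, D.ev_nil, mul_one, D_gen]

theorem ev_mem_of (M : Subgroup Γ) (w : List ℕ) (h : ∀ c ∈ w, gen c ∈ M) : D.ev w ∈ M := by
  induction w with
  | nil => exact M.one_mem
  | cons j l ih =>
    rw [D.ev_cons, D_gen]
    exact M.mul_mem (h j (by simp)) (ih fun c hc => h c (by simp [hc]))

theorem lt_of_all_blt {l : List ℕ} {n : ℕ} (h : l.all (fun c => Nat.blt c n) = true) :
    ∀ c ∈ l, c < n := fun c hc => Nat.le_of_ble_eq_true (List.all_eq_true.1 h c hc)

/-- equality of two words, tested on the check points -/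
def wordEq (l l' : List ℕ) : Bool :=
  l.all (fun c => Nat.blt c 17) && l'.all (fun c => Nat.blt c 17) &&
    chk.all fun x => Nat.beq (TableChain2.act tab l x) (TableChain2.act tab l' x)

theorem ev_eq_of_wordEq {l l' : List ℕ} (h : wordEq l l' = true) : D.ev l = D.ev l' := by
  unfold wordEq at h
  simp only [Bool.and_eq_true] at h
  exact D.ev_eq_of_act (lt_of_all_blt h.1.1) (lt_of_all_blt h.1.2)
    (fun x hx => Nat.eq_of_beq_eq_true (List.all_eq_true.1 h.2 x hx))

theorem comm_ok : (wordEq [5, 13] [2, 13, 5] && wordEq [7, 15] [3, 15, 7] &&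
    wordEq [0] ew0 && wordEq [1] ew1) = true := by decide +kernel

theorem gen2_eq : gen 2 = ⁅gen 5, gen 13⁆ := by
  have h := comm_ok
  simp only [Bool.and_eq_true] at h
  have e := ev_eq_of_wordEq h.1.1.1
  rw [D.ev_cons, ev_single, D_gen, D.ev_cons, D.ev_cons, ev_single, D_gen, D_gen] at e
  rw [commutatorElement_def, e]
  group

theorem gen3_eq : gen 3 = ⁅gen 7, gen 15⁆ := by
  have h := comm_ok
  simp only [Bool.and_eq_true] at h
  have e := ev_eq_of_wordEq h.1.1.2
  rw [D.ev_cons, ev_single, D_gen, D.ev_cons, D.ev_cons, ev_single, D_gen, D_gen] at e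
  rw [commutatorElement_def, e]
  group

theorem comm_mem (M : Subgroup Γ) {a b : Γ} (ha : a ∈ M) (hb : b ∈ M) : ⁅a, b⁆ ∈ M := by
  rw [commutatorElement_def]
  exact M.mul_mem (M.mul_mem (M.mul_mem ha hb) (M.inv_mem ha)) (M.inv_mem hb)

theorem ew_lt : (∀ c ∈ ew0, c = 2 ∨ c = 3) ∧ (∀ c ∈ ew1, c = 2 ∨ c = 3) := by decide

theorem gen0_eq : gen 0 = D.ev ew0 := by
  have h := comm_ok
  simp only [Bool.and_eq_true] at h
  rw [← ev_single]
  exact ev_eq_of_wordEq h.1.2

theorem gen1_eq : gen 1 = D.ev ew1 := by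
  have h := comm_ok
  simp only [Bool.and_eq_true] at h
  rw [← ev_single]
  exact ev_eq_of_wordEq h.2

/-- the generators of `K₀` lie in every subgroup containing `⁅x_0, x_8⁆` and `⁅x_2, x_10⁆` -/
theorem gen_mem_of (M : Subgroup Γ) (h2 : ⁅gen 5, gen 13⁆ ∈ M) (h3 : ⁅gen 7, gen 15⁆ ∈ M)
    (j : ℕ) (hj : j < 4) : gen j ∈ M := by
  have g2 : gen 2 ∈ M := by rw [gen2_eq]; exact h2
  have g3 : gen 3 ∈ M := by rw [gen3_eq]; exact h3
  have hj' : j = 0 ∨ j = 1 ∨ j = 2 ∨ j = 3 := by omega
  rcases hj' with rfl | rfl | rfl | rfl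
  · rw [gen0_eq]
    apply ev_mem_of
    intro c hc
    rcases ew_lt.1 c hc with rfl | rfl
    · exact g2
    · exact g3
  · rw [gen1_eq]
    apply ev_mem_of
    intro c hc
    rcases ew_lt.2 c hc with rfl | rfl
    · exact g2
    · exact g3
  · exact g2
  · exact g3

/-- Boolean test of `z s_j = w_j z` and `s_j z = z w'_j` -/
def zCheck : Bool :=
  (List.range 4).all fun j =>
    (ZC.getD j ([], [])).1.all (fun c => Nat.blt c 4) &&
    (ZC.getD j ([], [])).2.all (fun c => Nat.blt c 4) &&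
    wordEq [4, j] ((ZC.getD j ([], [])).1 ++ [4]) &&
    wordEq [j, 4] ([4] ++ (ZC.getD j ([], [])).2)

theorem z_ok : zCheck = true := by decide +kernel

theorem z_rel (j : ℕ) (hj : j < 4) :
    gen 4 * gen j * (gen 4)⁻¹ ∈ D.H 4 ∧ (gen 4)⁻¹ * gen j * gen 4 ∈ D.H 4 := by
  have h := List.all_eq_true.1 z_ok j (List.mem_range.2 hj)
  simp only [Bool.and_eq_true] at h
  obtain ⟨⟨⟨h1, h2⟩, h3⟩, h4⟩ := h
  have e1 := ev_eq_of_wordEq h3
  have e2 := ev_eq_of_wordEq h4
  rw [D.ev_cons, ev_single, D_gen, D.ev_append, ev_single] at e1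
  rw [D.ev_cons, ev_single, D_gen, D.ev_append, ev_single] at e2
  constructor
  · have : gen 4 * gen j * (gen 4)⁻¹ = D.ev (ZC.getD j ([], [])).1 := by rw [e1]; group
    rw [this]
    exact D.ev_mem 4 _ (lt_of_all_blt h1)
  · have : (gen 4)⁻¹ * gen j * gen 4 = D.ev (ZC.getD j ([], [])).2 := by
      rw [mul_assoc, e2]
      group
    rw [this]
    exact D.ev_mem 4 _ (lt_of_all_blt h2)

theorem z_norm : gen 4 ∈ Subgroup.normalizer ((D.H 4 : Subgroup Γ) : Set Γ) := by
  apply SimpleCert.mem_normalizer_of_gens (D.S 4) (D.H 4) rfl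
  · rintro s ⟨j, hj, rfl⟩
    rw [D_gen]
    exact (z_rel j hj).1
  · rintro s ⟨j, hj, rfl⟩
    rw [D_gen]
    exact (z_rel j hj).2

/-- Boolean test of `x_r = z ^ a * w` -/
def gcCheck : Bool :=
  (List.range 12).all fun r =>
    (GC.getD r (0, [])).2.all (fun c => Nat.blt c 4) &&
    wordEq [r + 5] (List.replicate (GC.getD r (0, [])).1 4 ++ (GC.getD r (0, [])).2)

theorem gc_ok : gcCheck = true := by decide +kernel

theorem gen_mem_H5 (j : ℕ) (hj : j < 17) : gen j ∈ D.H 5 := by
  by_cases h5 : j < 5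
  · exact D.gen_mem j h5
  · obtain ⟨r, rfl⟩ : ∃ r, j = r + 5 := ⟨j - 5, by omega⟩
    have hr : r < 12 := by omega
    have h := List.all_eq_true.1 gc_ok r (List.mem_range.2 hr)
    rw [Bool.and_eq_true] at h
    have hw := lt_of_all_blt h.1
    have e := ev_eq_of_wordEq h.2
    rw [ev_single] at e
    rw [e]
    apply D.ev_mem
    intro c hc
    rcases List.mem_append.1 hc with hc | hc
    · rw [List.eq_of_mem_replicate hc]
      norm_num
    · exact lt_trans (hw c hc) (by norm_num)

theorem H17_eq : D.H 17 = D.H 5 := by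
  apply le_antisymm
  · show D.H 17 ≤ _
    rw [TableChain2.Data.H, Subgroup.closure_le]
    rintro g ⟨j, hj, rfl⟩
    rw [D_gen]
    exact gen_mem_H5 j hj
  · exact D.H_mono (by norm_num)

/-- `⁅R, R⁆ ≤ K` when `R` is generated by elements of `K` and one element normalising `K`. -/
theorem commutator_le_of_gens {Γ : Type*} [Group Γ] (K R : Subgroup Γ) (z : Γ) (S : Set Γ)
    (hR : R = Subgroup.closure S) (hS : ∀ s ∈ S, s ∈ K ∨ s = z) (hz : z ∈ R)
    (hnorm : R ≤ Subgroup.normalizer (K : Set Γ)) : ⁅R, R⁆ ≤ K := by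
  subst hR
  have : (K.subgroupOf (Subgroup.closure S)).Normal :=
    Subgroup.normal_subgroupOf_of_le_normalizer hnorm
  have h1 : commutator ↥(Subgroup.closure S) ≤ K.subgroupOf (Subgroup.closure S) := by
    apply SimpleCert.commutator_le_of_closure (K.subgroupOf (Subgroup.closure S)) ⟨z, hz⟩
      (((↑) : ↥(Subgroup.closure S) → Γ) ⁻¹' S) Subgroup.closure_closure_coe_preimage
    intro s hs
    rcases hS s.val hs with h | h
    · exact Or.inl (Subgroup.mem_subgroupOf.2 h)
    · exact Or.inr (Subtype.ext h)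
  rw [← Subgroup.map_subtype_commutator]
  rintro _ ⟨y, hy, rfl⟩
  exact Subgroup.mem_subgroupOf.1 (h1 hy)

theorem comm_eq : ⁅D.H 17, D.H 17⁆ = D.H 4 := by
  apply le_antisymm
  · rw [H17_eq]
    apply commutator_le_of_gens (D.H 4) (D.H 5) (gen 4) (D.S 5) rfl
    · rintro s ⟨j, hj, rfl⟩
      rw [D_gen]
      by_cases h4 : j < 4
      · exact Or.inl (D.gen_mem j h4)
      · right
        have : j = 4 := by omega
        rw [this]
    · exact D.gen_mem 4 (by norm_num)
    · show D.H 5 ≤ _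
      rw [TableChain2.Data.H, Subgroup.closure_le]
      rintro g ⟨j, hj, rfl⟩
      rw [D_gen]
      by_cases h4 : j < 4
      · exact Subgroup.le_normalizer (D.gen_mem j h4)
      · have : j = 4 := by omega
        rw [this]
        exact z_norm
  · show D.H 4 ≤ _
    rw [TableChain2.Data.H, Subgroup.closure_le]
    rintro g ⟨j, hj, rfl⟩
    rw [D_gen]
    apply gen_mem_of _ _ _ j hj
    · exact Subgroup.commutator_mem_commutator (D.gen_mem 5 (by norm_num)) (D.gen_mem 13 (by norm_num))
    · exact Subgroup.commutator_mem_commutator (D.gen_mem 7 (by norm_num)) (D.gen_mem 15 (by norm_num))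

theorem G_eq : chevG2.group K2 = D.H 17 := by
  unfold ChevalleyDatum.group
  apply le_antisymm
  · rw [Subgroup.closure_le]
    rintro g ⟨r, t, hg⟩
    have ht : ∀ t : K2, t = 0 ∨ t = 1 := by decide
    rcases ht t with rfl | rfl
    · have : g = 1 := Units.ext (by rw [hg, x_zero r]; rfl)
      rw [this]
      exact Subgroup.one_mem _
    · have hr : 5 + r.val < 17 := by have : r.val < 12 := r.isLt; omega
      have : g = gen (5 + r.val) := Units.ext (by rw [hg, gen_val _ hr, gcode_x r, x_lit r])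
      rw [this]
      exact D.gen_mem _ hr
  · show D.H 17 ≤ _
    rw [TableChain2.Data.H, Subgroup.closure_le]
    have hx : ∀ r : Fin 12, gen (5 + r.val) ∈ Subgroup.closure
        {g : Γ | ∃ (r : Fin chevG2.nroots) (t : K2), (g : Matrix I14 I14 K2) = chevG2.xMat K2 r t} := by
      intro r
      apply Subgroup.subset_closure
      have hr : 5 + r.val < 17 := by have := r.isLt; omega
      exact ⟨r, 1, by rw [gen_val _ hr, gcode_x r, x_lit r]⟩
    rintro g ⟨j, hj, rfl⟩
    rw [D_gen]
    by_cases h4 : j < 4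
    · apply gen_mem_of _ _ _ j h4
      · exact comm_mem _ (hx 0) (hx 8)
      · exact comm_mem _ (hx 2) (hx 10)
    · by_cases h5 : j = 4
      · rw [h5]
        have : gen 4 = gen 7 := Units.ext (by rw [gen_val 4 (by norm_num), gen_val 7 (by norm_num)]; rfl)
        rw [this]
        exact hx 2
      · obtain ⟨r, rfl⟩ : ∃ r, j = 5 + r := ⟨j - 5, by omega⟩
        exact hx ⟨r, by show r < 12; omega⟩

end Cfsg.Agent.Lib.Helper89.G22A
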