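import Mathlib
import Cfsg.Prelude.Def_Classical
import Cfsg.Agent.Lib.Helper5.UnitaryCard
import Cfsg.Agent.Lib.Helper5.SUCard
import Cfsg.Agent.Lib.Helper57.U33
import Cfsg.Agent.Lib.Helper89.TableChain2
import Cfsg.Agent.Lib.Helper89.DiagIso
import Cfsg.Agent.Lib.Helper89.ClassicalTransfer
import Cfsg.Agent.Lib.Helper89.G22A

set_option autoImplicit false
set_option maxRecDepth 1000000
open Cfsg

namespace Cfsg.Agent.Lib.Helper89.G22B

open Cfsg.Agent.Lib.Helper57.U33 (R9)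
open Cfsg.Agent.Lib.Helper89 Cfsg.Agent.Lib.Helper89.DiagIso
open Cfsg.Agent.Lib.Helper89.ClassicalTransfer
open Matrix

/-! `G₂(2)' ≅ SU₃(3)`: the group `SU₃` over the concrete field `R9` with nine elements has order
6048 and is generated by the six matrices `gb j` (verified stabiliser chain on the 252 vectors of
norm 1); the diagonal subgroup of `GL₁₄(2) × SU₃(R9)` generated by the four pairs `(s_j, gb (j+2))`
has order 6048 (chain on the 63 long root vectors), so it is the graph of an isomorphism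
`K₀ = G22A.D.H 4 ≃* SU₃(R9)`.  Data from `tools/helper89/s1057/`. -/

abbrev G2 := ↥(Cfsg.SU 3 R9 3)
abbrev V2 := Fin 3 → R9

instance fintypeR9 : Fintype R9 :=
  Fintype.ofEquiv (ZMod 3 × ZMod 3) (QuadraticAlgebra.equivProd (R := ZMod 3) (-1) 0).symm

theorem card_R9' : Fintype.card R9 = 3 ^ 2 := by
  rw [Fintype.card_congr (QuadraticAlgebra.equivProd (R := ZMod 3) (-1) 0), Fintype.card_prod,
    ZMod.card]
  norm_num

/-- the element `a + b ω` coded by `3 a + b` -/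
def f9 (n : ℕ) : R9 := ⟨((n / 3 : ℕ) : ZMod 3), ((n % 3 : ℕ) : ZMod 3)⟩

/-- the matrix with base 9 digits `c` -/
def mat9 (c : ℕ) : Matrix (Fin 3) (Fin 3) R9 := fun i j => f9 ((c / 9 ^ (3 * i.val + j.val)) % 9)

/-- the vector with base 9 digits `n` -/
def vec9 (n : ℕ) : V2 := fun i => f9 ((n / 9 ^ i.val) % 9)

/-- codes of the generators on the unitary side: two extra strong generators, then the images of the four generators of `K₀` -/
def bcodeL : List ℕ := [382978695, 378136677, 182430166, 225894885, 223235691, 22243911]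

/-- codes of the 252 vectors of norm 1 -/
def ptc3L : List ℕ := [3, 27, 243, 81, 162, 486, 9, 18, 360, 441, 603, 684, 369, 450, 612, 693, 54, 387, 468, 630, 711, 396, 477, 639, 720, 1, 334, 415, 577, 658, 343, 424, 586, 667, 352, 433, 595, 676, 118, 199, 280, 523, 127, 208, 289, 532, 379, 460, 622, 703, 145, 226, 307, 550, 154, 235, 316, 559, 2, 335, 416, 578, 659, 344, 425, 587, 668, 353, 434, 596, 677, 119, 200, 281, 524, 128, 209, 290, 533, 380, 461, 623, 704, 146, 227, 308, 551, 155, 236, 317, 560, 336, 417, 579, 660, 345, 426, 588, 669, 354, 435, 597, 678, 120, 201, 282, 525, 129, 210, 291, 534, 381, 462, 624, 705, 147, 228, 309, 552, 156, 237, 318, 561, 328, 409, 571, 652, 94, 175, 256, 499, 103, 184, 265, 508, 112, 193, 274, 517, 40, 49, 139, 220, 301, 544, 67, 76, 329, 410, 572, 653, 95, 176, 257, 500, 104, 185, 266, 509, 113, 194, 275, 518, 41, 50, 140, 221, 302, 545, 68, 77, 6,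 339, 420, 582, 663, 348, 429, 591, 672, 357, 438, 600, 681, 123, 204, 285, 528, 132, 213, 294, 537, 384, 465, 627, 708, 150, 231, 312, 555, 159, 240, 321, 564, 331, 412, 574, 655, 97, 178, 259, 502, 106, 187, 268, 511, 115, 196, 277, 520, 43, 52, 142, 223, 304, 547, 70, 79, 332, 413, 575, 656, 98, 179, 260, 503, 107, 188, 269, 512, 116, 197, 278, 521, 44, 53, 143, 224, 305, 548, 71, 80]

/-- the action of the generators on the points, 8 bits per entry -/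
def tab3C : List ℕ := [
  7286945124131111568322753847906283866825980813534731624764174572162866834823820193014935344477076549684137933088916974634614873729362184683027799489813124745453730529125296420669587497990049949245583253252514846295544717488463928149502177741261265758874517056319332412180832300274680244137215344079367598518980575391478874308532594060752172093515778529739300430320038627314712019272769497219118558638841212861791839360991182963355230520942532736286691392552635200127964729609419419572435285628459606782908382434749391175392338400243310582672066113066783150776548273896635476891330744026143385398548896879616,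
  7345386763582978507672123186957667713349457945221105806654297783365438226241253497672480855401630712429946981570486794633831813822069797282916971882516747931482002103389720925224189295408258772931583759388480239386216493705999621040201061008426905715470353494249100389961187389989043909617180795724616581086307751601331692659079513449436594214933146738269156497128354416138303405701912367738610124170194824357170920621941640454736255758628694660429382208179569756525773217354405874828158404748932578336656557067306879716673308802389833619431750830888620754676539882203340257732836943443537523414783813686016,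
  7395127324874856108564624403098338128974305239299918846440492854898062322269897114794008702897587479176900847435018397613371183331462512722142766793366520304331188854721366378682510656462484851203072429521312129729995763888825006752140211599253490704752663135083020911772159510716674370205737161627223972499594009964749761062523259225818599019390547432940263677631650288144292653793670315685288285313536600093205272468848729458172874343510304943351238952080922354037072732545453749551676143916965750524410024947003831341073890352638482719461658818227879016690464334813668577337143443600342999803832555161731,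
  6752553676806418253367850053464244134766877808257266083879843711291040459663878573314700255349843574707726919676164906759796254293767757571747951919558429605795441051882452825278842147257379602975081552921149503755741935726099325434989308109318777369553970375980347245740997963959911097600564970745325396636799145349449870824394995832422332487538377071528872417593747555845646168054085539689426233336803657537279383160180806978602809620953942817553485863779676663206798065838429638473229047317437064624385182231871164928284276684174210609354172868607465513262069555956386579119447974491105861958085098912201,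
  5498274176100202452454625918369317419893768620466295968495285097281863081107159508928033658885363509461024623426582022496965786557370620111601711642971837331885665485512885768364293799200795573102539709120085931974023045316899612821057481352255126518469585745335196009049385948756180026223293484619659587697440425052650257731162847210946343170182070772597645436659718249981812656736676750005550950911382025098505860268763526939058392035738365137065133353626194159095783134710156048841574798136296661561207259607890493071642422678624461251106242883594010868886394137175321765107093333852590012577677421913791,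
  5173689202460119238932180200362306249575526636014149859455600728639677625801718871366784709938102130109366235861847816808665399357174402581091769888495051681010206472933935328327174267202261202773825149373514700060753104080585353317101818732566594359868102016966288433311643159795789666021512982050409241078206779140755872547024691630923271344616864142343545439437434455420982937911992595115081916501096196213001316413480049018104016862481095303532488669696341716787600219691546880904900630581640795177320239244870476245981639550661696572194779684482227940726477972295630665981407978778102267896876712472241]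

def BT0 : List (List ℕ) := [
  [],
  [0, 4, 3],
  [4, 1, 3],
  [3, 0, 4],
  [0, 0, 4, 4],
  [1, 4, 4],
  [5, 5],
  [3, 0, 2],
  [0, 4, 4],
  [4, 4],
  [0, 3, 0, 2],
  [4, 4, 4, 2],
  [3, 3],
  [4, 1, 0, 2],
  [3, 0, 4, 2],
  [5, 1, 2, 2],
  [1, 0, 3, 0, 2],
  [0, 1, 4, 4],
  [3, 3, 1, 2],
  [3, 1, 4],
  [3, 4, 4, 2],
  [4, 3],
  [0, 5, 5],
  [2, 1, 3],
  [1, 5, 5],
  [3, 2, 1, 0, 2],
  [3, 1, 2, 2],
  [2, 0, 5],
  [4, 5, 2, 2],
  [3, 0, 5, 5],
  [2, 4, 1, 3],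
  [3, 5, 5, 3],
  [3, 3, 5, 2],
  [5, 2, 5, 5],
  [4, 5, 4],
  [5, 3, 4],
  [2, 1, 4],
  [1, 5, 4, 4],
  [0, 5, 0, 2],
  [5, 1, 5, 4],
  [3, 5, 3],
  [0, 4, 5, 4],
  [1, 2, 4, 2],
  [4, 1, 5],
  [2, 2, 1, 2],
  [3, 3, 0, 2],
  [5, 0, 4, 3],
  [0, 2, 1, 4],
  [5, 0, 2],
  [3, 5],
  [4, 0, 2],
  [5, 4, 4],
  [4, 2, 5, 2],
  [3, 4, 5, 0, 2],
  [4, 4, 5, 0, 2],
  [1, 5, 0, 2],
  [0, 3, 5],
  [2, 4, 2],
  [4, 5, 0, 2],
  [5, 4],
  [5, 1, 0, 2],
  [3, 2, 2],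
  [2, 1, 4, 4],
  [2, 1, 0, 2],
  [1, 3, 2, 2],
  [1, 2, 5, 2],
  [5, 2, 2],
  [3, 3, 3, 5],
  [0, 3, 5, 5],
  [3, 5, 2],
  [3, 2, 4, 2],
  [3, 3, 5, 3],
  [1, 2, 3, 2],
  [2, 5, 3, 3],
  [2, 5, 2],
  [5, 2, 1, 3],
  [2, 1, 3, 4],
  [5, 0, 4],
  [3, 5, 4],
  [3, 2, 1, 4],
  [4, 0, 3, 2],
  [4, 2, 3, 2],
  [0, 5, 1, 0, 2],
  [2, 3, 4, 5],
  [0, 3, 2, 2],
  [3, 5, 5],
  [1, 5, 4],
  [2, 3, 2],
  [3, 4, 0, 2],
  [4, 5, 0, 4, 4],
  [4, 1, 2, 2],
  [3, 4, 3],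
  [1, 2, 4],
  [3, 3, 5],
  [1, 4, 4, 2],
  [1, 5, 1, 2],
  [4, 2, 0, 2],
  [4, 5, 2],
  [4, 4, 3, 4],
  [1, 5, 3],
  [0, 2, 5, 5],
  [4, 5, 1, 2],
  [5, 5, 5, 4],
  [4, 4, 2],
  [4, 0, 5],
  [1, 3, 1, 3],
  [0, 1, 5, 3],
  [3, 0, 2, 2],
  [3, 3, 2, 2],
  [4, 3, 0, 2],
  [4, 3, 4],
  [3, 1, 3],
  [3, 5, 1, 2],
  [0, 4, 3, 4],
  [5, 3],
  [5, 4, 3],
  [4, 4, 0, 2],
  [2, 5, 5],
  [1, 3, 4, 3],
  [5, 1, 3, 4],
  [5, 1, 2],
  [2, 4],
  [4, 4, 5, 4],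
  [0, 3, 2],
  [0, 5, 2],
  [2, 4, 5, 4],
  [1, 1, 2],
  [5, 1, 5, 5],
  [4, 3, 2],
  [1, 4, 3, 2],
  [1, 1, 0, 2],
  [2],
  [5, 2],
  [1, 3, 2],
  [1, 2],
  [2, 5, 0, 2],
  [0, 1, 1, 2],
  [3, 2],
  [5, 3, 2, 4],
  [0, 4, 3, 2],
  [2, 2, 4, 2],
  [2, 5, 2, 2],
  [0, 0, 2],
  [5, 3, 2, 2],
  [1, 0, 2],
  [1, 0, 0, 2],
  [0, 2],
  [1, 1, 2, 2],
  [5, 0, 0, 2],
  [1, 5, 3, 2],
  [2, 0, 4, 2, 2],
  [0, 1, 2, 2],
  [2, 2],
  [1, 2, 2],
  [5, 3, 3],
  [2, 0, 4, 2],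
  [2, 2, 1, 4],
  [3, 4, 4],
  [3, 3, 3, 0, 2],
  [0, 0, 2, 2],
  [1, 3, 1, 2],
  [4, 4, 5],
  [3, 1, 2],
  [0, 2, 2],
  [0, 3, 1, 2],
  [5, 3, 2],
  [3, 2, 4],
  [5, 3, 5, 3],
  [0, 5, 3, 2],
  [1, 3, 2, 4],
  [2, 5, 4, 3],
  [4, 3, 4, 3],
  [3, 4],
  [5, 1, 5],
  [1, 5],
  [0, 1, 3],
  [1, 3],
  [5],
  [5, 5, 5],
  [4, 4, 4],
  [4, 2, 4],
  [2, 0, 2],
  [0, 3, 3, 3],
  [0, 0, 5],
  [0, 0, 4],
  [3, 0, 4, 3],
  [5, 3, 4, 4],
  [4, 4, 2, 2],
  [0, 5],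
  [4, 2, 4, 2],
  [0, 3, 4],
  [4],
  [1, 0, 5],
  [3, 3, 3],
  [0, 4],
  [2, 1, 3, 2],
  [5, 5, 5, 2],
  [5, 5, 2],
  [1, 4],
  [1, 3, 4],
  [3, 2, 0, 2],
  [3],
  [3, 5, 4, 4],
  [5, 0, 3, 2],
  [4, 3, 5],
  [4, 4, 1, 3],
  [4, 2, 1, 2],
  [2, 1, 5],
  [5, 1, 4],
  [2, 3, 1, 2],
  [5, 2, 4],
  [3, 2, 1, 3],
  [5, 5, 3],
  [1, 5, 1, 3],
  [4, 2],
  [3, 4, 5],
  [1, 5, 1, 4],
  [3, 3, 4, 3],
  [3, 0, 3, 5],
  [1, 4, 2, 1, 2],
  [4, 1, 1, 0, 2],
  [5, 1, 3],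
  [4, 3, 3],
  [5, 2, 0, 2],
  [0, 4, 2],
  [1, 2, 1, 2],
  [5, 5, 0, 2],
  [2, 1, 2],
  [4, 3, 0, 4],
  [3, 4, 2, 2],
  [4, 5],
  [2, 4, 0, 2],
  [3, 0, 5],
  [4, 4, 3],
  [3, 5, 0, 2],
  [2, 1, 5, 0, 2],
  [3, 5, 3, 2],
  [5, 0, 4, 4],
  [5, 5, 4],
  [0, 4, 5],
  [1, 3, 0, 5],
  [4, 1, 0, 5],
  [5, 3, 3, 3],
  [1, 4, 5],
  [5, 3, 5, 2],
  [0, 1, 4, 5],
  [4, 4, 1, 2, 2],
  [0, 4, 2, 2],
  [2, 4, 3, 2],
  [1, 4, 2, 2],
  [5, 4, 1, 3],
  [4, 2, 2]]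

def BE0 : List (List (ℕ × List ℕ)) := [
  [(0, [0]), (20, [1, 0, 0, 1]), (15, [1]), (9, [1, 1, 0]), (23, [0, 0]), (17, []), (22, []), (10, []), (4, []), (8, []), (14, [0, 1, 1]), (16, [1, 1, 0, 0]), (21, [0, 0, 0, 0]), (5, [0]), (6, [0, 0, 1]), (13, [0, 1]), (12, [1, 0, 0]), (19, [1, 1, 0]), (7, [0, 0, 0, 0]), (2, [1, 1, 0, 0, 0]), (11, [0, 0, 0, 0]), (1, []), (18, [1, 0, 0, 0]), (24, [0, 1]), (3, [1, 1, 0]), (25, [1]), (44, [0, 0]), (49, [1, 1, 0, 0, 0]), (51, [0, 1, 1, 0, 0]), (30, [0, 0, 1]), (29, [0, 0, 1, 1]), (42, [1]), (34, [0]), (53, [0, 0]), (41, []), (55, [1, 1, 0, 0]), (47, []), (28, [0, 1, 1, 0, 0]), (52, [1, 1]), (33, [1, 1, 0, 0, 1]), (57, []), (27, [1]), (37, [0, 1, 1, 0, 0]), (50, [1, 0, 0, 1]), (39, [1, 1, 0, 0, 1]), (48, [0, 0, 0, 0]), (31, [0, 0, 0, 0, 0]), (36, [1, 1]), (38, []), (56, []), (43, [0, 0, 1]), (46, [0, 1, 1]), (35, [0, 0, 1, 1]), (54, [1, 1, 0]), (26, [0,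 0]), (45, [1, 1, 0, 0, 0]), (32, [0, 0, 0, 0, 0]), (40, [0, 0, 1]), (58, [1]), (77, [0, 0, 0, 0, 0]), (82, []), (84, []), (63, [0, 1, 1, 0]), (62, [1, 1]), (75, [0, 0, 1, 1]), (67, [0, 1, 1, 0, 0]), (86, [1, 0, 0]), (74, [0, 1, 1, 0, 0]), (88, [0, 1, 1, 0, 0]), (80, [1, 0, 0, 1]), (61, [0, 0, 0, 0, 0]), (85, [0, 0, 0, 0]), (66, [1, 1, 0, 0]), (90, [1, 1, 0]), (60, [0, 0, 1]), (70, [0, 0, 0, 0, 0]), (83, [0, 0, 0]), (72, [0]), (81, [1, 0, 0, 0]), (64, [1, 1, 0, 0, 0]), (69, [0]), (71, [0, 0]), (89, [1, 0, 0, 0]), (76, [0]), (79, [1, 1, 0, 0, 0]), (68, []), (87, []), (59, [1, 0, 0, 0]), (78, [1, 0]), (65, [1, 1]), (73, [0, 0, 0, 0, 0]), (109, [0, 1, 1, 0, 0]), (114, [1, 0, 0, 1, 1]), (116, [1, 1, 0]), (95, [0, 0, 1]), (94, [0, 0, 1, 1, 0]), (107, [1, 1, 0, 0, 1]), (99, [1, 0, 0]), (118, [0, 0]), (106, []), (120, [1, 1, 0]), (112, [0, 1, 1, 0, 0]), (93, [0, 0, 1, 1]), (117, [1, 1, 0, 0, 0]),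 (98, [0, 1]), (122, [1, 0, 0, 1, 1]), (92, [1, 0, 0, 1]), (102, [0, 1, 1, 0]), (115, []), (104, [0, 0, 0, 0, 0]), (113, []), (96, [1, 0, 0, 1, 1]), (101, [1, 1]), (103, [1, 1, 0, 0]), (121, [0, 1, 1]), (108, [0, 1, 1]), (111, [1, 1, 0, 0]), (100, []), (119, [1, 1, 0, 0]), (91, [0, 1, 1, 0, 0]), (110, [1, 0]), (97, [1, 1]), (105, [0, 1]), (141, [1, 1, 0, 0, 0]), (129, [1, 0]), (134, [0, 1, 1, 0, 0]), (136, []), (125, [0, 0, 0]), (139, []), (127, [1, 0, 0, 1, 1]), (138, [0, 1, 1, 0]), (146, []), (124, []), (143, [0, 0, 1]), (132, [1, 0]), (131, [0, 0, 1, 1]), (137, [0, 1]), (123, []), (140, [0, 1, 1, 0]), (135, [0, 0, 1, 1]), (133, [1, 1, 0, 0]), (144, [1, 1, 0, 0, 1]), (128, [0, 0, 0]), (145, [0, 0]), (126, []), (130, []), (142, []), (165, [0, 0]), (153, [0, 1, 1, 0, 0]), (158, [0, 0, 0, 0, 0]), (160, [0, 0, 0]), (149, [0, 0]), (163, []), (151, []), (162, [1, 0, 0, 1]), (170, [0, 0, 1, 1, 0]),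 (148, [0, 0, 0, 0]), (167, []), (156, [1, 0]), (155, [1, 1]), (161, [0]), (147, [0, 0, 1, 1, 0]), (164, []), (159, []), (157, [1, 0, 0, 0]), (168, []), (152, [0]), (169, [0, 0]), (150, [1, 0, 0, 1, 1]), (154, [1]), (166, [0, 1]), (171, [1, 1, 0, 0, 0]), (190, []), (195, [1, 1]), (197, [0, 0]), (176, [0, 0]), (175, []), (188, []), (180, []), (199, [0, 0]), (187, [0, 1]), (201, [1, 0, 0, 0]), (193, [0, 1, 1]), (174, [1, 0, 0]), (198, [0, 0, 1]), (179, [1]), (203, [1, 1, 0, 0]), (173, [1, 1, 0, 0, 0]), (183, []), (196, [1, 0, 0, 0]), (185, [0]), (194, []), (177, [1, 0, 0]), (182, []), (184, []), (202, [1, 1, 0, 0]), (189, []), (192, [1]), (181, [1]), (200, [0, 0, 0, 0, 0]), (172, [1, 0, 0, 0]), (191, [1, 0, 0]), (178, [0, 1, 1, 0, 0]), (186, [1, 0, 0, 0]), (222, []), (210, [0, 1, 1, 0, 0]), (215, [1, 1, 0, 0]), (217, [1, 0, 0, 1]), (206, [0, 1, 1, 0, 0]), (220, []), (208, [1, 0, 0, 1]), (219,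 []), (227, [0, 0, 0, 0]), (205, [0, 1, 1, 0, 0]), (224, []), (213, [0, 1, 1, 0]), (212, [0, 0, 0]), (218, [1, 0, 0, 1, 1]), (204, [1, 1]), (221, [0, 0, 1, 1]), (216, [1, 0, 0, 1]), (214, [1, 1, 0]), (225, [0, 0]), (209, [0, 0, 0]), (226, [1, 0, 0, 0]), (207, [1, 1, 0, 0, 0]), (211, [1]), (223, [1, 1, 0, 0, 1]), (246, [1, 1, 0, 0, 0]), (234, [1, 0, 0, 0]), (239, []), (241, [0, 0, 0, 0, 0]), (230, [0, 1, 1]), (244, [0, 1, 1, 0, 0]), (232, [1, 1, 0, 0, 0]), (243, [1, 0, 0, 1]), (251, [0, 0, 0, 0]), (229, [0, 0, 0, 0, 0]), (248, [1, 1, 0, 0, 1]), (237, [1, 0, 0, 1, 1]), (236, [0, 1, 1]), (242, [0]), (228, [0, 0, 0, 0, 0]), (245, []), (240, [0, 1, 1]), (238, [0, 0, 1, 1]), (249, [0, 0]), (233, []), (250, [1, 0, 0, 1]), (231, [1, 1, 0, 0, 0]), (235, [1, 1]), (247, [])],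
  [(0, [1]), (19, [1, 0, 0]), (11, [1, 0, 0, 0]), (18, [0, 1, 1, 0]), (14, [0, 0, 1]), (21, [1, 1, 0, 0, 0]), (24, []), (8, [0]), (12, [1, 0]), (5, []), (16, []), (9, [0, 1, 1, 0, 0]), (6, [1]), (22, [1, 1, 0, 0]), (15, [0, 0, 1]), (3, [1, 1, 0]), (13, []), (4, []), (17, [0, 0, 0, 0, 0]), (10, [0, 1]), (7, [1, 1]), (23, [0, 0, 1]), (1, [0, 1, 1]), (2, [0, 0, 1, 1, 0]), (20, [0, 0, 0, 0, 0]), (25, [0]), (53, [0, 0, 1]), (43, [1]), (31, [1, 0]), (48, [0, 0]), (35, [0, 0, 1]), (28, [1]), (50, [1, 1, 0, 0]), (44, [1, 1, 0, 0, 0]), (49, [1, 1]), (38, [1, 1]), (26, [1, 0, 0]), (57, [0, 0, 0]), (29, [1, 0, 0, 1, 1]), (54, [0, 0, 1, 1, 0]), (51, [0, 1, 1, 0, 0]), (32, [0, 0, 1]), (46, [1, 1]), (41, []), (36, [0, 1, 1, 0, 0]), (52, [0, 0, 0]), (40, [0, 0, 1, 1, 0]), (33, [1, 1, 0, 0]), (55, []), (34, [1, 1]), (56, [1, 1, 0, 0, 1]), (37, []), (45, [1, 0, 0, 1, 1]), (47, [1]), (39, [0, 0, 1]), (30, [0,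 0, 0]), (27, [1, 1, 0, 0, 0]), (42, []), (58, [0, 0, 1, 1, 0]), (86, []), (76, [0, 1, 1]), (64, []), (81, [1]), (68, [0, 0, 1, 1, 0]), (61, [1, 0, 0, 0]), (83, [0, 0, 1, 1]), (77, [0, 0, 0, 0]), (82, [0, 0, 0]), (71, [1, 1, 0, 0, 0]), (59, [0, 0, 1, 1]), (90, [0, 1]), (62, []), (87, [1, 0, 0, 0]), (84, [0, 0, 1, 1]), (65, []), (79, [0]), (74, [1, 0, 0]), (69, [0, 1, 1]), (85, [0, 1, 1, 0]), (73, [0, 0, 1, 1]), (66, [1, 0, 0, 1, 1]), (88, [0, 1]), (67, [1, 0, 0, 1, 1]), (89, [1, 1, 0, 0]), (70, [1, 1, 0, 0]), (78, [0, 0, 0, 0, 0]), (80, [0, 0, 0, 0]), (72, []), (63, [1, 1, 0]), (60, [1, 0, 0, 1]), (75, [0, 0]), (118, []), (108, [0, 0]), (96, [1, 1, 0, 0]), (113, [1, 1, 0]), (100, [1, 0]), (93, [0, 1, 1, 0, 0]), (115, [0, 0]), (109, [0, 1, 1]), (114, [0, 0, 0, 0]), (103, [1, 1, 0, 0]), (91, [0, 0, 1]), (122, [0, 1, 1, 0]), (94, []), (119, [1, 0, 0]), (116, [1, 1, 0]), (97, [1, 0, 0, 1]), (111,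 [1, 1, 0, 0]), (106, [1, 1, 0, 0]), (101, [0, 0, 1, 1]), (117, []), (105, []), (98, [0]), (120, [0]), (99, []), (121, [1, 0, 0, 1, 1]), (102, [0, 0]), (110, [1, 0, 0]), (112, [0, 0, 0, 0, 0]), (104, []), (95, []), (92, []), (107, [1, 1, 0, 0, 1]), (131, [1, 1, 0, 0]), (143, [1, 1]), (138, [0, 0, 0, 0]), (128, [0, 0, 0]), (135, [1, 1, 0, 0, 0]), (129, []), (123, [1, 1, 0, 0]), (139, [0, 0, 0]), (134, []), (142, [0, 0, 1, 1]), (146, [1, 1, 0, 0]), (126, []), (140, [1, 0]), (124, [1, 0]), (133, []), (136, [1, 0, 0, 1]), (137, [1, 1, 0, 0]), (132, [0, 0, 1, 1]), (125, [0]), (145, []), (141, [1, 0]), (130, []), (127, [1, 1, 0]), (144, []), (155, [1, 1]), (167, [0, 0, 1]), (162, [1, 1, 0]), (152, [1, 0, 0, 0]), (159, []), (153, []), (147, []), (163, [1, 1, 0, 0, 1]), (158, [1, 1, 0, 0]), (166, [1, 1]), (170, [1, 0, 0, 1, 1]), (150, [0, 1]), (164, [1, 1, 0, 0, 0]), (148, [0, 0, 1, 1, 0]), (157, [1,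 0, 0]), (160, []), (161, [1, 1, 0, 0, 1]), (156, [1, 0, 0, 1]), (149, []), (169, []), (165, [0, 0, 0, 0, 0]), (154, [1, 0, 0, 0]), (151, [0]), (168, [1, 1, 0, 0]), (171, [0, 0, 0, 0, 0]), (199, []), (189, [1, 1, 0, 0, 1]), (177, [1, 0, 0]), (194, [1, 0, 0]), (181, [1, 1, 0, 0]), (174, []), (196, [1, 1]), (190, [0, 1, 1, 0, 0]), (195, [0, 1, 1, 0, 0]), (184, [1, 1, 0, 0, 0]), (172, [0, 0, 0]), (203, [0, 1, 1]), (175, [1, 1, 0, 0, 0]), (200, [1, 1, 0, 0, 1]), (197, [1]), (178, [0, 0, 1, 1, 0]), (192, []), (187, [1, 1, 0, 0, 1]), (182, [1, 1, 0, 0, 1]), (198, []), (186, [0, 1, 1, 0, 0]), (179, [1, 1, 0]), (201, [1, 0]), (180, [1, 0]), (202, [0, 1, 1, 0]), (183, [0, 0, 0, 0]), (191, [0, 0, 1]), (193, [0, 0, 1, 1, 0]), (185, [0, 0]), (176, []), (173, [0, 0, 0]), (188, []), (212, [0, 0, 0, 0]), (224, [0, 1, 1, 0, 0]), (219, []), (209, [0, 0, 0, 0]), (216, []), (210, []), (204, [1, 0, 0, 1, 1]),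 (220, [1]), (215, [0, 0, 1, 1, 0]), (223, [1, 0, 0, 1, 1]), (227, [1, 0, 0]), (207, [0, 0, 0, 0]), (221, [1, 1, 0, 0, 0]), (205, [1, 0]), (214, [0, 0]), (217, [0, 0, 0, 0]), (218, [0, 0, 0, 0]), (213, []), (206, [1, 1, 0, 0, 1]), (226, [1]), (222, [1, 0, 0, 1, 1]), (211, [0, 1, 1, 0]), (208, [0, 0, 1, 1, 0]), (225, []), (236, [0, 1, 1]), (248, [1, 1, 0, 0, 0]), (243, []), (233, [1]), (240, []), (234, [1, 0, 0, 1, 1]), (228, [1, 1, 0, 0, 0]), (244, [1]), (239, []), (247, [1, 0, 0, 0]), (251, [1, 1, 0, 0, 0]), (231, [1, 1, 0]), (245, [0, 1, 1]), (229, [0, 0, 0]), (238, [1, 1]), (241, [1, 0, 0]), (242, [0, 0, 1, 1]), (237, [1, 0, 0, 1, 1]), (230, [0, 0, 0, 0]), (250, [0, 0, 1]), (246, [0, 0, 0]), (235, [1, 1, 0, 0, 1]), (232, [1, 1, 0, 0, 1]), (249, [])],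
  [(131, []), (72, [1, 0, 0, 0]), (30, []), (182, [0, 0]), (112, [1]), (62, []), (117, []), (191, [1, 0, 0, 1, 1]), (8, [0, 0, 0, 0]), (197, []), (37, [1, 0, 0, 1, 1]), (224, [0, 1, 1, 0]), (97, [0, 0, 1]), (13, [0, 1, 1]), (128, [1, 1, 0, 0]), (41, [0, 0, 0, 0]), (54, [0, 1, 1, 0]), (89, [0, 0, 1, 1, 0]), (236, [0, 0, 1]), (19, [1, 1, 0]), (173, [0]), (162, [0, 1, 1, 0, 0]), (79, [1, 1, 0]), (107, [0, 0, 1, 1, 0]), (24, [1, 1]), (219, [1, 1, 0]), (241, [0, 0, 1, 1]), (168, [0, 1, 1, 0]), (190, [0, 0, 1, 1, 0]), (119, [1, 0, 0, 1]), (60, [0, 0, 0]), (244, [0, 1]), (5, [0, 0, 0]), (180, [0, 0, 1, 1]), (125, []), (35, [1, 0, 0]), (156, []), (78, [1, 1, 0, 0]), (203, [0, 1, 1, 0, 0]), (95, [0, 1, 1, 0, 0]), (40, [0, 0]), (69, [0, 1, 1]), (1, [1]), (194, [0, 1, 1, 0]), (134, []), (151, [0, 0, 0, 0]), (106, [0, 0, 1]), (17, []), (135, []), (49, [0, 1, 1]), (231, []), (161, [0, 0, 1]), (22, [0,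 0, 0]), (53, [1, 0, 0]), (84, [1, 0]), (235, []), (102, [1]), (140, []), (167, [0, 0]), (114, [1, 1, 0, 0, 0]), (2, [0, 0, 0]), (146, [0]), (32, [0, 0, 0]), (185, [1, 1, 0, 0, 1]), (118, []), (218, [1, 1, 0, 0]), (141, []), (67, [0, 0]), (247, []), (15, [0, 1, 1, 0]), (202, [0, 0, 0]), (133, [1, 0, 0, 1, 1]), (42, [1]), (250, []), (192, [0, 1]), (225, [1, 0, 0, 0]), (123, [0, 0, 0, 0]), (77, [0, 0, 1]), (10, [0]), (52, [0, 1, 1, 0, 0]), (208, [0, 0]), (81, [0, 0, 1]), (229, [1, 1]), (100, [0, 0, 0]), (16, [1, 1, 0, 0]), (213, [1, 0, 0, 1]), (234, [1, 0]), (175, [0, 0, 1, 1]), (105, [1, 1]), (47, [1, 1, 0, 0, 1]), (90, [1, 1, 0]), (157, [1]), (75, [1, 0, 0, 1, 1]), (93, [1, 1]), (9, [0, 1]), (249, [0, 0, 1, 1]), (147, [1, 0]), (200, [0, 0]), (98, [1, 0, 0, 0]), (55, [0, 1, 1]), (215, [0, 0, 0]), (85, [1, 1]), (232, [0, 0, 0, 0]), (103, [1, 1, 0]), (20, [0, 0]), (206, [0, 1, 1, 0]), (237, [0,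 0, 0, 0]), (176, [1, 1, 0, 0, 1]), (108, [1, 1]), (50, [1, 0, 0, 0]), (80, [0, 1, 1]), (3, [0, 0, 1, 1]), (183, [0, 0, 1, 1]), (31, [0, 0, 1, 1]), (221, [0, 0]), (170, []), (65, [0, 0, 1]), (187, []), (216, [0, 0, 1]), (242, [0, 0, 0]), (165, [0, 1]), (7, [0, 1, 1, 0, 0]), (26, [0, 0, 1, 1, 0]), (199, [0, 0]), (91, [0, 0, 0, 0, 0]), (222, [0, 0, 1, 1]), (126, [1, 1]), (70, [0, 0, 1, 1, 0]), (248, []), (96, [0, 0, 0, 0, 0]), (130, [1, 1, 0]), (152, []), (74, []), (195, []), (227, []), (204, [0]), (136, [0, 1, 1]), (87, []), (18, [0, 0, 1, 1]), (139, [0, 0, 0, 0]), (214, []), (186, [0, 0, 0]), (115, [1, 1, 0, 0, 0]), (25, [1, 1, 0]), (63, []), (120, [1, 0]), (181, []), (129, [1, 1, 0, 0, 0]), (38, [0, 1, 1]), (149, [1, 0, 0, 0]), (68, []), (193, [0, 0, 1, 1]), (0, []), (43, [0, 0, 1, 1, 0]), (73, []), (11, [1, 0, 0, 1]), (198, []), (124, [1, 1, 0, 0, 1]), (158, [0, 0, 1]), (159, [0, 0, 0, 0]),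 (82, [1, 0, 0]), (178, [0, 0, 1]), (209, []), (86, []), (164, [1, 1, 0]), (145, [1, 0, 0, 1]), (28, [0, 1, 1, 0, 0]), (243, [0, 0, 1, 1, 0]), (188, [1, 0, 0, 1]), (33, [1, 1]), (142, [1]), (233, [1, 1, 0]), (172, [1, 1, 0]), (104, [0, 0, 0]), (207, []), (137, [1, 0]), (23, []), (177, [0, 0, 1]), (51, [0, 0, 1]), (211, [0, 1, 1, 0, 0]), (169, [1, 0, 0, 1, 1]), (61, [0, 0, 0, 0, 0]), (111, [0, 0, 1, 1, 0]), (4, [0]), (217, [1, 1, 0, 0, 0]), (144, [0, 0, 1, 1, 0]), (66, [0, 0, 0]), (6, []), (27, []), (220, [0, 1, 1, 0, 0]), (166, [0]), (121, []), (132, [1, 1, 0, 0]), (45, [0, 1, 1]), (153, [1, 0, 0, 0]), (71, [0, 1, 1, 0, 0]), (196, [0, 0, 1]), (94, [1, 1, 0, 0]), (36, []), (76, []), (12, [0, 1]), (201, [1, 0, 0, 0]), (127, [0, 1, 1]), (148, [1, 1, 0, 0]), (48, [0, 0, 0, 0, 0]), (205, [0, 1, 1]), (88, [0, 1, 1]), (239, [0, 0, 0, 0, 0]), (110, [1]), (21, [1, 0, 0, 1, 1]), (210, [1, 1]), (230,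 [0, 0, 1, 1, 0]), (171, [0, 0, 0, 0, 0]), (101, [1, 1, 0, 0, 1]), (57, []), (83, []), (64, [1, 1, 0]), (245, [0, 1, 1, 0]), (116, [1, 1, 0, 0, 1]), (143, [1, 1, 0]), (240, [0, 0, 0, 0, 0]), (59, [0, 0, 1, 1]), (34, [1, 0]), (223, [1, 0, 0]), (155, []), (92, [0, 0]), (226, [0, 1, 1]), (44, []), (228, [1, 1]), (160, [0]), (179, [0]), (109, [1, 1]), (56, [0, 1]), (212, [1, 0, 0, 0]), (163, [0, 0, 1, 1]), (99, [1, 0, 0]), (138, [0, 1, 1]), (46, [1, 1, 0, 0, 0]), (238, [1, 0, 0, 0]), (174, [0]), (189, [0, 1]), (122, [0, 0]), (29, [1, 0, 0, 1]), (58, [0, 0, 1, 1]), (113, [0, 1, 1, 0]), (184, [1, 1, 0, 0, 1]), (246, [0, 1, 1]), (150, []), (14, [0, 1]), (39, [1]), (154, []), (251, [0, 0, 0, 0])],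
  [(201, []), (185, []), (124, [0, 0, 0, 0, 0]), (204, [0, 1, 1]), (150, [1, 1, 0, 0, 0]), (230, [1, 0]), (85, []), (45, []), (213, [1]), (157, []), (63, [0, 1]), (179, [0, 1, 1]), (193, []), (144, [0, 1]), (48, [1, 1]), (247, [0, 1, 1]), (119, [1, 0]), (135, [1, 1, 0, 0, 1]), (68, [1, 1, 0, 0]), (242, [0, 1, 1, 0]), (101, [0, 0, 1, 1]), (91, []), (29, []), (211, []), (151, [0, 1, 1, 0, 0]), (77, [1, 0]), (2, [1]), (206, [0]), (126, [0, 0, 0, 0, 0]), (58, [0, 0, 0, 0]), (86, [1, 0]), (196, [0, 0, 1, 1]), (116, [1, 1]), (52, [0, 1, 1, 0]), (223, [0, 0, 0, 0, 0]), (167, [0, 1, 1, 0]), (79, []), (195, [0, 0, 1]), (163, [0]), (8, [1, 0, 0]), (71, []), (105, [0, 0]), (133, [0, 1, 1, 0, 0]), (65, [0, 1]), (30, [1, 0, 0]), (158, []), (127, [0, 0, 0, 0]), (60, [1, 1, 0, 0, 1]), (234, []), (93, []), (88, []), (202, []), (251, [0, 0, 1, 1]), (22, [0, 0]), (35, [1, 1]), (243, [1, 0, 0, 0]), (218, []),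 (70, []), (53, []), (78, []), (188, [0, 0]), (108, []), (44, [0, 1, 1]), (25, []), (228, [1, 1, 0, 0, 0]), (148, [0]), (5, [0, 1, 1, 0]), (177, []), (134, [0, 1]), (32, []), (237, []), (143, [0, 1, 1]), (81, [0]), (46, [0, 1, 1, 0, 0]), (168, [1, 1, 0, 0, 1]), (106, [0, 0, 1, 1]), (38, [1, 1, 0, 0, 0]), (10, [0, 1, 1, 0]), (139, [0, 1, 1]), (99, [0, 0, 1, 1]), (37, [1, 1, 0]), (219, [0, 0, 0, 0]), (159, [1, 1, 0, 0, 1]), (27, [0, 1, 1]), (235, [0, 0, 0, 0, 0]), (210, [0, 0, 1, 1]), (62, [0, 0, 1, 1]), (24, [1, 1, 0, 0, 0]), (227, []), (203, [0, 1, 1, 0, 0]), (55, [0, 0, 0, 0, 0]), (217, []), (161, [0, 0, 1, 1, 0]), (67, []), (183, [1, 1, 0, 0]), (173, [1, 0, 0]), (130, [1, 0, 0, 1]), (28, [0, 0]), (233, [0, 0, 1, 1]), (149, [0, 0, 1]), (4, [0, 0, 0, 0]), (171, [0, 0, 0, 0, 0]), (123, [1, 0, 0]), (20, []), (226, [0, 0, 0]), (199, [1, 1]), (51, [1, 1]), (76, [0, 0, 1, 1, 0]), (190, [0, 0, 0]),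 (245, [1, 1, 0, 0, 0]), (13, [0, 0, 1, 1, 0]), (74, [0]), (184, [1, 0]), (104, [1]), (40, []), (178, [0, 0, 0, 0]), (132, [1, 0, 0, 0]), (98, [1, 0, 0, 1, 1]), (212, [1, 1, 0]), (246, [0, 1, 1]), (112, []), (166, []), (192, []), (209, [1, 1, 0, 0]), (153, [1, 0, 0, 1, 1]), (59, [0, 1, 1]), (175, [0, 0, 1, 1]), (170, [0, 0, 0, 0, 0]), (21, [1, 1, 0]), (87, [0, 0, 0]), (121, [1, 0, 0, 1, 1]), (137, []), (69, []), (34, [1, 1, 0]), (162, []), (15, [0, 1, 1, 0]), (221, [0, 0, 1]), (191, [1, 1, 0, 0, 1]), (43, []), (125, [0, 1, 1]), (115, [0, 0, 1, 1, 0]), (194, [0, 1, 1]), (142, [1, 1, 0, 0]), (114, [1, 0, 0]), (222, [1, 0, 0, 1, 1]), (41, [0, 0, 1]), (7, []), (181, [0]), (138, [1, 1, 0]), (36, [0, 1, 1]), (241, [0, 0]), (129, [0, 0, 0, 0]), (61, []), (26, []), (154, [0, 1]), (122, [0, 0, 0, 0]), (54, [1, 1, 0, 0, 0]), (23, [0, 1, 1]), (146, []), (84, [1, 0, 0, 0]), (198, [1, 0]), (250, [1, 0,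 0, 0]), (18, []), (107, []), (147, [0, 0, 0, 0, 0]), (236, []), (96, [0, 0, 0, 0]), (156, [0, 0, 1]), (176, [0, 1, 1, 0]), (16, [0, 1, 1, 0]), (73, [1, 1, 0]), (103, [1, 0, 0]), (131, [0, 0, 1, 1, 0]), (64, [0, 0, 0, 0]), (238, [0]), (97, [1, 1, 0, 0, 1]), (111, []), (49, []), (225, [0, 1, 1]), (165, [0, 1, 1]), (90, [0]), (200, []), (120, [1, 0, 0, 1, 1]), (56, [1, 0, 0, 0]), (182, [0, 0, 1, 1, 0]), (136, [0, 0, 1, 1]), (102, [1, 0, 0]), (216, [0, 0, 1, 1, 0]), (232, []), (92, [1, 1, 0, 0, 0]), (152, [0, 0, 0]), (172, []), (231, [1, 1, 0]), (0, []), (3, []), (205, [0, 0, 1, 1, 0]), (118, [0, 0, 1, 1, 0]), (50, [0, 0, 0, 0, 0]), (19, []), (145, [1, 1, 0, 0, 1]), (164, []), (12, []), (75, [0, 0, 0, 0, 0]), (109, [0, 0, 1, 1]), (141, [0, 1, 1]), (80, [1, 1, 0, 0, 1]), (248, [1, 1, 0, 0, 1]), (113, [1, 1, 0, 0, 0]), (72, [0, 0, 0, 0, 0]), (186, [1, 1, 0, 0, 0]), (244, [0, 0, 1, 1]), (9, [1, 0,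 0]), (31, []), (239, [0, 0, 0]), (214, [1, 1, 0, 0]), (66, [1, 1, 0, 0]), (174, [0, 1, 1]), (128, [0, 0, 1]), (94, [0, 0, 0, 0]), (208, [0, 0]), (57, [1, 1, 0, 0]), (1, [0, 1, 1]), (110, [0, 0, 0]), (42, [0, 0, 0, 0]), (14, []), (140, [1]), (207, [0, 0, 0]), (197, [0]), (95, [1, 0]), (33, [0, 1]), (215, []), (155, [1, 1, 0, 0]), (47, [1, 0, 0, 0]), (249, [0, 0, 1, 1]), (224, [1, 0, 0, 0]), (82, [1, 1, 0, 0]), (11, [0, 1, 1]), (220, [0, 1]), (187, [0, 0]), (39, [1, 1, 0, 0]), (240, [0, 0, 1, 1]), (100, [1, 1, 0, 0, 1]), (160, [0, 1]), (180, [1, 1]), (6, [0, 0, 0]), (89, [1, 1]), (169, [0, 0, 1]), (17, [1, 1, 0]), (83, [0]), (117, [0, 0, 1]), (189, [0, 0]), (229, [])],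
  [(191, []), (38, [0]), (205, []), (228, []), (126, [1, 0, 0, 1, 1]), (149, [0, 0, 0, 0, 0]), (199, [1, 1]), (109, []), (30, []), (179, []), (239, [1, 0, 0]), (131, []), (222, []), (112, [1, 0, 0, 1]), (167, [1, 1, 0]), (48, [0, 1, 1, 0, 0]), (88, []), (68, [1, 1, 0]), (219, [0]), (182, [1, 1, 0, 0, 0]), (160, [1, 0, 0, 1]), (233, []), (129, []), (91, [0, 0, 1, 1, 0]), (62, [1, 1, 0, 0, 0]), (72, [0, 0, 0, 0, 0]), (64, [1, 1, 0, 0, 1]), (215, [1]), (178, [0, 0, 1]), (156, [1, 0, 0, 1]), (247, [1, 1, 0, 0]), (143, [1, 0]), (111, [1, 1, 0]), (82, [0, 1, 1, 0, 0]), (122, []), (87, [0, 1, 1, 0, 0]), (55, [1, 1, 0]), (202, [0, 0]), (159, [1, 1, 0]), (35, [1, 1]), (136, [1, 0, 0]), (67, [1, 1, 0, 0]), (61, [1, 0, 0]), (209, [0, 1, 1, 0, 0]), (29, [0, 0, 0, 0, 0]), (232, [0, 0, 1]), (125, [0, 0, 0, 0, 0]), (4, [0, 0, 1, 1, 0]), (58, []), (204, []), (116, []), (85, [1, 0, 0, 0]), (169, [0]), (18,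 [1, 1, 0]), (15, [1, 0, 0, 1, 1]), (245, [0, 1]), (78, [1, 1, 0, 0]), (189, []), (54, []), (34, []), (183, [1, 1, 0, 0]), (243, [0, 0, 0, 0]), (135, [0, 1, 1, 0, 0]), (208, [0, 1]), (92, [1, 0, 0, 1, 1]), (153, [0, 0, 1, 1]), (28, []), (150, [0, 0, 0, 0]), (25, [0, 1]), (3, [0, 1]), (229, [0, 1]), (145, [0, 1, 1]), (17, [0, 0]), (115, [1, 1, 0]), (52, []), (45, [1, 0, 0, 1]), (188, [1, 0, 0, 0]), (14, [0, 1]), (221, [1, 0, 0, 0]), (106, [0, 1, 1, 0, 0]), (71, [1, 0, 0]), (39, [0, 0, 0, 0]), (186, [0, 0, 1]), (155, [1, 1, 0, 0]), (31, [1, 1, 0]), (132, [0, 0, 0, 0, 0]), (63, [0, 0, 0, 0]), (81, []), (223, [0, 1, 1, 0]), (49, [1, 0, 0, 1, 1]), (246, []), (171, []), (147, [0]), (124, [0, 0, 0, 0, 0]), (5, [0, 1, 1]), (118, [0, 0, 0, 0, 0]), (83, [0, 0, 1, 1, 0]), (51, [1, 1, 0]), (198, [1, 0, 0]), (46, [1, 1]), (195, []), (249, [0, 0, 0, 0, 0]), (141, [0, 0, 1, 1, 0]), (11, []), (244, [0, 0,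 0, 0, 0]), (74, [0, 1, 1]), (185, [0, 1, 1]), (177, [0, 0, 0]), (158, [1, 0, 0]), (238, [1, 0]), (98, []), (60, [0, 1, 1, 0, 0]), (211, [0]), (174, [0, 0, 0]), (152, [1, 0, 0]), (57, [0, 0, 1]), (200, [0, 0]), (23, [1, 0, 0]), (227, [0, 1, 1]), (218, [1, 0, 0]), (101, []), (180, []), (138, [1, 0, 0]), (80, []), (225, [0, 1, 1, 0, 0]), (194, []), (166, [0, 1, 1, 0, 0]), (41, [0, 0, 1, 1]), (184, []), (10, [0, 0, 0]), (220, []), (214, []), (97, []), (176, [1, 1, 0]), (134, [1, 1, 0, 0]), (151, [1, 0, 0, 1, 1]), (27, [1, 0, 0, 1]), (128, []), (59, [0, 1, 1]), (121, [0]), (1, [1, 1, 0]), (108, [1, 1, 0, 0, 1]), (77, [1, 0]), (164, [0, 0]), (13, []), (123, []), (50, []), (26, [0, 0, 0, 0]), (175, [1, 0]), (235, [0, 1, 1, 0]), (127, [0, 1, 1]), (24, [1]), (251, []), (90, []), (201, [1, 0, 0, 1, 1]), (181, [1, 0, 0, 1, 1]), (162, [1, 0]), (242, [1, 1]), (102, [0, 1, 1]), (140, [0, 0, 0, 0]), (12,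 [1]), (107, [0, 0, 0]), (44, [0, 0, 1]), (148, [1, 0, 0, 0]), (84, [1]), (165, [0, 1, 1, 0]), (47, [1, 1, 0, 0, 1]), (142, [0, 0, 0, 0]), (79, [0]), (105, [1, 0]), (7, [1, 0]), (117, [0, 0, 1, 1, 0]), (110, []), (75, [0, 0, 1, 1]), (43, []), (190, [1]), (2, []), (230, []), (207, [1, 0, 0, 1, 1]), (0, []), (212, [1]), (96, []), (157, [0, 0, 1, 1, 0]), (32, [1, 1, 0, 0]), (193, [1, 0, 0, 1, 1]), (168, [1, 1, 0, 0, 1]), (248, [0, 0, 1, 1, 0]), (114, [0, 1, 1]), (104, []), (73, []), (163, [1, 1, 0, 0, 1]), (9, []), (241, []), (137, [0, 1, 1, 0, 0]), (99, [0, 0, 1, 1]), (70, [1]), (210, [0, 1, 1, 0]), (93, [0, 0, 1, 1]), (172, [0, 1, 1]), (130, [0, 0, 1, 1, 0]), (146, [0, 0, 0, 0]), (21, []), (119, [1, 1, 0]), (56, [1, 0, 0]), (237, [0, 1, 1, 0, 0]), (133, [0, 0, 1]), (95, [1, 1, 0]), (66, [0, 0, 0]), (224, [1, 0]), (113, [1, 1, 0]), (192, [0, 0, 0, 0]), (144, [0, 1, 1]), (139, [0, 0, 1, 1]), (8,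 [0, 0, 1]), (103, []), (40, [0, 0, 0]), (69, [1]), (217, [1, 0]), (37, [0, 0, 1]), (240, [0, 0, 1]), (6, [0, 0, 1]), (203, [1, 0, 0, 1]), (20, [0, 0, 1, 1, 0]), (250, [0, 0, 1, 1]), (86, [1, 0, 0, 1, 1]), (197, [1, 1, 0, 0]), (42, [1, 1, 0, 0]), (206, []), (216, [1, 0, 0]), (100, [1, 0, 0]), (161, []), (36, [0, 0, 0, 0, 0]), (173, [0, 0, 0, 0, 0]), (154, [0, 1, 1, 0, 0]), (234, [1, 0, 0, 1]), (94, [0, 1, 1]), (120, [1, 0, 0, 1, 1]), (89, []), (170, [0, 0, 0]), (22, [1, 1, 0, 0, 1]), (53, [1]), (196, [0, 1, 1]), (19, [0, 0, 1, 1]), (226, [0, 0, 1, 1, 0]), (76, [1, 1, 0]), (231, [0, 0]), (65, [1, 0]), (213, [1, 1, 0, 0, 1]), (33, [1, 1, 0, 0]), (236, [1, 1, 0, 0, 1]), (16, [0, 1]), (187, [])],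
  [(177, []), (46, []), (250, []), (170, [1, 0]), (220, [0, 0, 0]), (140, [0, 0, 0]), (178, []), (92, [0, 0, 1]), (237, []), (51, []), (142, [0]), (189, [0, 0, 0]), (154, []), (225, [1]), (57, [1, 0, 0, 1, 1]), (106, [1, 1, 0, 0]), (70, [1, 1, 0, 0, 0]), (202, [0, 1]), (73, [1]), (161, [1, 1, 0]), (214, [1, 1, 0, 0, 1]), (115, []), (240, [1, 1, 0, 0]), (75, []), (127, []), (67, [1, 1]), (201, [1, 0, 0, 1]), (72, [1, 0, 0, 0]), (160, [1, 1, 0, 0, 1]), (213, [0, 1, 1]), (118, [1, 1, 0]), (243, [1, 1, 0, 0, 1]), (78, [0, 0, 0, 0, 0]), (130, [0, 0, 1]), (37, [1]), (98, [0, 1, 1, 0]), (175, [0, 1, 1, 0, 0]), (82, []), (85, [0, 1, 1]), (137, [1]), (167, []), (40, [1, 1, 0]), (246, [1, 0, 0, 1]), (42, [1, 1]), (87, [1, 0, 0, 1]), (216, [0]), (58, [0, 1]), (146, [0, 1, 1]), (226, []), (1, [0, 0, 0]), (10, [1, 1, 0]), (149, [1, 1, 0, 0]), (101, [1, 1]), (61, [1, 1, 0, 0, 0]), (181, [1, 0, 0]), (64,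 [1, 0]), (13, [0, 0, 0, 0, 0]), (229, [1, 0]), (49, [0, 1]), (238, []), (52, [0, 0, 0]), (143, []), (190, [0, 1]), (151, []), (222, [0, 1, 1, 0, 0]), (54, [1, 1, 0, 0, 0]), (103, [1, 1, 0]), (16, [0, 0, 1, 1, 0]), (164, [0, 0, 0, 0, 0]), (244, []), (25, [0, 0, 1, 1]), (28, [0, 0, 0]), (113, [1, 1, 0, 0]), (125, [0, 0, 1, 1]), (19, [0, 0, 1]), (205, [0, 1, 1]), (22, [0, 0, 1, 1]), (31, [1, 1, 0, 0]), (193, [1, 0, 0]), (34, [1, 1, 0, 0, 0]), (95, [1]), (172, [0, 0]), (79, []), (84, [0, 0, 1, 1]), (136, [0, 0, 1, 1]), (166, [0, 0]), (39, []), (249, [1]), (45, [1, 0, 0, 0]), (90, [0, 0]), (219, [0, 0, 1]), (139, [0, 0, 0, 0, 0]), (171, [1, 1, 0]), (7, [0, 0, 1, 1]), (169, [0, 0, 0, 0, 0]), (36, [0, 1]), (97, [0, 1, 1]), (174, [0, 1, 1, 0, 0]), (81, [0, 0, 1, 1, 0]), (239, [1, 0, 0]), (53, [0, 0, 0]), (144, [1]), (191, []), (180, [1, 1, 0, 0, 1]), (63, [0, 1, 1, 0, 0]), (12, [0, 1, 1]), (228, [0,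 1, 1, 0, 0]), (108, [1, 0, 0, 1, 1]), (233, [0, 0, 0]), (185, [0, 0, 0]), (156, [1, 1]), (200, [1, 0, 0]), (71, [0, 0]), (159, [1]), (212, []), (207, []), (24, [0, 0, 1, 1]), (33, []), (195, [1, 1, 0]), (133, [0, 0, 1, 1, 0]), (198, [1, 1, 0, 0, 1]), (210, []), (121, [1, 1]), (203, []), (74, [0, 0, 1, 1]), (162, [1, 0]), (215, [0, 0, 1, 1]), (204, [1, 0, 0, 0]), (21, [0, 0, 0, 0]), (30, []), (192, [0, 1]), (132, []), (197, []), (209, [1, 1, 0]), (120, []), (83, [0, 0, 0]), (135, []), (165, []), (38, [1]), (94, [0, 1, 1, 0]), (2, []), (9, [1, 1, 0]), (148, []), (100, [1, 0, 0, 0]), (60, []), (145, [0, 0, 1, 1]), (48, []), (236, [1, 0]), (50, [1, 0, 0, 1]), (141, [0, 0, 0, 0]), (188, [0, 0, 1, 1, 0]), (183, [0, 1]), (66, []), (15, []), (231, [0, 0, 1]), (109, [1, 0, 0, 0]), (234, [0, 0, 0, 0, 0]), (186, []), (157, [1, 1, 0]), (27, [1, 1, 0]), (112, [1, 0, 0, 1, 1]), (124, [1, 0]), (18, [1, 1,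 0, 0, 0]), (163, [0, 1]), (69, [1, 0, 0, 1, 1]), (86, [1, 1, 0, 0, 0]), (138, []), (168, [1]), (41, [0, 0]), (91, [1, 0, 0, 0]), (4, [1, 1, 0]), (93, [1, 0]), (35, []), (96, [1, 1, 0, 0]), (173, []), (80, [1, 1, 0, 0]), (221, []), (6, []), (0, []), (251, [0, 0, 1, 1, 0]), (152, [1, 0, 0, 0]), (223, []), (55, [0]), (104, [1, 1, 0, 0, 1]), (110, [0, 0, 0, 0]), (235, [0, 0, 0]), (187, [1, 0, 0, 1, 1]), (158, [1, 0, 0, 1, 1]), (8, [1, 1, 0, 0]), (147, [1, 0, 0, 0]), (99, [1, 1, 0, 0]), (59, []), (117, [0, 1, 1]), (242, []), (77, []), (129, [1, 1, 0]), (131, []), (196, []), (208, []), (119, []), (29, [0, 0, 0]), (114, []), (126, [0, 1, 1, 0, 0]), (20, [1, 0, 0, 1]), (116, [0, 0, 1]), (241, [1, 1]), (76, [0, 0, 0, 0, 0]), (128, [0, 0]), (134, [0, 0, 1, 1, 0]), (199, [0, 0, 1, 1]), (211, [0, 1, 1, 0, 0]), (122, [0, 0, 0, 0]), (26, [0, 1, 1, 0]), (111, [0, 0, 0]), (123, [1, 1]), (17, [1, 1, 0, 0,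 1]), (248, [1, 0, 0]), (44, [1, 1, 0]), (89, []), (218, [1, 0, 0, 1]), (3, [1, 1, 0, 0, 0]), (179, [1, 1, 0]), (182, [1, 1]), (65, [0, 0, 1]), (14, [1, 1, 0, 0, 0]), (230, [1, 1]), (47, [1, 0, 0]), (227, [0, 0, 1, 1]), (153, [0, 0]), (224, [0, 1]), (56, [0, 0, 0, 0]), (105, [0, 1]), (107, [0, 0, 0, 0]), (232, [1, 1, 0, 0]), (184, [1, 1, 0, 0, 1]), (155, [1, 1]), (11, [0, 0, 0, 0]), (150, [1, 0, 0, 1, 1]), (102, []), (62, [0, 1, 1]), (206, [1, 0, 0]), (23, [0, 1, 1, 0]), (32, [0, 0, 1, 1]), (194, [0, 0, 1]), (68, [1]), (245, [1, 1, 0, 0]), (247, [1, 1, 0, 0, 1]), (43, []), (88, [1, 0, 0, 0]), (217, [1, 0, 0, 0]), (5, [0, 0, 0]), (176, [0, 1])]]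

def BT1 : List (List ℕ) := [
  [],
  [0, 1],
  [1, 0, 0, 1],
  [0, 1, 1, 0],
  [1, 1, 0, 0],
  [0, 0, 1, 1],
  [1, 0],
  [1, 1, 0],
  [1, 0, 0],
  [1, 1],
  [0, 0],
  [0, 0, 0, 0],
  [1, 0, 0, 0],
  [0, 1, 1],
  [0, 0, 1],
  [0, 0, 0],
  [0, 1, 1, 0, 0],
  [1, 1, 0, 0, 1],
  [1],
  [0],
  [0, 0, 0, 0, 0],
  [1, 1, 0, 0, 0],
  [0, 0, 1, 1, 0],
  [1, 0, 0, 1, 1]]

def BE1 : List (List (ℕ × List ℕ)) := [
  [(19, []), (14, []), (8, []), (22, []), (16, []), (21, []), (9, []), (3, []), (7, []), (13, []), (15, []), (20, []), (4, []), (5, []), (12, []), (11, []), (18, []), (6, []), (1, []), (10, []), (0, []), (17, []), (23, []), (2, [])],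
  [(18, []), (10, []), (17, []), (13, []), (20, []), (23, []), (7, []), (11, []), (4, []), (15, []), (8, []), (5, []), (21, []), (14, []), (2, []), (12, []), (3, []), (16, []), (9, []), (6, []), (22, []), (0, []), (1, []), (19, [])]]

/-- the two extra generators as words in the last four -/
def fw0 : List ℕ := [4, 2, 4, 5]
def fw1 : List ℕ := [4, 5, 2, 5, 2, 2, 3]

/-- code of the `j`-th generator -/
def bcode (j : ℕ) : ℕ := bcodeL.getD j 0

theorem b_det : ∀ j : Fin 6, (mat9 (bcode j.val)).det = 1 := by decide +kernel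

theorem b_cols : ∀ j : Fin 6, ∀ s t : Fin 3,
    ∑ r, mat9 (bcode j.val) r s * (mat9 (bcode j.val) r t) ^ 3 = if s = t then 1 else 0 := by
  decide +kernel

theorem frob_add : ∀ x y : R9, (x + y) ^ 3 = x ^ 3 + y ^ 3 := by decide +kernel

/-- the generators on the unitary side -/
def gb (j : ℕ) : G2 :=
  if h : j < 6 then
    ⟨⟨mat9 (bcode j), b_det ⟨j, h⟩⟩, mem_SU_of_cols 3 (by norm_num) frob_add _ (b_cols ⟨j, h⟩)⟩
  else 1

/-- the code of the `x`-th point -/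
def ptc3 (x : ℕ) : ℕ := ptc3L.getD x 0

/-- the `x`-th point -/
def pt3 (x : ℕ) : V2 := vec9 (ptc3 x)

/-- the action table -/
def tab3 (j x : ℕ) : ℕ := ((tab3C.getD j 0) >>> (8 * x)) &&& 255

theorem tab3_ok : (List.range 6).all (fun j => (List.range 252).all (fun x =>
    Nat.blt (tab3 j x) 252)) = true := by decide +kernel

theorem tab3_lt (j : ℕ) (hj : j < 6) (x : ℕ) (hx : x < 252) : tab3 j x < 252 := by
  have := List.all_eq_true.1 (List.all_eq_true.1 tab3_ok j (List.mem_range.2 hj)) x (List.mem_range.2 hx)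
  exact Nat.le_of_ble_eq_true this

theorem b_smul : ∀ j : Fin 6, ∀ x : Fin 252,
    mat9 (bcode j.val) *ᵥ vec9 (ptc3 x.val) = vec9 (ptc3 (tab3 j.val x.val)) := by
  decide +kernel

theorem gb_smul (j : ℕ) (hj : j < 6) (x : ℕ) (hx : x < 252) : gb j • pt3 x = pt3 (tab3 j x) := by
  show (gb j).1.1 *ᵥ vec9 (ptc3 x) = _
  rw [gb, dif_pos hj]
  exact b_smul ⟨j, hj⟩ ⟨x, hx⟩

/-- the code of an element -/
def f9i (x : R9) : ℕ := 3 * x.re.val + x.im.val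

/-- the code of a vector -/
def idx9 (v : V2) : ℕ := f9i (v 0) + 9 * f9i (v 1) + 81 * f9i (v 2)

theorem idx9_vec9 : ∀ x : Fin 252, idx9 (vec9 (ptc3 x.val)) = ptc3 x.val := by decide +kernel

theorem ptc3_nodup : TableChain2.nodupB ptc3L = true := by decide +kernel

theorem ptc3L_len : ptc3L.length = 252 := by decide

theorem pt3_inj (x : ℕ) (hx : x < 252) (y : ℕ) (hy : y < 252) (h : pt3 x = pt3 y) : x = y := by
  have h1 : ptc3 x = ptc3 y := by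
    rw [← idx9_vec9 ⟨x, hx⟩, ← idx9_vec9 ⟨y, hy⟩]
    exact congrArg idx9 h
  have hnd := (TableChain2.nodupB_iff _).1 ptc3_nodup
  have hx' : x < ptc3L.length := by rw [ptc3L_len]; exact hx
  have hy' : y < ptc3L.length := by rw [ptc3L_len]; exact hy
  unfold ptc3 at h1
  rw [List.getD_eq_getElem _ _ hx', List.getD_eq_getElem _ _ hy'] at h1
  exact (List.Nodup.getElem_inj_iff hnd).1 h1

theorem v9_0 : pt3 0 = Pi.single 0 1 := by decide +kernel
theorem v9_1 : pt3 1 = Pi.single 1 1 := by decide +kernel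
theorem v9_2 : pt3 2 = Pi.single 2 1 := by decide +kernel

theorem faithful3 (g g' : G2) (h : ∀ x ∈ [0, 1, 2], g • pt3 x = g' • pt3 x) : g = g' := by
  apply Subtype.ext
  apply Subtype.ext
  have e1 : g.1.1 *ᵥ pt3 0 = g'.1.1 *ᵥ pt3 0 := h 0 (by decide)
  have e2 : g.1.1 *ᵥ pt3 1 = g'.1.1 *ᵥ pt3 1 := h 1 (by decide)
  have e3 : g.1.1 *ᵥ pt3 2 = g'.1.1 *ᵥ pt3 2 := h 2 (by decide)
  rw [v9_0, Matrix.mulVec_single_one, Matrix.mulVec_single_one] at e1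
  rw [v9_1, Matrix.mulVec_single_one, Matrix.mulVec_single_one] at e2
  rw [v9_2, Matrix.mulVec_single_one, Matrix.mulVec_single_one] at e3
  apply Matrix.ext
  intro i k
  fin_cases k
  · exact congrFun e1 i
  · exact congrFun e2 i
  · exact congrFun e3 i

/-- the chain data on the unitary side -/
def D3 : TableChain2.Data G2 V2 where
  m := 6
  N := 252
  gen := gb
  pt := pt3
  tab := tab3
  chk := [0, 1, 2]
  gen_smul := gb_smul
  tab_lt := tab3_lt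
  chk_lt := by decide
  faithful := faithful3
  pt_inj := pt3_inj

theorem Blevel0 : TableChain2.levelCheck tab3 6 2 0 [0, 1, 2] BT0 BE0 = true := by decide +kernel

theorem Blevel1 : TableChain2.levelCheck tab3 2 0 1 [0, 1, 2] BT1 BE1 = true := by decide +kernel

theorem Blvl0 : TableChain2.Data.LevelOK D3 6 2 0 BT0 BE0 :=
  TableChain2.Data.levelOK_of_check (D := D3) (by decide) (by decide) Blevel0

theorem Blvl1 : TableChain2.Data.LevelOK D3 2 0 1 BT1 BE1 :=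
  TableChain2.Data.levelOK_of_check (D := D3) (by decide) (by decide) Blevel1

instance : Finite G2 := inferInstance

theorem card_D3 : Nat.card (D3.H 6) = 6048 := by
  rw [Blvl0.card, Blvl1.card, D3.card_H_zero]
  decide

theorem card_G2 : Nat.card G2 = 6048 := by
  have h1 := Cfsg.Agent.Lib.Helper5.card_SU (F := R9) (q := 3) card_R9' 3 (by norm_num)
  have h2 := Cfsg.Agent.Lib.Helper5.card_GU (F := R9) (q := 3) card_R9' 3
  have hprod : (∏ i ∈ Finset.range 3, if Even i then 3 ^ (i + 1) + 1 else 3 ^ (i + 1) - 1) = 896 := by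
    decide
  rw [h2, hprod] at h1
  norm_num at h1
  show Nat.card ↥(Cfsg.SU 3 R9 3) = 6048
  omega

theorem D3_top : D3.H 6 = ⊤ := by
  rw [← Subgroup.card_eq_iff_eq_top, card_D3, card_G2]

/-- the two extra generators are words in the last four -/
theorem fw_ok : (List.all [0, 1, 2] fun x =>
    Nat.beq (TableChain2.act tab3 [0] x) (TableChain2.act tab3 fw0 x) &&
    Nat.beq (TableChain2.act tab3 [1] x) (TableChain2.act tab3 fw1 x)) = true := by decide +kernel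

theorem fw_lt : (∀ c ∈ fw0, 2 ≤ c ∧ c < 6) ∧ (∀ c ∈ fw1, 2 ≤ c ∧ c < 6) := by decide

/-- the subgroup generated by the images of the four generators of `K₀` -/
def Bsub : Subgroup G2 := Subgroup.closure (Set.range fun j : Fin 4 => gb (j.val + 2))

theorem ev_mem_Bsub (w : List ℕ) (h : ∀ c ∈ w, 2 ≤ c ∧ c < 6) : D3.ev w ∈ Bsub := by
  induction w with
  | nil => exact Bsub.one_mem
  | cons j l ih =>
    rw [D3.ev_cons]
    refine Bsub.mul_mem ?_ (ih fun c hc => h c (by simp [hc]))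
    have hj := h j (by simp)
    apply Subgroup.subset_closure
    exact ⟨⟨j - 2, by omega⟩, by show gb (j - 2 + 2) = gb j; congr 1; omega⟩

theorem Bsub_top : Bsub = ⊤ := by
  rw [eq_top_iff, ← D3_top]
  show D3.H 6 ≤ _
  rw [TableChain2.Data.H, Subgroup.closure_le]
  rintro g ⟨j, hj, rfl⟩
  have hx := fun x hx => List.all_eq_true.1 fw_ok x hx
  simp only [Bool.and_eq_true] at hx
  by_cases h2 : 2 ≤ j
  · apply Subgroup.subset_closure
    exact ⟨⟨j - 2, by omega⟩, by show gb (j - 2 + 2) = gb j; congr 1; omega⟩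
  · have hj' : j = 0 ∨ j = 1 := by omega
    rcases hj' with rfl | rfl
    · have e : D3.ev [0] = D3.ev fw0 := by
        apply D3.ev_eq_of_act
        · intro c hc
          simp only [List.mem_cons, List.not_mem_nil, or_false] at hc
          show c < 6
          omega
        · intro c hc
          exact (fw_lt.1 c hc).2
        · intro x hx'
          exact Nat.eq_of_beq_eq_true (hx x hx').1
      rw [D3.ev_cons, D3.ev_nil, mul_one] at e
      show D3.gen 0 ∈ Bsub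
      rw [e]
      exact ev_mem_Bsub fw0 fw_lt.1
    · have e : D3.ev [1] = D3.ev fw1 := by
        apply D3.ev_eq_of_act
        · intro c hc
          simp only [List.mem_cons, List.not_mem_nil, or_false] at hc
          show c < 6
          omega
        · intro c hc
          exact (fw_lt.2 c hc).2
        · intro x hx'
          exact Nat.eq_of_beq_eq_true (hx x hx').2
      rw [D3.ev_cons, D3.ev_nil, mul_one] at e
      show D3.gen 1 ∈ Bsub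
      rw [e]
      exact ev_mem_Bsub fw1 fw_lt.2

/-! ### the diagonal subgroup -/

abbrev GG := G22A.Γ × G2
abbrev Pt := SumPt G22A.Col V2

/-- the pairs of generators -/
def gen2 (j : ℕ) : GG := (G22A.gen j, gb (j + 2))

/-- the points: the 63 long root vectors, then the 252 vectors of norm 1 -/
def pt2 (x : ℕ) : Pt := if x < 63 then SumPt.inl (G22A.pt x) else SumPt.inr (pt3 (x - 63))

/-- the combined table -/
def tab2 (j x : ℕ) : ℕ := if x < 63 then G22A.tab j x else 63 + tab3 (j + 2) (x - 63)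

/-- check points on both sides -/
def chk2 : List ℕ := G22A.chk ++ [63, 64, 65]

theorem gen2_smul (j : ℕ) (hj : j < 4) (x : ℕ) (hx : x < 315) : gen2 j • pt2 x = pt2 (tab2 j x) := by
  by_cases h : x < 63
  · have h1 : G22A.tab j x < 63 := G22A.tab_lt j (by omega) x h
    unfold pt2 tab2
    rw [if_pos h, if_pos h, if_pos h1, SumPt.smul_inl]
    congr 1
    exact G22A.gen_smul j (by omega) x h
  · have h' : x - 63 < 252 := by omega
    have h1 : ¬ (63 + tab3 (j + 2) (x - 63) < 63) := by omega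
    unfold pt2 tab2
    rw [if_neg h, if_neg h, if_neg h1, SumPt.smul_inr]
    congr 1
    have e : 63 + tab3 (j + 2) (x - 63) - 63 = tab3 (j + 2) (x - 63) := by omega
    rw [e]
    exact gb_smul (j + 2) (by omega) (x - 63) h'

theorem tab2_lt (j : ℕ) (hj : j < 4) (x : ℕ) (hx : x < 315) : tab2 j x < 315 := by
  unfold tab2
  split_ifs with h
  · have := G22A.tab_lt j (by omega) x h
    omega
  · have := tab3_lt (j + 2) (by omega) (x - 63) (by omega)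
    omega

theorem chk2_lt : ∀ x ∈ chk2, x < 315 := by decide

theorem pt2_inj (x : ℕ) (hx : x < 315) (y : ℕ) (hy : y < 315) (h : pt2 x = pt2 y) : x = y := by
  unfold pt2 at h
  by_cases h1 : x < 63 <;> by_cases h2 : y < 63
  · rw [if_pos h1, if_pos h2] at h
    exact G22A.pt_inj x h1 y h2 (SumPt.inl_injective h)
  · rw [if_pos h1, if_neg h2] at h
    exact absurd h (SumPt.inl_ne_inr _ _)
  · rw [if_neg h1, if_pos h2] at h
    exact absurd h.symm (SumPt.inl_ne_inr _ _)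
  · rw [if_neg h1, if_neg h2] at h
    have := pt3_inj (x - 63) (by omega) (y - 63) (by omega) (SumPt.inr_injective h)
    omega

theorem faithful2 (g g' : GG) (h : ∀ x ∈ chk2, g • pt2 x = g' • pt2 x) : g = g' := by
  apply Prod.ext
  · apply G22A.faithful
    intro x hx
    have hx63 : x < 63 := G22A.chk_lt x hx
    have := h x (List.mem_append_left _ hx)
    unfold pt2 at this
    rw [if_pos hx63, SumPt.smul_inl, SumPt.smul_inl] at this
    exact SumPt.inl_injective this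
  · apply faithful3
    intro x hx
    have hx' : x + 63 ∈ chk2 := by
      apply List.mem_append_right
      simp only [List.mem_cons, List.not_mem_nil, or_false] at hx ⊢
      omega
    have := h (x + 63) hx'
    unfold pt2 at this
    have h63 : ¬ (x + 63 < 63) := by omega
    rw [if_neg h63, SumPt.smul_inr, SumPt.smul_inr] at this
    have e : x + 63 - 63 = x := by omega
    rw [e] at this
    exact SumPt.inr_injective this

/-- the chain data of the diagonal subgroup -/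
def D2 : TableChain2.Data GG Pt where
  m := 4
  N := 315
  gen := gen2
  pt := pt2
  tab := tab2
  chk := chk2
  gen_smul := gen2_smul
  tab_lt := tab2_lt
  chk_lt := chk2_lt
  faithful := faithful2
  pt_inj := pt2_inj

theorem Clevel0 : TableChain2.levelCheck tab2 4 2 0 chk2 G22A.AT0 G22A.AE0 = true := by
  decide +kernel

theorem Clevel1 : TableChain2.levelCheck tab2 2 1 17 chk2 G22A.AT1 G22A.AE1 = true := by
  decide +kernel

theorem Clevel2 : TableChain2.levelCheck tab2 1 0 1 chk2 G22A.AT2 G22A.AE2 = true := by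
  decide +kernel

theorem Clvl0 : TableChain2.Data.LevelOK D2 4 2 0 G22A.AT0 G22A.AE0 :=
  TableChain2.Data.levelOK_of_check (D := D2) (by decide) (by decide) Clevel0

theorem Clvl1 : TableChain2.Data.LevelOK D2 2 1 17 G22A.AT1 G22A.AE1 :=
  TableChain2.Data.levelOK_of_check (D := D2) (by decide) (by decide) Clevel1

theorem Clvl2 : TableChain2.Data.LevelOK D2 1 0 1 G22A.AT2 G22A.AE2 :=
  TableChain2.Data.levelOK_of_check (D := D2) (by decide) (by decide) Clevel2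

instance : Finite GG := inferInstance

/-- the diagonal subgroup -/
def DG : Subgroup GG := D2.H 4

theorem card_DG : Nat.card DG = 6048 := by
  show Nat.card (D2.H 4) = 6048
  rw [Clvl0.card, Clvl1.card, Clvl2.card, D2.card_H_zero]
  decide

theorem proj₁_DG : proj₁ DG = G22A.D.H 4 := by
  show proj₁ (D2.H 4) = _
  rw [D2.H_eq_closure_range 4, G22A.D.H_eq_closure_range 4]
  exact proj₁_closure (fun j : Fin 4 => G22A.gen j.val) (fun j : Fin 4 => gb (j.val + 2))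

theorem proj₂_DG : proj₂ DG = ⊤ := by
  show proj₂ (D2.H 4) = _
  rw [D2.H_eq_closure_range 4, ← Bsub_top]
  exact proj₂_closure (fun j : Fin 4 => G22A.gen j.val) (fun j : Fin 4 => gb (j.val + 2))

/-- `K₀ ≃* SU₃(R9)` -/
theorem equiv_K0 : Nonempty (↥(G22A.D.H 4) ≃* G2) := by
  have h1 : Nat.card DG ≤ Nat.card (proj₁ DG) := by
    rw [proj₁_DG, card_DG, G22A.card_K0]
  have h2 : Nat.card DG ≤ Nat.card (proj₂ DG) := by
    rw [proj₂_DG, card_DG, Subgroup.card_top, card_G2]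
  obtain ⟨ψ, -⟩ := exists_mulEquiv DG h1 h2
  exact ⟨(MulEquiv.subgroupCongr proj₁_DG).symm.trans (ψ.trans
    ((MulEquiv.subgroupCongr proj₂_DG).trans Subgroup.topEquiv))⟩

end Cfsg.Agent.Lib.Helper89.G22B
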