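import Mathlib

set_option autoImplicit false
set_option linter.unusedSimpArgs false
set_option linter.unusedVariables false
set_option maxHeartbeats 400000
set_option maxRecDepth 100000

namespace Cfsg.Agent.Lib.Helper89.L27Pres

variable {H : Type*} [Group H]

/-- the generator attached to a letter -/
def gen (X Y : H) : Fin 2 → H := ![X, Y]

/-- evaluation of a word -/
def ev (X Y : H) : List (Fin 2) → H
  | [] => 1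
  | k :: w => gen X Y k * ev X Y w

/-- the 168 normal forms `w` with the normal forms of `x * w` for each generator `x` -/
def tbl : List (List (Fin 2) × List (Fin 2) × List (Fin 2)) :=
  [([], [0], [1]),
    ([0], [], [1, 0]),
    ([1], [0, 1], [1, 1]),
    ([0, 1], [1], [1, 0, 1]),
    ([1, 0], [0, 1, 0], [1, 1, 0]),
    ([1, 1], [0, 1, 1], []),
    ([0, 1, 0], [1, 0], [1, 0, 1, 0]),
    ([0, 1, 1], [1, 1], [1, 0, 1, 1]),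
    ([1, 0, 1], [0, 1, 0, 1], [1, 1, 0, 1]),
    ([1, 1, 0], [0, 1, 1, 0], [0]),
    ([0, 1, 0, 1], [1, 0, 1], [1, 0, 1, 0, 1]),
    ([0, 1, 1, 0], [1, 1, 0], [1, 0, 1, 1, 0]),
    ([1, 0, 1, 0], [0, 1, 0, 1, 0], [1, 1, 0, 1, 0]),
    ([1, 0, 1, 1], [0, 1, 0, 1, 1], [1, 1, 0, 1, 1]),
    ([1, 1, 0, 1], [0, 1, 1, 0, 1], [0, 1]),
    ([0, 1, 0, 1, 0], [1, 0, 1, 0], [1, 0, 1, 0, 1, 0]),
    ([0, 1, 0, 1, 1], [1, 0, 1, 1], [1, 0, 1, 0, 1, 1]),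
    ([0, 1, 1, 0, 1], [1, 1, 0, 1], [1, 0, 1, 1, 0, 1]),
    ([1, 0, 1, 0, 1], [0, 1, 0, 1, 0, 1], [1, 1, 0, 1, 0, 1]),
    ([1, 0, 1, 1, 0], [0, 1, 0, 1, 1, 0], [1, 1, 0, 1, 1, 0]),
    ([1, 1, 0, 1, 0], [0, 1, 1, 0, 1, 0], [0, 1, 0]),
    ([1, 1, 0, 1, 1], [0, 1, 1, 0, 1, 1], [0, 1, 1]),
    ([0, 1, 0, 1, 0, 1], [1, 0, 1, 0, 1], [1, 0, 1, 0, 1, 0, 1]),
    ([0, 1, 0, 1, 1, 0], [1, 0, 1, 1, 0], [1, 0, 1, 0, 1, 1, 0]),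
    ([0, 1, 1, 0, 1, 0], [1, 1, 0, 1, 0], [1, 0, 1, 1, 0, 1, 0]),
    ([0, 1, 1, 0, 1, 1], [1, 1, 0, 1, 1], [1, 0, 1, 1, 0, 1, 1]),
    ([1, 0, 1, 0, 1, 0], [0, 1, 0, 1, 0, 1, 0], [1, 1, 0, 1, 0, 1, 0]),
    ([1, 0, 1, 0, 1, 1], [0, 1, 0, 1, 0, 1, 1], [1, 1, 0, 1, 0, 1, 1]),
    ([1, 0, 1, 1, 0, 1], [0, 1, 0, 1, 1, 0, 1], [1, 1, 0, 1, 1, 0, 1]),
    ([1, 1, 0, 1, 0, 1], [0, 1, 1, 0, 1, 0, 1], [0, 1, 0, 1]),
    ([1, 1, 0, 1, 1, 0], [0, 1, 1, 0, 1, 1, 0], [0, 1, 1, 0]),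
    ([0, 1, 0, 1, 0, 1, 0], [1, 0, 1, 0, 1, 0], [1, 0, 1, 0, 1, 0, 1, 0]),
    ([0, 1, 0, 1, 0, 1, 1], [1, 0, 1, 0, 1, 1], [1, 0, 1, 0, 1, 0, 1, 1]),
    ([0, 1, 0, 1, 1, 0, 1], [1, 0, 1, 1, 0, 1], [1, 0, 1, 0, 1, 1, 0, 1]),
    ([0, 1, 1, 0, 1, 0, 1], [1, 1, 0, 1, 0, 1], [1, 0, 1, 1, 0, 1, 0, 1]),
    ([0, 1, 1, 0, 1, 1, 0], [1, 1, 0, 1, 1, 0], [1, 0, 1, 1, 0, 1, 1, 0]),
    ([1, 0, 1, 0, 1, 0, 1], [0, 1, 0, 1, 0, 1, 0, 1], [1, 1, 0, 1, 0, 1, 0, 1]),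
    ([1, 0, 1, 0, 1, 1, 0], [0, 1, 0, 1, 0, 1, 1, 0], [1, 1, 0, 1, 0, 1, 1, 0]),
    ([1, 0, 1, 1, 0, 1, 0], [0, 1, 0, 1, 1, 0, 1, 0], [1, 1, 0, 1, 1, 0, 1, 0]),
    ([1, 0, 1, 1, 0, 1, 1], [0, 1, 0, 1, 1, 0, 1, 1], [1, 1, 0, 1, 1, 0, 1, 1]),
    ([1, 1, 0, 1, 0, 1, 0], [0, 1, 1, 0, 1, 0, 1, 0], [0, 1, 0, 1, 0]),
    ([1, 1, 0, 1, 0, 1, 1], [0, 1, 1, 0, 1, 0, 1, 1], [0, 1, 0, 1, 1]),
    ([1, 1, 0, 1, 1, 0, 1], [0, 1, 1, 0, 1, 1, 0, 1], [0, 1, 1, 0, 1]),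
    ([0, 1, 0, 1, 0, 1, 0, 1], [1, 0, 1, 0, 1, 0, 1], [0, 1, 1, 0, 1, 1, 0]),
    ([0, 1, 0, 1, 0, 1, 1, 0], [1, 0, 1, 0, 1, 1, 0], [1, 0, 1, 0, 1, 0, 1, 1, 0]),
    ([0, 1, 0, 1, 1, 0, 1, 0], [1, 0, 1, 1, 0, 1, 0], [1, 0, 1, 0, 1, 1, 0, 1, 0]),
    ([0, 1, 0, 1, 1, 0, 1, 1], [1, 0, 1, 1, 0, 1, 1], [1, 0, 1, 0, 1, 1, 0, 1, 1]),
    ([0, 1, 1, 0, 1, 0, 1, 0], [1, 1, 0, 1, 0, 1, 0], [1, 0, 1, 1, 0, 1, 0, 1, 0]),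
    ([0, 1, 1, 0, 1, 0, 1, 1], [1, 1, 0, 1, 0, 1, 1], [1, 0, 1, 1, 0, 1, 0, 1, 1]),
    ([0, 1, 1, 0, 1, 1, 0, 1], [1, 1, 0, 1, 1, 0, 1], [1, 0, 1, 1, 0, 1, 1, 0, 1]),
    ([1, 0, 1, 0, 1, 0, 1, 0], [1, 1, 0, 1, 1, 0, 1, 1], [1, 1, 0, 1, 0, 1, 0, 1, 0]),
    ([1, 0, 1, 0, 1, 0, 1, 1], [0, 1, 0, 1, 0, 1, 0, 1, 1], [1, 1, 0, 1, 0, 1, 0, 1, 1]),
    ([1, 0, 1, 0, 1, 1, 0, 1], [0, 1, 0, 1, 0, 1, 1, 0, 1], [1, 1, 0, 1, 0, 1, 1, 0, 1]),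
    ([1, 0, 1, 1, 0, 1, 0, 1], [0, 1, 0, 1, 1, 0, 1, 0, 1], [1, 1, 0, 1, 1, 0, 1, 0, 1]),
    ([1, 0, 1, 1, 0, 1, 1, 0], [0, 1, 0, 1, 1, 0, 1, 1, 0], [0, 1, 0, 1, 0, 1, 0, 1]),
    ([1, 1, 0, 1, 0, 1, 0, 1], [0, 1, 1, 0, 1, 0, 1, 0, 1], [0, 1, 0, 1, 0, 1]),
    ([1, 1, 0, 1, 0, 1, 1, 0], [0, 1, 1, 0, 1, 0, 1, 1, 0], [0, 1, 0, 1, 1, 0]),
    ([1, 1, 0, 1, 1, 0, 1, 0], [0, 1, 1, 0, 1, 1, 0, 1, 0], [0, 1, 1, 0, 1, 0]),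
    ([1, 1, 0, 1, 1, 0, 1, 1], [1, 0, 1, 0, 1, 0, 1, 0], [0, 1, 1, 0, 1, 1]),
    ([0, 1, 0, 1, 0, 1, 0, 1, 1], [1, 0, 1, 0, 1, 0, 1, 1], [0, 1, 1, 0, 1, 1, 0, 1]),
    ([0, 1, 0, 1, 0, 1, 1, 0, 1], [1, 0, 1, 0, 1, 1, 0, 1], [1, 0, 1, 0, 1, 0, 1, 1, 0, 1]),
    ([0, 1, 0, 1, 1, 0, 1, 0, 1], [1, 0, 1, 1, 0, 1, 0, 1], [1, 0, 1, 0, 1, 1, 0, 1, 0, 1]),
    ([0, 1, 0, 1, 1, 0, 1, 1, 0], [1, 0, 1, 1, 0, 1, 1, 0], [1, 0, 1, 0, 1, 1, 0, 1, 1, 0]),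
    ([0, 1, 1, 0, 1, 0, 1, 0, 1], [1, 1, 0, 1, 0, 1, 0, 1], [1, 0, 1, 1, 0, 1, 0, 1, 0, 1]),
    ([0, 1, 1, 0, 1, 0, 1, 1, 0], [1, 1, 0, 1, 0, 1, 1, 0], [0, 1, 0, 1, 1, 0, 1, 0, 1, 1]),
    ([0, 1, 1, 0, 1, 1, 0, 1, 0], [1, 1, 0, 1, 1, 0, 1, 0], [1, 0, 1, 1, 0, 1, 1, 0, 1, 0]),
    ([1, 0, 1, 0, 1, 0, 1, 1, 0], [0, 1, 0, 1, 0, 1, 0, 1, 1, 0], [1, 1, 0, 1, 0, 1, 0, 1, 1, 0]),
    ([1, 0, 1, 0, 1, 1, 0, 1, 0], [0, 1, 0, 1, 0, 1, 1, 0, 1, 0], [0, 1, 1, 0, 1, 0, 1, 1, 0, 1]),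
    ([1, 0, 1, 0, 1, 1, 0, 1, 1], [0, 1, 0, 1, 0, 1, 1, 0, 1, 1], [1, 1, 0, 1, 0, 1, 1, 0, 1, 1]),
    ([1, 0, 1, 1, 0, 1, 0, 1, 0], [0, 1, 0, 1, 1, 0, 1, 0, 1, 0], [1, 1, 0, 1, 1, 0, 1, 0, 1, 0]),
    ([1, 0, 1, 1, 0, 1, 0, 1, 1], [0, 1, 0, 1, 1, 0, 1, 0, 1, 1], [1, 1, 0, 1, 1, 0, 1, 0, 1, 1]),
    ([1, 0, 1, 1, 0, 1, 1, 0, 1], [0, 1, 0, 1, 1, 0, 1, 1, 0, 1], [0, 1, 0, 1, 0, 1, 0, 1, 1]),
    ([1, 1, 0, 1, 0, 1, 0, 1, 0], [0, 1, 1, 0, 1, 0, 1, 0, 1, 0], [0, 1, 0, 1, 0, 1, 0]),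
    ([1, 1, 0, 1, 0, 1, 0, 1, 1], [0, 1, 1, 0, 1, 0, 1, 0, 1, 1], [0, 1, 0, 1, 0, 1, 1]),
    ([1, 1, 0, 1, 0, 1, 1, 0, 1], [0, 1, 1, 0, 1, 0, 1, 1, 0, 1], [0, 1, 0, 1, 1, 0, 1]),
    ([1, 1, 0, 1, 1, 0, 1, 0, 1], [0, 1, 1, 0, 1, 1, 0, 1, 0, 1], [0, 1, 1, 0, 1, 0, 1]),
    ([0, 1, 0, 1, 0, 1, 0, 1, 1, 0], [1, 0, 1, 0, 1, 0, 1, 1, 0], [0, 1, 1, 0, 1, 1, 0, 1, 0]),
    ([0, 1, 0, 1, 0, 1, 1, 0, 1, 0], [1, 0, 1, 0, 1, 1, 0, 1, 0], [1, 0, 1, 0, 1, 0, 1, 1, 0, 1, 0]),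
    ([0, 1, 0, 1, 0, 1, 1, 0, 1, 1], [1, 0, 1, 0, 1, 1, 0, 1, 1], [1, 0, 1, 0, 1, 0, 1, 1, 0, 1, 1]),
    ([0, 1, 0, 1, 1, 0, 1, 0, 1, 0], [1, 0, 1, 1, 0, 1, 0, 1, 0], [1, 0, 1, 0, 1, 1, 0, 1, 0, 1, 0]),
    ([0, 1, 0, 1, 1, 0, 1, 0, 1, 1], [1, 0, 1, 1, 0, 1, 0, 1, 1], [1, 0, 1, 0, 1, 1, 0, 1, 0, 1, 1]),
    ([0, 1, 0, 1, 1, 0, 1, 1, 0, 1], [1, 0, 1, 1, 0, 1, 1, 0, 1], [1, 0, 1, 0, 1, 1, 0, 1, 1, 0, 1]),
    ([0, 1, 1, 0, 1, 0, 1, 0, 1, 0], [1, 1, 0, 1, 0, 1, 0, 1, 0], [1, 0, 1, 1, 0, 1, 0, 1, 0, 1, 0]),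
    ([0, 1, 1, 0, 1, 0, 1, 0, 1, 1], [1, 1, 0, 1, 0, 1, 0, 1, 1], [1, 0, 1, 1, 0, 1, 0, 1, 0, 1, 1]),
    ([0, 1, 1, 0, 1, 0, 1, 1, 0, 1], [1, 1, 0, 1, 0, 1, 1, 0, 1], [0, 1, 0, 1, 1, 0, 1, 0]),
    ([0, 1, 1, 0, 1, 1, 0, 1, 0, 1], [1, 1, 0, 1, 1, 0, 1, 0, 1], [1, 0, 1, 1, 0, 1, 1, 0, 1, 0, 1]),
    ([1, 0, 1, 0, 1, 0, 1, 1, 0, 1], [0, 1, 0, 1, 0, 1, 0, 1, 1, 0, 1], [1, 1, 0, 1, 0, 1, 0, 1, 1, 0, 1]),
    ([1, 0, 1, 0, 1, 1, 0, 1, 0, 1], [0, 1, 0, 1, 0, 1, 1, 0, 1, 0, 1], [0, 1, 1, 0, 1, 0, 1, 1, 0, 1, 1]),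
    ([1, 0, 1, 0, 1, 1, 0, 1, 1, 0], [0, 1, 0, 1, 0, 1, 1, 0, 1, 1, 0], [1, 1, 0, 1, 0, 1, 1, 0, 1, 1, 0]),
    ([1, 0, 1, 1, 0, 1, 0, 1, 0, 1], [0, 1, 0, 1, 1, 0, 1, 0, 1, 0, 1], [1, 1, 0, 1, 1, 0, 1, 0, 1, 0, 1]),
    ([1, 0, 1, 1, 0, 1, 1, 0, 1, 0], [0, 1, 0, 1, 1, 0, 1, 1, 0, 1, 0], [0, 1, 0, 1, 0, 1, 0, 1, 1, 0]),
    ([1, 1, 0, 1, 0, 1, 0, 1, 1, 0], [0, 1, 1, 0, 1, 0, 1, 0, 1, 1, 0], [0, 1, 0, 1, 0, 1, 1, 0]),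
    ([1, 1, 0, 1, 0, 1, 1, 0, 1, 1], [0, 1, 1, 0, 1, 0, 1, 1, 0, 1, 1], [0, 1, 0, 1, 1, 0, 1, 1]),
    ([1, 1, 0, 1, 1, 0, 1, 0, 1, 0], [0, 1, 1, 0, 1, 1, 0, 1, 0, 1, 0], [0, 1, 1, 0, 1, 0, 1, 0]),
    ([1, 1, 0, 1, 1, 0, 1, 0, 1, 1], [0, 1, 1, 0, 1, 1, 0, 1, 0, 1, 1], [0, 1, 1, 0, 1, 0, 1, 1]),
    ([0, 1, 0, 1, 0, 1, 0, 1, 1, 0, 1], [1, 0, 1, 0, 1, 0, 1, 1, 0, 1], [0, 1, 1, 0, 1, 1, 0, 1, 0, 1]),
    ([0, 1, 0, 1, 0, 1, 1, 0, 1, 0, 1], [1, 0, 1, 0, 1, 1, 0, 1, 0, 1], [1, 0, 1, 0, 1, 0, 1, 1, 0, 1, 0, 1]),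
    ([0, 1, 0, 1, 0, 1, 1, 0, 1, 1, 0], [1, 0, 1, 0, 1, 1, 0, 1, 1, 0], [1, 0, 1, 0, 1, 0, 1, 1, 0, 1, 1, 0]),
    ([0, 1, 0, 1, 1, 0, 1, 0, 1, 0, 1], [1, 0, 1, 1, 0, 1, 0, 1, 0, 1], [1, 0, 1, 0, 1, 1, 0, 1, 0, 1, 0, 1]),
    ([0, 1, 0, 1, 1, 0, 1, 1, 0, 1, 0], [1, 0, 1, 1, 0, 1, 1, 0, 1, 0], [1, 0, 1, 0, 1, 1, 0, 1, 1, 0, 1, 0]),
    ([0, 1, 1, 0, 1, 0, 1, 0, 1, 1, 0], [1, 1, 0, 1, 0, 1, 0, 1, 1, 0], [1, 0, 1, 1, 0, 1, 0, 1, 0, 1, 1, 0]),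
    ([0, 1, 1, 0, 1, 0, 1, 1, 0, 1, 1], [1, 1, 0, 1, 0, 1, 1, 0, 1, 1], [0, 1, 0, 1, 1, 0, 1, 0, 1]),
    ([0, 1, 1, 0, 1, 1, 0, 1, 0, 1, 0], [1, 1, 0, 1, 1, 0, 1, 0, 1, 0], [1, 0, 1, 1, 0, 1, 1, 0, 1, 0, 1, 0]),
    ([0, 1, 1, 0, 1, 1, 0, 1, 0, 1, 1], [1, 1, 0, 1, 1, 0, 1, 0, 1, 1], [1, 0, 1, 1, 0, 1, 1, 0, 1, 0, 1, 1]),
    ([1, 0, 1, 0, 1, 0, 1, 1, 0, 1, 0], [0, 1, 0, 1, 0, 1, 0, 1, 1, 0, 1, 0], [1, 1, 0, 1, 0, 1, 0, 1, 1, 0, 1, 0]),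
    ([1, 0, 1, 0, 1, 0, 1, 1, 0, 1, 1], [0, 1, 0, 1, 0, 1, 0, 1, 1, 0, 1, 1], [1, 1, 0, 1, 0, 1, 0, 1, 1, 0, 1, 1]),
    ([1, 0, 1, 0, 1, 1, 0, 1, 0, 1, 0], [0, 1, 0, 1, 0, 1, 1, 0, 1, 0, 1, 0], [0, 1, 1, 0, 1, 0, 1, 1, 0, 1, 1, 0]),
    ([1, 0, 1, 0, 1, 1, 0, 1, 0, 1, 1], [0, 1, 0, 1, 0, 1, 1, 0, 1, 0, 1, 1], [0, 1, 1, 0, 1, 0, 1, 1, 0]),
    ([1, 0, 1, 0, 1, 1, 0, 1, 1, 0, 1], [0, 1, 0, 1, 0, 1, 1, 0, 1, 1, 0, 1], [1, 1, 0, 1, 0, 1, 1, 0, 1, 1, 0, 1]),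
    ([1, 0, 1, 1, 0, 1, 0, 1, 0, 1, 0], [0, 1, 0, 1, 1, 0, 1, 0, 1, 0, 1, 0], [1, 1, 0, 1, 1, 0, 1, 0, 1, 0, 1, 0]),
    ([1, 0, 1, 1, 0, 1, 0, 1, 0, 1, 1], [0, 1, 0, 1, 1, 0, 1, 0, 1, 0, 1, 1], [1, 1, 0, 1, 1, 0, 1, 0, 1, 0, 1, 1]),
    ([1, 0, 1, 1, 0, 1, 1, 0, 1, 0, 1], [0, 1, 0, 1, 1, 0, 1, 1, 0, 1, 0, 1], [0, 1, 0, 1, 0, 1, 0, 1, 1, 0, 1]),
    ([1, 1, 0, 1, 0, 1, 0, 1, 1, 0, 1], [0, 1, 1, 0, 1, 0, 1, 0, 1, 1, 0, 1], [0, 1, 0, 1, 0, 1, 1, 0, 1]),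
    ([1, 1, 0, 1, 0, 1, 1, 0, 1, 1, 0], [0, 1, 1, 0, 1, 0, 1, 1, 0, 1, 1, 0], [0, 1, 0, 1, 1, 0, 1, 1, 0]),
    ([1, 1, 0, 1, 1, 0, 1, 0, 1, 0, 1], [0, 1, 1, 0, 1, 1, 0, 1, 0, 1, 0, 1], [0, 1, 1, 0, 1, 0, 1, 0, 1]),
    ([0, 1, 0, 1, 0, 1, 0, 1, 1, 0, 1, 0], [1, 0, 1, 0, 1, 0, 1, 1, 0, 1, 0], [0, 1, 1, 0, 1, 1, 0, 1, 0, 1, 0]),
    ([0, 1, 0, 1, 0, 1, 0, 1, 1, 0, 1, 1], [1, 0, 1, 0, 1, 0, 1, 1, 0, 1, 1], [0, 1, 1, 0, 1, 1, 0, 1, 0, 1, 1]),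
    ([0, 1, 0, 1, 0, 1, 1, 0, 1, 0, 1, 0], [1, 0, 1, 0, 1, 1, 0, 1, 0, 1, 0], [1, 0, 1, 0, 1, 0, 1, 1, 0, 1, 0, 1, 0]),
    ([0, 1, 0, 1, 0, 1, 1, 0, 1, 0, 1, 1], [1, 0, 1, 0, 1, 1, 0, 1, 0, 1, 1], [1, 0, 1, 0, 1, 0, 1, 1, 0, 1, 0, 1, 1]),
    ([0, 1, 0, 1, 0, 1, 1, 0, 1, 1, 0, 1], [1, 0, 1, 0, 1, 1, 0, 1, 1, 0, 1], [0, 1, 1, 0, 1, 0, 1, 0, 1, 1, 0, 1, 0]),
    ([0, 1, 0, 1, 1, 0, 1, 0, 1, 0, 1, 0], [1, 0, 1, 1, 0, 1, 0, 1, 0, 1, 0], [1, 0, 1, 0, 1, 1, 0, 1, 0, 1, 0, 1, 0]),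
    ([0, 1, 0, 1, 1, 0, 1, 0, 1, 0, 1, 1], [1, 0, 1, 1, 0, 1, 0, 1, 0, 1, 1], [1, 0, 1, 0, 1, 1, 0, 1, 0, 1, 0, 1, 1]),
    ([0, 1, 0, 1, 1, 0, 1, 1, 0, 1, 0, 1], [1, 0, 1, 1, 0, 1, 1, 0, 1, 0, 1], [1, 0, 1, 0, 1, 1, 0, 1, 1, 0, 1, 0, 1]),
    ([0, 1, 1, 0, 1, 0, 1, 0, 1, 1, 0, 1], [1, 1, 0, 1, 0, 1, 0, 1, 1, 0, 1], [1, 0, 1, 1, 0, 1, 0, 1, 0, 1, 1, 0, 1]),
    ([0, 1, 1, 0, 1, 0, 1, 1, 0, 1, 1, 0], [1, 1, 0, 1, 0, 1, 1, 0, 1, 1, 0], [0, 1, 0, 1, 1, 0, 1, 0, 1, 0]),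
    ([0, 1, 1, 0, 1, 1, 0, 1, 0, 1, 0, 1], [1, 1, 0, 1, 1, 0, 1, 0, 1, 0, 1], [0, 1, 0, 1, 1, 0, 1, 0, 1, 0, 1, 1, 0]),
    ([1, 0, 1, 0, 1, 0, 1, 1, 0, 1, 0, 1], [0, 1, 0, 1, 0, 1, 0, 1, 1, 0, 1, 0, 1], [1, 1, 0, 1, 0, 1, 0, 1, 1, 0, 1, 0, 1]),
    ([1, 0, 1, 0, 1, 0, 1, 1, 0, 1, 1, 0], [0, 1, 0, 1, 0, 1, 0, 1, 1, 0, 1, 1, 0], [1, 1, 0, 1, 0, 1, 0, 1, 1, 0, 1, 1, 0]),
    ([1, 0, 1, 0, 1, 1, 0, 1, 0, 1, 0, 1], [0, 1, 0, 1, 0, 1, 1, 0, 1, 0, 1, 0, 1], [0, 1, 1, 0, 1, 0, 1, 1, 0, 1, 1, 0, 1]),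
    ([1, 0, 1, 0, 1, 1, 0, 1, 1, 0, 1, 0], [0, 1, 0, 1, 0, 1, 1, 0, 1, 1, 0, 1, 0], [1, 1, 0, 1, 0, 1, 1, 0, 1, 1, 0, 1, 0]),
    ([1, 0, 1, 1, 0, 1, 0, 1, 0, 1, 1, 0], [0, 1, 0, 1, 1, 0, 1, 0, 1, 0, 1, 1, 0], [1, 1, 0, 1, 1, 0, 1, 0, 1, 0, 1, 1, 0]),
    ([1, 0, 1, 1, 0, 1, 1, 0, 1, 0, 1, 0], [0, 1, 0, 1, 1, 0, 1, 1, 0, 1, 0, 1, 0], [0, 1, 0, 1, 0, 1, 0, 1, 1, 0, 1, 0]),
    ([1, 0, 1, 1, 0, 1, 1, 0, 1, 0, 1, 1], [0, 1, 0, 1, 1, 0, 1, 1, 0, 1, 0, 1, 1], [0, 1, 0, 1, 0, 1, 0, 1, 1, 0, 1, 1]),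
    ([1, 1, 0, 1, 0, 1, 0, 1, 1, 0, 1, 0], [0, 1, 1, 0, 1, 0, 1, 0, 1, 1, 0, 1, 0], [0, 1, 0, 1, 0, 1, 1, 0, 1, 0]),
    ([1, 1, 0, 1, 0, 1, 0, 1, 1, 0, 1, 1], [0, 1, 1, 0, 1, 0, 1, 0, 1, 1, 0, 1, 1], [0, 1, 0, 1, 0, 1, 1, 0, 1, 1]),
    ([1, 1, 0, 1, 0, 1, 1, 0, 1, 1, 0, 1], [0, 1, 1, 0, 1, 0, 1, 1, 0, 1, 1, 0, 1], [0, 1, 0, 1, 1, 0, 1, 1, 0, 1]),
    ([1, 1, 0, 1, 1, 0, 1, 0, 1, 0, 1, 0], [0, 1, 1, 0, 1, 1, 0, 1, 0, 1, 0, 1, 0], [0, 1, 1, 0, 1, 0, 1, 0, 1, 0]),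
    ([1, 1, 0, 1, 1, 0, 1, 0, 1, 0, 1, 1], [0, 1, 1, 0, 1, 1, 0, 1, 0, 1, 0, 1, 1], [0, 1, 1, 0, 1, 0, 1, 0, 1, 1]),
    ([0, 1, 0, 1, 0, 1, 0, 1, 1, 0, 1, 0, 1], [1, 0, 1, 0, 1, 0, 1, 1, 0, 1, 0, 1], [0, 1, 1, 0, 1, 1, 0, 1, 0, 1, 0, 1]),
    ([0, 1, 0, 1, 0, 1, 0, 1, 1, 0, 1, 1, 0], [1, 0, 1, 0, 1, 0, 1, 1, 0, 1, 1, 0], [0, 1, 0, 1, 0, 1, 1, 0, 1, 0, 1, 1]),
    ([0, 1, 0, 1, 0, 1, 1, 0, 1, 0, 1, 0, 1], [1, 0, 1, 0, 1, 1, 0, 1, 0, 1, 0, 1], [0, 1, 0, 1, 0, 1, 1, 0, 1, 0, 1, 0]),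
    ([0, 1, 0, 1, 0, 1, 1, 0, 1, 1, 0, 1, 0], [1, 0, 1, 0, 1, 1, 0, 1, 1, 0, 1, 0], [0, 1, 1, 0, 1, 0, 1, 0, 1, 1, 0, 1]),
    ([0, 1, 0, 1, 1, 0, 1, 0, 1, 0, 1, 1, 0], [1, 0, 1, 1, 0, 1, 0, 1, 0, 1, 1, 0], [0, 1, 0, 1, 0, 1, 0, 1, 1, 0, 1, 0, 1]),
    ([0, 1, 0, 1, 1, 0, 1, 1, 0, 1, 0, 1, 0], [1, 0, 1, 1, 0, 1, 1, 0, 1, 0, 1, 0], [0, 1, 0, 1, 0, 1, 1, 0, 1, 1, 0, 1, 0, 1]),
    ([0, 1, 0, 1, 1, 0, 1, 1, 0, 1, 0, 1, 1], [1, 0, 1, 1, 0, 1, 1, 0, 1, 0, 1, 1], [0, 1, 1, 0, 1, 1, 0, 1, 0, 1, 0, 1, 1, 0]),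
    ([0, 1, 1, 0, 1, 0, 1, 0, 1, 1, 0, 1, 0], [1, 1, 0, 1, 0, 1, 0, 1, 1, 0, 1, 0], [1, 0, 1, 1, 0, 1, 0, 1, 0, 1, 1, 0, 1, 0]),
    ([0, 1, 1, 0, 1, 0, 1, 0, 1, 1, 0, 1, 1], [1, 1, 0, 1, 0, 1, 0, 1, 1, 0, 1, 1], [0, 1, 0, 1, 1, 0, 1, 1, 0, 1, 0, 1, 0]),
    ([0, 1, 1, 0, 1, 0, 1, 1, 0, 1, 1, 0, 1], [1, 1, 0, 1, 0, 1, 1, 0, 1, 1, 0, 1], [0, 1, 0, 1, 1, 0, 1, 0, 1, 0, 1]),
    ([0, 1, 1, 0, 1, 1, 0, 1, 0, 1, 0, 1, 0], [1, 1, 0, 1, 1, 0, 1, 0, 1, 0, 1, 0], [0, 1, 0, 1, 1, 0, 1, 0, 1, 0, 1, 1]),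
    ([0, 1, 1, 0, 1, 1, 0, 1, 0, 1, 0, 1, 1], [1, 1, 0, 1, 1, 0, 1, 0, 1, 0, 1, 1], [0, 1, 0, 1, 1, 0, 1, 0, 1, 0, 1, 1, 0, 1]),
    ([1, 0, 1, 0, 1, 0, 1, 1, 0, 1, 0, 1, 0], [1, 0, 1, 0, 1, 1, 0, 1, 0, 1, 0, 1, 1], [0, 1, 0, 1, 0, 1, 1, 0, 1, 0, 1, 0, 1]),
    ([1, 0, 1, 0, 1, 0, 1, 1, 0, 1, 0, 1, 1], [0, 1, 0, 1, 0, 1, 0, 1, 1, 0, 1, 0, 1, 1], [0, 1, 0, 1, 0, 1, 0, 1, 1, 0, 1, 1, 0]),
    ([1, 0, 1, 0, 1, 1, 0, 1, 0, 1, 0, 1, 0], [1, 1, 0, 1, 0, 1, 0, 1, 1, 0, 1, 0, 1], [0, 1, 1, 0, 1, 0, 1, 1, 0, 1, 1, 0, 1, 0]),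
    ([1, 0, 1, 0, 1, 1, 0, 1, 0, 1, 0, 1, 1], [1, 0, 1, 0, 1, 0, 1, 1, 0, 1, 0, 1, 0], [0, 1, 1, 0, 1, 1, 0, 1, 0, 1, 0, 1, 0]),
    ([1, 0, 1, 0, 1, 1, 0, 1, 1, 0, 1, 0, 1], [0, 1, 0, 1, 0, 1, 1, 0, 1, 1, 0, 1, 0, 1], [0, 1, 1, 0, 1, 0, 1, 0, 1, 1, 0, 1, 1, 0]),
    ([1, 0, 1, 1, 0, 1, 0, 1, 0, 1, 1, 0, 1], [0, 1, 0, 1, 1, 0, 1, 0, 1, 0, 1, 1, 0, 1], [0, 1, 0, 1, 0, 1, 1, 0, 1, 1, 0, 1, 0]),
    ([1, 1, 0, 1, 0, 1, 0, 1, 1, 0, 1, 0, 1], [1, 0, 1, 0, 1, 1, 0, 1, 0, 1, 0, 1, 0], [0, 1, 0, 1, 0, 1, 1, 0, 1, 0, 1]),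
    ([1, 1, 0, 1, 0, 1, 0, 1, 1, 0, 1, 1, 0], [0, 1, 1, 0, 1, 0, 1, 0, 1, 1, 0, 1, 1, 0], [0, 1, 0, 1, 0, 1, 1, 0, 1, 1, 0]),
    ([1, 1, 0, 1, 0, 1, 1, 0, 1, 1, 0, 1, 0], [0, 1, 1, 0, 1, 0, 1, 1, 0, 1, 1, 0, 1, 0], [0, 1, 0, 1, 1, 0, 1, 1, 0, 1, 0]),
    ([1, 1, 0, 1, 1, 0, 1, 0, 1, 0, 1, 1, 0], [0, 1, 1, 0, 1, 1, 0, 1, 0, 1, 0, 1, 1, 0], [0, 1, 1, 0, 1, 0, 1, 0, 1, 1, 0]),
    ([0, 1, 0, 1, 0, 1, 0, 1, 1, 0, 1, 0, 1, 1], [1, 0, 1, 0, 1, 0, 1, 1, 0, 1, 0, 1, 1], [0, 1, 1, 0, 1, 1, 0, 1, 0, 1, 0, 1, 1]),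
    ([0, 1, 0, 1, 0, 1, 1, 0, 1, 1, 0, 1, 0, 1], [1, 0, 1, 0, 1, 1, 0, 1, 1, 0, 1, 0, 1], [0, 1, 1, 0, 1, 0, 1, 0, 1, 1, 0, 1, 1]),
    ([0, 1, 0, 1, 1, 0, 1, 0, 1, 0, 1, 1, 0, 1], [1, 0, 1, 1, 0, 1, 0, 1, 0, 1, 1, 0, 1], [0, 1, 0, 1, 0, 1, 0, 1, 1, 0, 1, 0, 1, 1]),
    ([0, 1, 1, 0, 1, 0, 1, 0, 1, 1, 0, 1, 1, 0], [1, 1, 0, 1, 0, 1, 0, 1, 1, 0, 1, 1, 0], [0, 1, 0, 1, 1, 0, 1, 1, 0, 1, 0, 1]),
    ([0, 1, 1, 0, 1, 0, 1, 1, 0, 1, 1, 0, 1, 0], [1, 1, 0, 1, 0, 1, 1, 0, 1, 1, 0, 1, 0], [0, 1, 0, 1, 1, 0, 1, 0, 1, 0, 1, 0]),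
    ([0, 1, 1, 0, 1, 1, 0, 1, 0, 1, 0, 1, 1, 0], [1, 1, 0, 1, 1, 0, 1, 0, 1, 0, 1, 1, 0], [0, 1, 0, 1, 1, 0, 1, 0, 1, 0, 1, 1, 0, 1, 0]),
    ([1, 0, 1, 1, 0, 1, 0, 1, 0, 1, 1, 0, 1, 0], [0, 1, 0, 1, 1, 0, 1, 0, 1, 0, 1, 1, 0, 1, 0], [0, 1, 0, 1, 0, 1, 1, 0, 1, 1, 0, 1]),
    ([0, 1, 0, 1, 1, 0, 1, 0, 1, 0, 1, 1, 0, 1, 0], [1, 0, 1, 1, 0, 1, 0, 1, 0, 1, 1, 0, 1, 0], [0, 1, 0, 1, 1, 0, 1, 1, 0, 1, 0, 1, 1])]

theorem tbl_length : tbl.length = 168 := rfl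

theorem tbl_closed : ∀ e ∈ tbl, (∃ e' ∈ tbl, e'.1 = e.2.1) ∧ (∃ e' ∈ tbl, e'.1 = e.2.2) := by
  decide

theorem tbl_step (X Y : H) (e1 : ∀ t : H, X * (X * t) = t) (e2 : ∀ t : H, Y * (Y * (Y * t)) = t) (e3 : ∀ t : H, X * (Y * (X * (Y * (X * (Y * (X * (Y * (X * (Y * (X * (Y * (X * (Y * t))))))))))))) = t) (e4 : ∀ t : H, X * (Y * (X * (Y * (Y * (X * (Y * (X * (Y * (Y * (X * (Y * (X * (Y * (Y * (X * (Y * (X * (Y * (Y * t))))))))))))))))))) = t) :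
    ∀ e ∈ tbl, X * ev X Y e.1 = ev X Y (e.2.1) ∧ Y * ev X Y e.1 = ev X Y (e.2.2) := by
  have r0 : ∀ t : H, X * (X * t) = t := by
    intro t
    have hp := e1 t
    have hu : X * (X * t) = X * (X * t) := rfl
    have hv : t = t := rfl
    exact hu.symm.trans (hp.trans hv)
  have r1 : ∀ t : H, Y * (Y * (Y * t)) = t := by
    intro t
    have hp := e2 t
    have hu : Y * (Y * (Y * t)) = Y * (Y * (Y * t)) := rfl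
    have hv : t = t := rfl
    exact hu.symm.trans (hp.trans hv)
  have r2 : ∀ t : H, X * (Y * (X * (Y * (X * (Y * (X * (Y * (X * (Y * (X * (Y * (X * (Y * t))))))))))))) = t := by
    intro t
    have hp := e3 t
    have hu : X * (Y * (X * (Y * (X * (Y * (X * (Y * (X * (Y * (X * (Y * (X * (Y * t))))))))))))) = X * (Y * (X * (Y * (X * (Y * (X * (Y * (X * (Y * (X * (Y * (X * (Y * t))))))))))))) := rfl
    have hv : t = t := rfl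
    exact hu.symm.trans (hp.trans hv)
  have r3 : ∀ t : H, X * (Y * (X * (Y * (Y * (X * (Y * (X * (Y * (Y * (X * (Y * (X * (Y * (Y * (X * (Y * (X * (Y * (Y * t))))))))))))))))))) = t := by
    intro t
    have hp := e4 t
    have hu : X * (Y * (X * (Y * (Y * (X * (Y * (X * (Y * (Y * (X * (Y * (X * (Y * (Y * (X * (Y * (X * (Y * (Y * t))))))))))))))))))) = X * (Y * (X * (Y * (Y * (X * (Y * (X * (Y * (Y * (X * (Y * (X * (Y * (Y * (X * (Y * (X * (Y * (Y * t))))))))))))))))))) := rfl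
    have hv : t = t := rfl
    exact hu.symm.trans (hp.trans hv)
  have r4 : ∀ t : H, Y * (X * (Y * (X * (Y * (X * (Y * (X * (Y * (X * (Y * (X * (Y * t)))))))))))) = X * t := by
    intro t
    have hp1 : X * (X * (Y * (X * (Y * (X * (Y * (X * (Y * (X * (Y * (X * (Y * (X * (Y * t)))))))))))))) = Y * (X * (Y * (X * (Y * (X * (Y * (X * (Y * (X * (Y * (X * (Y * t)))))))))))) := by
      rw [r0 (Y * (X * (Y * (X * (Y * (X * (Y * (X * (Y * (X * (Y * (X * (Y * t)))))))))))))]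
    have hp2 : X * (X * (Y * (X * (Y * (X * (Y * (X * (Y * (X * (Y * (X * (Y * (X * (Y * t)))))))))))))) = X * t := by
      rw [r2 t]
    have hp := hp1.symm.trans hp2
    have hu : Y * (X * (Y * (X * (Y * (X * (Y * (X * (Y * (X * (Y * (X * (Y * t)))))))))))) = Y * (X * (Y * (X * (Y * (X * (Y * (X * (Y * (X * (Y * (X * (Y * t)))))))))))) := rfl
    have hv : X * t = X * t := rfl
    exact hu.symm.trans (hp.trans hv)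
  have r5 : ∀ t : H, Y * (X * (Y * (Y * (X * (Y * (X * (Y * (Y * (X * (Y * (X * (Y * (Y * (X * (Y * (X * (Y * (Y * t)))))))))))))))))) = X * t := by
    intro t
    have hp1 : X * (X * (Y * (X * (Y * (Y * (X * (Y * (X * (Y * (Y * (X * (Y * (X * (Y * (Y * (X * (Y * (X * (Y * (Y * t)))))))))))))))))))) = Y * (X * (Y * (Y * (X * (Y * (X * (Y * (Y * (X * (Y * (X * (Y * (Y * (X * (Y * (X * (Y * (Y * t)))))))))))))))))) := by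
      rw [r0 (Y * (X * (Y * (Y * (X * (Y * (X * (Y * (Y * (X * (Y * (X * (Y * (Y * (X * (Y * (X * (Y * (Y * t)))))))))))))))))))]
    have hp2 : X * (X * (Y * (X * (Y * (Y * (X * (Y * (X * (Y * (Y * (X * (Y * (X * (Y * (Y * (X * (Y * (X * (Y * (Y * t)))))))))))))))))))) = X * t := by
      rw [r3 t]
    have hp := hp1.symm.trans hp2
    have hu : Y * (X * (Y * (Y * (X * (Y * (X * (Y * (Y * (X * (Y * (X * (Y * (Y * (X * (Y * (X * (Y * (Y * t)))))))))))))))))) = Y * (X * (Y * (Y * (X * (Y * (X * (Y * (Y * (X * (Y * (X * (Y * (Y * (X * (Y * (X * (Y * (Y * t)))))))))))))))))) := rfl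
    have hv : X * t = X * t := rfl
    exact hu.symm.trans (hp.trans hv)
  have r6 : ∀ t : H, X * (Y * (X * (Y * (X * (Y * (X * (Y * (X * (Y * (X * (Y * t))))))))))) = Y * (Y * (X * t)) := by
    intro t
    have hp1 : Y * (Y * (Y * (X * (Y * (X * (Y * (X * (Y * (X * (Y * (X * (Y * (X * (Y * t)))))))))))))) = X * (Y * (X * (Y * (X * (Y * (X * (Y * (X * (Y * (X * (Y * t))))))))))) := by
      rw [r1 (X * (Y * (X * (Y * (X * (Y * (X * (Y * (X * (Y * (X * (Y * t))))))))))))]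
    have hp2 : Y * (Y * (Y * (X * (Y * (X * (Y * (X * (Y * (X * (Y * (X * (Y * (X * (Y * t)))))))))))))) = Y * (Y * (X * t)) := by
      rw [r4 t]
    have hp := hp1.symm.trans hp2
    have hu : X * (Y * (X * (Y * (X * (Y * (X * (Y * (X * (Y * (X * (Y * t))))))))))) = X * (Y * (X * (Y * (X * (Y * (X * (Y * (X * (Y * (X * (Y * t))))))))))) := rfl
    have hv : Y * (Y * (X * t)) = Y * (Y * (X * t)) := rfl
    exact hu.symm.trans (hp.trans hv)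
  have r7 : ∀ t : H, Y * (X * (Y * (X * (Y * (X * (Y * (X * (Y * (X * (Y * t)))))))))) = X * (Y * (Y * (X * t))) := by
    intro t
    have hp1 : X * (X * (Y * (X * (Y * (X * (Y * (X * (Y * (X * (Y * (X * (Y * t)))))))))))) = Y * (X * (Y * (X * (Y * (X * (Y * (X * (Y * (X * (Y * t)))))))))) := by
      rw [r0 (Y * (X * (Y * (X * (Y * (X * (Y * (X * (Y * (X * (Y * t)))))))))))]
    have hp2 : X * (X * (Y * (X * (Y * (X * (Y * (X * (Y * (X * (Y * (X * (Y * t)))))))))))) = X * (Y * (Y * (X * t))) := by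
      rw [r6 t]
    have hp := hp1.symm.trans hp2
    have hu : Y * (X * (Y * (X * (Y * (X * (Y * (X * (Y * (X * (Y * t)))))))))) = Y * (X * (Y * (X * (Y * (X * (Y * (X * (Y * (X * (Y * t)))))))))) := rfl
    have hv : X * (Y * (Y * (X * t))) = X * (Y * (Y * (X * t))) := rfl
    exact hu.symm.trans (hp.trans hv)
  have r8 : ∀ t : H, X * (Y * (Y * (X * (Y * (X * (Y * (Y * (X * (Y * (X * (Y * (Y * (X * (Y * (X * (Y * (Y * t))))))))))))))))) = Y * (Y * (X * t)) := by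
    intro t
    have hp1 : Y * (Y * (Y * (X * (Y * (Y * (X * (Y * (X * (Y * (Y * (X * (Y * (X * (Y * (Y * (X * (Y * (X * (Y * (Y * t)))))))))))))))))))) = X * (Y * (Y * (X * (Y * (X * (Y * (Y * (X * (Y * (X * (Y * (Y * (X * (Y * (X * (Y * (Y * t))))))))))))))))) := by
      rw [r1 (X * (Y * (Y * (X * (Y * (X * (Y * (Y * (X * (Y * (X * (Y * (Y * (X * (Y * (X * (Y * (Y * t))))))))))))))))))]
    have hp2 : Y * (Y * (Y * (X * (Y * (Y * (X * (Y * (X * (Y * (Y * (X * (Y * (X * (Y * (Y * (X * (Y * (X * (Y * (Y * t)))))))))))))))))))) = Y * (Y * (X * t)) := by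
      rw [r5 t]
    have hp := hp1.symm.trans hp2
    have hu : X * (Y * (Y * (X * (Y * (X * (Y * (Y * (X * (Y * (X * (Y * (Y * (X * (Y * (X * (Y * (Y * t))))))))))))))))) = X * (Y * (Y * (X * (Y * (X * (Y * (Y * (X * (Y * (X * (Y * (Y * (X * (Y * (X * (Y * (Y * t))))))))))))))))) := rfl
    have hv : Y * (Y * (X * t)) = Y * (Y * (X * t)) := rfl
    exact hu.symm.trans (hp.trans hv)
  have r9 : ∀ t : H, Y * (Y * (X * (Y * (X * (Y * (Y * (X * (Y * (X * (Y * (Y * (X * (Y * (X * (Y * (Y * t)))))))))))))))) = X * (Y * (Y * (X * t))) := by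
    intro t
    have hp1 : X * (X * (Y * (Y * (X * (Y * (X * (Y * (Y * (X * (Y * (X * (Y * (Y * (X * (Y * (X * (Y * (Y * t)))))))))))))))))) = Y * (Y * (X * (Y * (X * (Y * (Y * (X * (Y * (X * (Y * (Y * (X * (Y * (X * (Y * (Y * t)))))))))))))))) := by
      rw [r0 (Y * (Y * (X * (Y * (X * (Y * (Y * (X * (Y * (X * (Y * (Y * (X * (Y * (X * (Y * (Y * t)))))))))))))))))]
    have hp2 : X * (X * (Y * (Y * (X * (Y * (X * (Y * (Y * (X * (Y * (X * (Y * (Y * (X * (Y * (X * (Y * (Y * t)))))))))))))))))) = X * (Y * (Y * (X * t))) := by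
      rw [r8 t]
    have hp := hp1.symm.trans hp2
    have hu : Y * (Y * (X * (Y * (X * (Y * (Y * (X * (Y * (X * (Y * (Y * (X * (Y * (X * (Y * (Y * t)))))))))))))))) = Y * (Y * (X * (Y * (X * (Y * (Y * (X * (Y * (X * (Y * (Y * (X * (Y * (X * (Y * (Y * t)))))))))))))))) := rfl
    have hv : X * (Y * (Y * (X * t))) = X * (Y * (Y * (X * t))) := rfl
    exact hu.symm.trans (hp.trans hv)
  have r10 : ∀ t : H, X * (Y * (X * (Y * (X * (Y * (X * (Y * (X * (Y * t))))))))) = Y * (Y * (X * (Y * (Y * (X * t))))) := by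
    intro t
    have hp1 : Y * (Y * (Y * (X * (Y * (X * (Y * (X * (Y * (X * (Y * (X * (Y * t)))))))))))) = X * (Y * (X * (Y * (X * (Y * (X * (Y * (X * (Y * t))))))))) := by
      rw [r1 (X * (Y * (X * (Y * (X * (Y * (X * (Y * (X * (Y * t))))))))))]
    have hp2 : Y * (Y * (Y * (X * (Y * (X * (Y * (X * (Y * (X * (Y * (X * (Y * t)))))))))))) = Y * (Y * (X * (Y * (Y * (X * t))))) := by
      rw [r7 t]
    have hp := hp1.symm.trans hp2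
    have hu : X * (Y * (X * (Y * (X * (Y * (X * (Y * (X * (Y * t))))))))) = X * (Y * (X * (Y * (X * (Y * (X * (Y * (X * (Y * t))))))))) := rfl
    have hv : Y * (Y * (X * (Y * (Y * (X * t))))) = Y * (Y * (X * (Y * (Y * (X * t))))) := rfl
    exact hu.symm.trans (hp.trans hv)
  have r11 : ∀ t : H, Y * (X * (Y * (X * (Y * (X * (Y * (X * (Y * t)))))))) = X * (Y * (Y * (X * (Y * (Y * (X * t)))))) := by
    intro t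
    have hp1 : X * (X * (Y * (X * (Y * (X * (Y * (X * (Y * (X * (Y * t)))))))))) = Y * (X * (Y * (X * (Y * (X * (Y * (X * (Y * t)))))))) := by
      rw [r0 (Y * (X * (Y * (X * (Y * (X * (Y * (X * (Y * t)))))))))]
    have hp2 : X * (X * (Y * (X * (Y * (X * (Y * (X * (Y * (X * (Y * t)))))))))) = X * (Y * (Y * (X * (Y * (Y * (X * t)))))) := by
      rw [r10 t]
    have hp := hp1.symm.trans hp2
    have hu : Y * (X * (Y * (X * (Y * (X * (Y * (X * (Y * t)))))))) = Y * (X * (Y * (X * (Y * (X * (Y * (X * (Y * t)))))))) := rfl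
    have hv : X * (Y * (Y * (X * (Y * (Y * (X * t)))))) = X * (Y * (Y * (X * (Y * (Y * (X * t)))))) := rfl
    exact hu.symm.trans (hp.trans hv)
  have r12 : ∀ t : H, Y * (X * (Y * (X * (Y * (Y * (X * (Y * (X * (Y * (Y * (X * (Y * (X * (Y * (Y * t))))))))))))))) = Y * (Y * (X * (Y * (Y * (X * t))))) := by
    intro t
    have hp1 : Y * (Y * (Y * (Y * (X * (Y * (X * (Y * (Y * (X * (Y * (X * (Y * (Y * (X * (Y * (X * (Y * (Y * t)))))))))))))))))) = Y * (X * (Y * (X * (Y * (Y * (X * (Y * (X * (Y * (Y * (X * (Y * (X * (Y * (Y * t))))))))))))))) := by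
      rw [r1 (Y * (X * (Y * (X * (Y * (Y * (X * (Y * (X * (Y * (Y * (X * (Y * (X * (Y * (Y * t))))))))))))))))]
    have hp2 : Y * (Y * (Y * (Y * (X * (Y * (X * (Y * (Y * (X * (Y * (X * (Y * (Y * (X * (Y * (X * (Y * (Y * t)))))))))))))))))) = Y * (Y * (X * (Y * (Y * (X * t))))) := by
      rw [r9 t]
    have hp := hp1.symm.trans hp2
    have hu : Y * (X * (Y * (X * (Y * (Y * (X * (Y * (X * (Y * (Y * (X * (Y * (X * (Y * (Y * t))))))))))))))) = Y * (X * (Y * (X * (Y * (Y * (X * (Y * (X * (Y * (Y * (X * (Y * (X * (Y * (Y * t))))))))))))))) := rfl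
    have hv : Y * (Y * (X * (Y * (Y * (X * t))))) = Y * (Y * (X * (Y * (Y * (X * t))))) := rfl
    exact hu.symm.trans (hp.trans hv)
  have r13 : ∀ t : H, X * (Y * (X * (Y * (Y * (X * (Y * (X * (Y * (Y * (X * (Y * (X * (Y * (Y * t)))))))))))))) = Y * (X * (Y * (Y * (X * t)))) := by
    intro t
    have hp1 : Y * (Y * (Y * (X * (Y * (X * (Y * (Y * (X * (Y * (X * (Y * (Y * (X * (Y * (X * (Y * (Y * t))))))))))))))))) = X * (Y * (X * (Y * (Y * (X * (Y * (X * (Y * (Y * (X * (Y * (X * (Y * (Y * t)))))))))))))) := by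
      rw [r1 (X * (Y * (X * (Y * (Y * (X * (Y * (X * (Y * (Y * (X * (Y * (X * (Y * (Y * t)))))))))))))))]
    have hp2 : Y * (Y * (Y * (X * (Y * (X * (Y * (Y * (X * (Y * (X * (Y * (Y * (X * (Y * (X * (Y * (Y * t))))))))))))))))) = Y * (X * (Y * (Y * (X * t)))) := by
      rw [r9 t]
    have hp := hp1.symm.trans hp2
    have hu : X * (Y * (X * (Y * (Y * (X * (Y * (X * (Y * (Y * (X * (Y * (X * (Y * (Y * t)))))))))))))) = X * (Y * (X * (Y * (Y * (X * (Y * (X * (Y * (Y * (X * (Y * (X * (Y * (Y * t)))))))))))))) := rfl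
    have hv : Y * (X * (Y * (Y * (X * t)))) = Y * (X * (Y * (Y * (X * t)))) := rfl
    exact hu.symm.trans (hp.trans hv)
  have r14 : ∀ t : H, Y * (X * (Y * (Y * (X * (Y * (X * (Y * (Y * (X * (Y * (X * (Y * (Y * t))))))))))))) = X * (Y * (X * (Y * (Y * (X * t))))) := by
    intro t
    have hp1 : X * (X * (Y * (X * (Y * (Y * (X * (Y * (X * (Y * (Y * (X * (Y * (X * (Y * (Y * t))))))))))))))) = Y * (X * (Y * (Y * (X * (Y * (X * (Y * (Y * (X * (Y * (X * (Y * (Y * t))))))))))))) := by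
      rw [r0 (Y * (X * (Y * (Y * (X * (Y * (X * (Y * (Y * (X * (Y * (X * (Y * (Y * t))))))))))))))]
    have hp2 : X * (X * (Y * (X * (Y * (Y * (X * (Y * (X * (Y * (Y * (X * (Y * (X * (Y * (Y * t))))))))))))))) = X * (Y * (X * (Y * (Y * (X * t))))) := by
      rw [r13 t]
    have hp := hp1.symm.trans hp2
    have hu : Y * (X * (Y * (Y * (X * (Y * (X * (Y * (Y * (X * (Y * (X * (Y * (Y * t))))))))))))) = Y * (X * (Y * (Y * (X * (Y * (X * (Y * (Y * (X * (Y * (X * (Y * (Y * t))))))))))))) := rfl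
    have hv : X * (Y * (X * (Y * (Y * (X * t))))) = X * (Y * (X * (Y * (Y * (X * t))))) := rfl
    exact hu.symm.trans (hp.trans hv)
  have r15 : ∀ t : H, Y * (Y * (X * (Y * (Y * (X * (Y * (Y * (X * t)))))))) = X * (Y * (X * (Y * (X * (Y * (X * (Y * t))))))) := by
    intro t
    have hp1 : Y * (Y * (Y * (X * (Y * (X * (Y * (X * (Y * (X * (Y * t)))))))))) = X * (Y * (X * (Y * (X * (Y * (X * (Y * t))))))) := by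
      rw [r1 (X * (Y * (X * (Y * (X * (Y * (X * (Y * t))))))))]
    have hp2 : Y * (Y * (Y * (X * (Y * (X * (Y * (X * (Y * (X * (Y * t)))))))))) = Y * (Y * (X * (Y * (Y * (X * (Y * (Y * (X * t)))))))) := by
      rw [r11 t]
    have hp := hp1.symm.trans hp2
    have hu : X * (Y * (X * (Y * (X * (Y * (X * (Y * t))))))) = X * (Y * (X * (Y * (X * (Y * (X * (Y * t))))))) := rfl
    have hv : Y * (Y * (X * (Y * (Y * (X * (Y * (Y * (X * t)))))))) = Y * (Y * (X * (Y * (Y * (X * (Y * (Y * (X * t)))))))) := rfl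
    exact hv.symm.trans (hp.symm.trans hu)
  have r16 : ∀ t : H, X * (Y * (Y * (X * (Y * (X * (Y * (Y * (X * (Y * (X * (Y * (Y * t)))))))))))) = Y * (Y * (X * (Y * (X * (Y * (Y * (X * t))))))) := by
    intro t
    have hp1 : Y * (Y * (Y * (X * (Y * (Y * (X * (Y * (X * (Y * (Y * (X * (Y * (X * (Y * (Y * t))))))))))))))) = X * (Y * (Y * (X * (Y * (X * (Y * (Y * (X * (Y * (X * (Y * (Y * t)))))))))))) := by
      rw [r1 (X * (Y * (Y * (X * (Y * (X * (Y * (Y * (X * (Y * (X * (Y * (Y * t)))))))))))))]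
    have hp2 : Y * (Y * (Y * (X * (Y * (Y * (X * (Y * (X * (Y * (Y * (X * (Y * (X * (Y * (Y * t))))))))))))))) = Y * (Y * (X * (Y * (X * (Y * (Y * (X * t))))))) := by
      rw [r14 t]
    have hp := hp1.symm.trans hp2
    have hu : X * (Y * (Y * (X * (Y * (X * (Y * (Y * (X * (Y * (X * (Y * (Y * t)))))))))))) = X * (Y * (Y * (X * (Y * (X * (Y * (Y * (X * (Y * (X * (Y * (Y * t)))))))))))) := rfl
    have hv : Y * (Y * (X * (Y * (X * (Y * (Y * (X * t))))))) = Y * (Y * (X * (Y * (X * (Y * (Y * (X * t))))))) := rfl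
    exact hu.symm.trans (hp.trans hv)
  have r17 : ∀ t : H, Y * (Y * (X * (Y * (X * (Y * (Y * (X * (Y * (X * (Y * (Y * t))))))))))) = X * (Y * (Y * (X * (Y * (X * (Y * (Y * (X * t)))))))) := by
    intro t
    have hp1 : X * (X * (Y * (Y * (X * (Y * (X * (Y * (Y * (X * (Y * (X * (Y * (Y * t))))))))))))) = Y * (Y * (X * (Y * (X * (Y * (Y * (X * (Y * (X * (Y * (Y * t))))))))))) := by
      rw [r0 (Y * (Y * (X * (Y * (X * (Y * (Y * (X * (Y * (X * (Y * (Y * t))))))))))))]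
    have hp2 : X * (X * (Y * (Y * (X * (Y * (X * (Y * (Y * (X * (Y * (X * (Y * (Y * t))))))))))))) = X * (Y * (Y * (X * (Y * (X * (Y * (Y * (X * t)))))))) := by
      rw [r16 t]
    have hp := hp1.symm.trans hp2
    have hu : Y * (Y * (X * (Y * (X * (Y * (Y * (X * (Y * (X * (Y * (Y * t))))))))))) = Y * (Y * (X * (Y * (X * (Y * (Y * (X * (Y * (X * (Y * (Y * t))))))))))) := rfl
    have hv : X * (Y * (Y * (X * (Y * (X * (Y * (Y * (X * t)))))))) = X * (Y * (Y * (X * (Y * (X * (Y * (Y * (X * t)))))))) := rfl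
    exact hu.symm.trans (hp.trans hv)
  have r18 : ∀ t : H, Y * (Y * (X * (Y * (Y * (X * (Y * (X * (Y * (Y * (X * t)))))))))) = Y * (X * (Y * (X * (Y * (Y * (X * (Y * (X * (Y * (Y * t)))))))))) := by
    intro t
    have hp1 : Y * (Y * (Y * (Y * (X * (Y * (X * (Y * (Y * (X * (Y * (X * (Y * (Y * t))))))))))))) = Y * (X * (Y * (X * (Y * (Y * (X * (Y * (X * (Y * (Y * t)))))))))) := by
      rw [r1 (Y * (X * (Y * (X * (Y * (Y * (X * (Y * (X * (Y * (Y * t)))))))))))]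
    have hp2 : Y * (Y * (Y * (Y * (X * (Y * (X * (Y * (Y * (X * (Y * (X * (Y * (Y * t))))))))))))) = Y * (Y * (X * (Y * (Y * (X * (Y * (X * (Y * (Y * (X * t)))))))))) := by
      rw [r17 t]
    have hp := hp1.symm.trans hp2
    have hu : Y * (X * (Y * (X * (Y * (Y * (X * (Y * (X * (Y * (Y * t)))))))))) = Y * (X * (Y * (X * (Y * (Y * (X * (Y * (X * (Y * (Y * t)))))))))) := rfl
    have hv : Y * (Y * (X * (Y * (Y * (X * (Y * (X * (Y * (Y * (X * t)))))))))) = Y * (Y * (X * (Y * (Y * (X * (Y * (X * (Y * (Y * (X * t)))))))))) := rfl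
    exact hv.symm.trans (hp.symm.trans hu)
  have r19 : ∀ t : H, Y * (X * (Y * (Y * (X * (Y * (X * (Y * (Y * (X * t))))))))) = X * (Y * (X * (Y * (Y * (X * (Y * (X * (Y * (Y * t))))))))) := by
    intro t
    have hp1 : Y * (Y * (Y * (X * (Y * (X * (Y * (Y * (X * (Y * (X * (Y * (Y * t)))))))))))) = X * (Y * (X * (Y * (Y * (X * (Y * (X * (Y * (Y * t))))))))) := by
      rw [r1 (X * (Y * (X * (Y * (Y * (X * (Y * (X * (Y * (Y * t))))))))))]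
    have hp2 : Y * (Y * (Y * (X * (Y * (X * (Y * (Y * (X * (Y * (X * (Y * (Y * t)))))))))))) = Y * (X * (Y * (Y * (X * (Y * (X * (Y * (Y * (X * t))))))))) := by
      rw [r17 t]
    have hp := hp1.symm.trans hp2
    have hu : X * (Y * (X * (Y * (Y * (X * (Y * (X * (Y * (Y * t))))))))) = X * (Y * (X * (Y * (Y * (X * (Y * (X * (Y * (Y * t))))))))) := rfl
    have hv : Y * (X * (Y * (Y * (X * (Y * (X * (Y * (Y * (X * t))))))))) = Y * (X * (Y * (Y * (X * (Y * (X * (Y * (Y * (X * t))))))))) := rfl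
    exact hv.symm.trans (hp.symm.trans hu)
  have r20 : ∀ t : H, X * (Y * (Y * (X * (Y * (Y * (X * (Y * (Y * t)))))))) = Y * (X * (Y * (X * (Y * (X * (Y * (X * t))))))) := by
    intro t
    have hp1 : Y * (X * (Y * (X * (Y * (X * (Y * (X * (Y * (Y * (Y * t)))))))))) = X * (Y * (Y * (X * (Y * (Y * (X * (Y * (Y * t)))))))) := by
      rw [r11 (Y * (Y * t))]
    have hp2 : Y * (X * (Y * (X * (Y * (X * (Y * (X * (Y * (Y * (Y * t)))))))))) = Y * (X * (Y * (X * (Y * (X * (Y * (X * t))))))) := by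
      rw [r1 t]
    have hp := hp1.symm.trans hp2
    have hu : X * (Y * (Y * (X * (Y * (Y * (X * (Y * (Y * t)))))))) = X * (Y * (Y * (X * (Y * (Y * (X * (Y * (Y * t)))))))) := rfl
    have hv : Y * (X * (Y * (X * (Y * (X * (Y * (X * t))))))) = Y * (X * (Y * (X * (Y * (X * (Y * (X * t))))))) := rfl
    exact hu.symm.trans (hp.trans hv)
  have r21 : ∀ t : H, X * (Y * (X * (Y * (X * (Y * (X * (Y * (X * t)))))))) = Y * (Y * (X * (Y * (Y * (X * (Y * (Y * t))))))) := by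
    intro t
    have hp1 : X * (X * (Y * (Y * (X * (Y * (Y * (X * (Y * (Y * t))))))))) = Y * (Y * (X * (Y * (Y * (X * (Y * (Y * t))))))) := by
      rw [r0 (Y * (Y * (X * (Y * (Y * (X * (Y * (Y * t))))))))]
    have hp2 : X * (X * (Y * (Y * (X * (Y * (Y * (X * (Y * (Y * t))))))))) = X * (Y * (X * (Y * (X * (Y * (X * (Y * (X * t)))))))) := by
      rw [r20 t]
    have hp := hp1.symm.trans hp2
    have hu : Y * (Y * (X * (Y * (Y * (X * (Y * (Y * t))))))) = Y * (Y * (X * (Y * (Y * (X * (Y * (Y * t))))))) := rfl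
    have hv : X * (Y * (X * (Y * (X * (Y * (X * (Y * (X * t)))))))) = X * (Y * (X * (Y * (X * (Y * (X * (Y * (X * t)))))))) := rfl
    exact hv.symm.trans (hp.symm.trans hu)
  have r22 : ∀ t : H, Y * (X * (Y * (X * (Y * (X * (Y * (Y * (X * (Y * (X * (Y * (X * (Y * t))))))))))))) = X * (Y * (X * (Y * (X * (Y * (Y * (X * (Y * (X * (Y * (X * t))))))))))) := by
    intro t
    have hp1 : Y * (X * (Y * (X * (Y * (X * (Y * (X * (Y * (Y * (X * (Y * (Y * (X * (Y * (Y * (X * t)))))))))))))))) = X * (Y * (Y * (X * (Y * (Y * (X * (Y * (X * (Y * (Y * (X * (Y * (Y * (X * t)))))))))))))) := by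
      rw [r11 (Y * (X * (Y * (Y * (X * (Y * (Y * (X * t))))))))]
    have hp2 : Y * (X * (Y * (X * (Y * (X * (Y * (X * (Y * (Y * (X * (Y * (Y * (X * (Y * (Y * (X * t)))))))))))))))) = Y * (X * (Y * (X * (Y * (X * (Y * (X * (X * (Y * (X * (Y * (X * (Y * (X * (Y * t))))))))))))))) := by
      rw [r15 t]
    have hp := hp1.symm.trans hp2
    have hu : X * (Y * (Y * (X * (Y * (Y * (X * (Y * (X * (Y * (Y * (X * (Y * (Y * (X * t)))))))))))))) = X * (Y * (X * (Y * (X * (Y * (Y * (X * (Y * (X * (Y * (X * t))))))))))) := by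
      rw [r19 (Y * (Y * (X * t))), r1 (Y * (X * t))]
    have hv : Y * (X * (Y * (X * (Y * (X * (Y * (X * (X * (Y * (X * (Y * (X * (Y * (X * (Y * t))))))))))))))) = Y * (X * (Y * (X * (Y * (X * (Y * (Y * (X * (Y * (X * (Y * (X * (Y * t))))))))))))) := by
      rw [r0 (Y * (X * (Y * (X * (Y * (X * (Y * t)))))))]
    exact hv.symm.trans (hp.symm.trans hu)
  have r23 : ∀ t : H, Y * (Y * (X * (Y * (X * (Y * (X * (Y * (Y * (X * (Y * (X * (Y * (X * t))))))))))))) = X * (Y * (X * (Y * (X * (Y * (Y * (X * (Y * (X * (Y * (X * (Y * t)))))))))))) := by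
    intro t
    have hp1 : Y * (Y * (Y * (X * (Y * (X * (Y * (X * (Y * (Y * (X * (Y * (X * (Y * (X * (Y * t))))))))))))))) = X * (Y * (X * (Y * (X * (Y * (Y * (X * (Y * (X * (Y * (X * (Y * t)))))))))))) := by
      rw [r1 (X * (Y * (X * (Y * (X * (Y * (Y * (X * (Y * (X * (Y * (X * (Y * t)))))))))))))]
    have hp2 : Y * (Y * (Y * (X * (Y * (X * (Y * (X * (Y * (Y * (X * (Y * (X * (Y * (X * (Y * t))))))))))))))) = Y * (Y * (X * (Y * (X * (Y * (X * (Y * (Y * (X * (Y * (X * (Y * (X * t))))))))))))) := by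
      rw [r22 t]
    have hp := hp1.symm.trans hp2
    have hu : X * (Y * (X * (Y * (X * (Y * (Y * (X * (Y * (X * (Y * (X * (Y * t)))))))))))) = X * (Y * (X * (Y * (X * (Y * (Y * (X * (Y * (X * (Y * (X * (Y * t)))))))))))) := rfl
    have hv : Y * (Y * (X * (Y * (X * (Y * (X * (Y * (Y * (X * (Y * (X * (Y * (X * t))))))))))))) = Y * (Y * (X * (Y * (X * (Y * (X * (Y * (Y * (X * (Y * (X * (Y * (X * t))))))))))))) := rfl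
    exact hv.symm.trans (hp.symm.trans hu)
  have r24 : ∀ t : H, X * (Y * (X * (Y * (X * (Y * (Y * (X * (Y * (X * (Y * (X * (Y * (Y * t))))))))))))) = Y * (X * (Y * (X * (Y * (X * (Y * (Y * (X * (Y * (X * (Y * (X * t)))))))))))) := by
    intro t
    have hp1 : Y * (Y * (Y * (Y * (X * (Y * (X * (Y * (X * (Y * (Y * (X * (Y * (X * (Y * (X * t))))))))))))))) = Y * (X * (Y * (X * (Y * (X * (Y * (Y * (X * (Y * (X * (Y * (X * t)))))))))))) := by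
      rw [r1 (Y * (X * (Y * (X * (Y * (X * (Y * (Y * (X * (Y * (X * (Y * (X * t)))))))))))))]
    have hp2 : Y * (Y * (Y * (Y * (X * (Y * (X * (Y * (X * (Y * (Y * (X * (Y * (X * (Y * (X * t))))))))))))))) = Y * (Y * (X * (Y * (X * (Y * (X * (Y * (Y * (X * (Y * (X * (Y * (X * (Y * t)))))))))))))) := by
      rw [r23 t]
    have hp := hp1.symm.trans hp2
    have hu : Y * (X * (Y * (X * (Y * (X * (Y * (Y * (X * (Y * (X * (Y * (X * t)))))))))))) = Y * (X * (Y * (X * (Y * (X * (Y * (Y * (X * (Y * (X * (Y * (X * t)))))))))))) := rfl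
    have hv : Y * (Y * (X * (Y * (X * (Y * (X * (Y * (Y * (X * (Y * (X * (Y * (X * (Y * t)))))))))))))) = X * (Y * (X * (Y * (X * (Y * (Y * (X * (Y * (X * (Y * (X * (Y * (Y * t))))))))))))) := by
      rw [r23 (Y * t)]
    exact hv.symm.trans (hp.symm.trans hu)
  have r25 : ∀ t : H, X * (Y * (X * (Y * (X * (Y * (X * (Y * (Y * (X * (Y * (X * (Y * (X * t))))))))))))) = Y * (X * (Y * (X * (Y * (Y * (X * (Y * (X * (Y * (X * (Y * (Y * t)))))))))))) := by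
    intro t
    have hp1 : X * (X * (Y * (X * (Y * (X * (Y * (Y * (X * (Y * (X * (Y * (X * (Y * (Y * t)))))))))))))) = Y * (X * (Y * (X * (Y * (Y * (X * (Y * (X * (Y * (X * (Y * (Y * t)))))))))))) := by
      rw [r0 (Y * (X * (Y * (X * (Y * (Y * (X * (Y * (X * (Y * (X * (Y * (Y * t)))))))))))))]
    have hp2 : X * (X * (Y * (X * (Y * (X * (Y * (Y * (X * (Y * (X * (Y * (X * (Y * (Y * t)))))))))))))) = X * (Y * (X * (Y * (X * (Y * (X * (Y * (Y * (X * (Y * (X * (Y * (X * t))))))))))))) := by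
      rw [r24 t]
    have hp := hp1.symm.trans hp2
    have hu : Y * (X * (Y * (X * (Y * (Y * (X * (Y * (X * (Y * (X * (Y * (Y * t)))))))))))) = Y * (X * (Y * (X * (Y * (Y * (X * (Y * (X * (Y * (X * (Y * (Y * t)))))))))))) := rfl
    have hv : X * (Y * (X * (Y * (X * (Y * (X * (Y * (Y * (X * (Y * (X * (Y * (X * t))))))))))))) = X * (Y * (X * (Y * (X * (Y * (X * (Y * (Y * (X * (Y * (X * (Y * (X * t))))))))))))) := rfl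
    exact hv.symm.trans (hp.symm.trans hu)
  have r26 : ∀ t : H, X * (Y * (Y * (X * (Y * (Y * (X * (Y * (X * (Y * (X * (Y * (Y * (X * (Y * (X * (Y * (Y * t))))))))))))))))) = Y * (X * (Y * (X * (Y * (Y * (X * (Y * (Y * (X * t))))))))) := by
    intro t
    have hp1 : Y * (X * (Y * (X * (Y * (X * (Y * (X * (Y * (Y * (X * (Y * (X * (Y * (Y * (X * (Y * (X * (Y * (Y * t))))))))))))))))))) = X * (Y * (Y * (X * (Y * (Y * (X * (Y * (X * (Y * (X * (Y * (Y * (X * (Y * (X * (Y * (Y * t))))))))))))))))) := by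
      rw [r11 (Y * (X * (Y * (X * (Y * (Y * (X * (Y * (X * (Y * (Y * t)))))))))))]
    have hp2 : Y * (X * (Y * (X * (Y * (X * (Y * (X * (Y * (Y * (X * (Y * (X * (Y * (Y * (X * (Y * (X * (Y * (Y * t))))))))))))))))))) = Y * (X * (Y * (X * (Y * (X * (Y * (X * (X * (Y * (Y * (X * (Y * (X * (Y * (Y * (X * t)))))))))))))))) := by
      rw [r17 t]
    have hp := hp1.symm.trans hp2
    have hu : X * (Y * (Y * (X * (Y * (Y * (X * (Y * (X * (Y * (X * (Y * (Y * (X * (Y * (X * (Y * (Y * t))))))))))))))))) = X * (Y * (Y * (X * (Y * (Y * (X * (Y * (X * (Y * (X * (Y * (Y * (X * (Y * (X * (Y * (Y * t))))))))))))))))) := rfl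
    have hv : Y * (X * (Y * (X * (Y * (X * (Y * (X * (X * (Y * (Y * (X * (Y * (X * (Y * (Y * (X * t)))))))))))))))) = Y * (X * (Y * (X * (Y * (Y * (X * (Y * (Y * (X * t))))))))) := by
      rw [r0 (Y * (Y * (X * (Y * (X * (Y * (Y * (X * t)))))))), r1 (X * (Y * (X * (Y * (Y * (X * t)))))), r0 (Y * (X * (Y * (Y * (X * t)))))]
    exact hu.symm.trans (hp.trans hv)
  have r27 : ∀ t : H, Y * (Y * (X * (Y * (Y * (X * (Y * (X * (Y * (X * (Y * (Y * (X * (Y * (X * (Y * (Y * t)))))))))))))))) = X * (Y * (X * (Y * (X * (Y * (Y * (X * (Y * (Y * (X * t)))))))))) := by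
    intro t
    have hp1 : X * (X * (Y * (Y * (X * (Y * (Y * (X * (Y * (X * (Y * (X * (Y * (Y * (X * (Y * (X * (Y * (Y * t)))))))))))))))))) = Y * (Y * (X * (Y * (Y * (X * (Y * (X * (Y * (X * (Y * (Y * (X * (Y * (X * (Y * (Y * t)))))))))))))))) := by
      rw [r0 (Y * (Y * (X * (Y * (Y * (X * (Y * (X * (Y * (X * (Y * (Y * (X * (Y * (X * (Y * (Y * t)))))))))))))))))]
    have hp2 : X * (X * (Y * (Y * (X * (Y * (Y * (X * (Y * (X * (Y * (X * (Y * (Y * (X * (Y * (X * (Y * (Y * t)))))))))))))))))) = X * (Y * (X * (Y * (X * (Y * (Y * (X * (Y * (Y * (X * t)))))))))) := by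
      rw [r26 t]
    have hp := hp1.symm.trans hp2
    have hu : Y * (Y * (X * (Y * (Y * (X * (Y * (X * (Y * (X * (Y * (Y * (X * (Y * (X * (Y * (Y * t)))))))))))))))) = Y * (Y * (X * (Y * (Y * (X * (Y * (X * (Y * (X * (Y * (Y * (X * (Y * (X * (Y * (Y * t)))))))))))))))) := rfl
    have hv : X * (Y * (X * (Y * (X * (Y * (Y * (X * (Y * (Y * (X * t)))))))))) = X * (Y * (X * (Y * (X * (Y * (Y * (X * (Y * (Y * (X * t)))))))))) := rfl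
    exact hu.symm.trans (hp.trans hv)
  have r28 : ∀ t : H, Y * (X * (Y * (Y * (X * (Y * (X * (Y * (X * (Y * (Y * (X * (Y * (X * (Y * (Y * t))))))))))))))) = Y * (Y * (X * (Y * (X * (Y * (X * (Y * (Y * (X * (Y * (Y * (X * t)))))))))))) := by
    intro t
    have hp1 : Y * (Y * (Y * (Y * (X * (Y * (Y * (X * (Y * (X * (Y * (X * (Y * (Y * (X * (Y * (X * (Y * (Y * t)))))))))))))))))) = Y * (X * (Y * (Y * (X * (Y * (X * (Y * (X * (Y * (Y * (X * (Y * (X * (Y * (Y * t))))))))))))))) := by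
      rw [r1 (Y * (X * (Y * (Y * (X * (Y * (X * (Y * (X * (Y * (Y * (X * (Y * (X * (Y * (Y * t))))))))))))))))]
    have hp2 : Y * (Y * (Y * (Y * (X * (Y * (Y * (X * (Y * (X * (Y * (X * (Y * (Y * (X * (Y * (X * (Y * (Y * t)))))))))))))))))) = Y * (Y * (X * (Y * (X * (Y * (X * (Y * (Y * (X * (Y * (Y * (X * t)))))))))))) := by
      rw [r27 t]
    have hp := hp1.symm.trans hp2
    have hu : Y * (X * (Y * (Y * (X * (Y * (X * (Y * (X * (Y * (Y * (X * (Y * (X * (Y * (Y * t))))))))))))))) = Y * (X * (Y * (Y * (X * (Y * (X * (Y * (X * (Y * (Y * (X * (Y * (X * (Y * (Y * t))))))))))))))) := rfl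
    have hv : Y * (Y * (X * (Y * (X * (Y * (X * (Y * (Y * (X * (Y * (Y * (X * t)))))))))))) = Y * (Y * (X * (Y * (X * (Y * (X * (Y * (Y * (X * (Y * (Y * (X * t)))))))))))) := rfl
    exact hu.symm.trans (hp.trans hv)
  have r29 : ∀ t : H, X * (Y * (Y * (X * (Y * (X * (Y * (X * (Y * (Y * (X * (Y * (X * (Y * (Y * t)))))))))))))) = Y * (X * (Y * (X * (Y * (X * (Y * (Y * (X * (Y * (Y * (X * t))))))))))) := by
    intro t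
    have hp1 : Y * (Y * (Y * (X * (Y * (Y * (X * (Y * (X * (Y * (X * (Y * (Y * (X * (Y * (X * (Y * (Y * t))))))))))))))))) = X * (Y * (Y * (X * (Y * (X * (Y * (X * (Y * (Y * (X * (Y * (X * (Y * (Y * t)))))))))))))) := by
      rw [r1 (X * (Y * (Y * (X * (Y * (X * (Y * (X * (Y * (Y * (X * (Y * (X * (Y * (Y * t)))))))))))))))]
    have hp2 : Y * (Y * (Y * (X * (Y * (Y * (X * (Y * (X * (Y * (X * (Y * (Y * (X * (Y * (X * (Y * (Y * t))))))))))))))))) = Y * (X * (Y * (X * (Y * (X * (Y * (Y * (X * (Y * (Y * (X * t))))))))))) := by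
      rw [r27 t]
    have hp := hp1.symm.trans hp2
    have hu : X * (Y * (Y * (X * (Y * (X * (Y * (X * (Y * (Y * (X * (Y * (X * (Y * (Y * t)))))))))))))) = X * (Y * (Y * (X * (Y * (X * (Y * (X * (Y * (Y * (X * (Y * (X * (Y * (Y * t)))))))))))))) := rfl
    have hv : Y * (X * (Y * (X * (Y * (X * (Y * (Y * (X * (Y * (Y * (X * t))))))))))) = Y * (X * (Y * (X * (Y * (X * (Y * (Y * (X * (Y * (Y * (X * t))))))))))) := rfl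
    exact hu.symm.trans (hp.trans hv)
  have r30 : ∀ t : H, Y * (Y * (X * (Y * (X * (Y * (X * (Y * (Y * (X * (Y * (X * (Y * (Y * t))))))))))))) = X * (Y * (X * (Y * (X * (Y * (X * (Y * (Y * (X * (Y * (Y * (X * t)))))))))))) := by
    intro t
    have hp1 : X * (X * (Y * (Y * (X * (Y * (X * (Y * (X * (Y * (Y * (X * (Y * (X * (Y * (Y * t))))))))))))))) = Y * (Y * (X * (Y * (X * (Y * (X * (Y * (Y * (X * (Y * (X * (Y * (Y * t))))))))))))) := by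
      rw [r0 (Y * (Y * (X * (Y * (X * (Y * (X * (Y * (Y * (X * (Y * (X * (Y * (Y * t))))))))))))))]
    have hp2 : X * (X * (Y * (Y * (X * (Y * (X * (Y * (X * (Y * (Y * (X * (Y * (X * (Y * (Y * t))))))))))))))) = X * (Y * (X * (Y * (X * (Y * (X * (Y * (Y * (X * (Y * (Y * (X * t)))))))))))) := by
      rw [r29 t]
    have hp := hp1.symm.trans hp2
    have hu : Y * (Y * (X * (Y * (X * (Y * (X * (Y * (Y * (X * (Y * (X * (Y * (Y * t))))))))))))) = Y * (Y * (X * (Y * (X * (Y * (X * (Y * (Y * (X * (Y * (X * (Y * (Y * t))))))))))))) := rfl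
    have hv : X * (Y * (X * (Y * (X * (Y * (X * (Y * (Y * (X * (Y * (Y * (X * t)))))))))))) = X * (Y * (X * (Y * (X * (Y * (X * (Y * (Y * (X * (Y * (Y * (X * t)))))))))))) := rfl
    exact hu.symm.trans (hp.trans hv)
  have r31 : ∀ t : H, Y * (X * (Y * (X * (Y * (X * (Y * (Y * (X * (Y * (Y * (X * (Y * (X * (Y * (Y * t))))))))))))))) = X * (Y * (Y * (X * (Y * (X * (Y * (X * (Y * (Y * (X * t)))))))))) := by
    intro t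
    have hp1 : Y * (X * (Y * (X * (Y * (X * (Y * (X * (Y * (X * (Y * (Y * (X * (Y * (X * (Y * (Y * (X * t))))))))))))))))) = X * (Y * (Y * (X * (Y * (Y * (X * (X * (Y * (Y * (X * (Y * (X * (Y * (Y * (X * t))))))))))))))) := by
      rw [r11 (X * (Y * (Y * (X * (Y * (X * (Y * (Y * (X * t)))))))))]
    have hp2 : Y * (X * (Y * (X * (Y * (X * (Y * (X * (Y * (X * (Y * (Y * (X * (Y * (X * (Y * (Y * (X * t))))))))))))))))) = Y * (X * (Y * (X * (Y * (X * (Y * (X * (X * (Y * (X * (Y * (Y * (X * (Y * (X * (Y * (Y * t))))))))))))))))) := by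
      rw [r19 t]
    have hp := hp1.symm.trans hp2
    have hu : X * (Y * (Y * (X * (Y * (Y * (X * (X * (Y * (Y * (X * (Y * (X * (Y * (Y * (X * t))))))))))))))) = X * (Y * (Y * (X * (Y * (X * (Y * (X * (Y * (Y * (X * t)))))))))) := by
      rw [r0 (Y * (Y * (X * (Y * (X * (Y * (Y * (X * t)))))))), r1 (Y * (X * (Y * (X * (Y * (Y * (X * t)))))))]
    have hv : Y * (X * (Y * (X * (Y * (X * (Y * (X * (X * (Y * (X * (Y * (Y * (X * (Y * (X * (Y * (Y * t))))))))))))))))) = Y * (X * (Y * (X * (Y * (X * (Y * (Y * (X * (Y * (Y * (X * (Y * (X * (Y * (Y * t))))))))))))))) := by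
      rw [r0 (Y * (X * (Y * (Y * (X * (Y * (X * (Y * (Y * t)))))))))]
    exact hv.symm.trans (hp.symm.trans hu)
  have r32 : ∀ t : H, Y * (X * (Y * (X * (Y * (Y * (X * (Y * (Y * (X * (Y * (X * (Y * (Y * t))))))))))))) = X * (Y * (Y * (X * (Y * (Y * (X * (Y * (X * (Y * (X * (Y * (Y * (X * t))))))))))))) := by
    intro t
    have hp1 : Y * (X * (Y * (X * (Y * (X * (Y * (X * (Y * (Y * (X * (Y * (X * (Y * (Y * (X * t))))))))))))))) = X * (Y * (Y * (X * (Y * (Y * (X * (Y * (X * (Y * (X * (Y * (Y * (X * t))))))))))))) := by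
      rw [r11 (Y * (X * (Y * (X * (Y * (Y * (X * t)))))))]
    have hp2 : Y * (X * (Y * (X * (Y * (X * (Y * (X * (Y * (Y * (X * (Y * (X * (Y * (Y * (X * t))))))))))))))) = Y * (X * (Y * (X * (Y * (X * (X * (Y * (X * (Y * (Y * (X * (Y * (X * (Y * (Y * t))))))))))))))) := by
      rw [r19 t]
    have hp := hp1.symm.trans hp2
    have hu : X * (Y * (Y * (X * (Y * (Y * (X * (Y * (X * (Y * (X * (Y * (Y * (X * t))))))))))))) = X * (Y * (Y * (X * (Y * (Y * (X * (Y * (X * (Y * (X * (Y * (Y * (X * t))))))))))))) := rfl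
    have hv : Y * (X * (Y * (X * (Y * (X * (X * (Y * (X * (Y * (Y * (X * (Y * (X * (Y * (Y * t))))))))))))))) = Y * (X * (Y * (X * (Y * (Y * (X * (Y * (Y * (X * (Y * (X * (Y * (Y * t))))))))))))) := by
      rw [r0 (Y * (X * (Y * (Y * (X * (Y * (X * (Y * (Y * t)))))))))]
    exact hv.symm.trans (hp.symm.trans hu)
  have r33 : ∀ t : H, Y * (Y * (X * (Y * (X * (Y * (Y * (X * (Y * (X * (Y * (X * t))))))))))) = X * (Y * (Y * (X * (Y * (X * (Y * (Y * (X * (Y * (Y * (X * t))))))))))) := by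
    intro t
    have hp1 : Y * (X * (Y * (X * (Y * (X * (Y * (X * (Y * (Y * (X * (Y * (X * (Y * (X * (Y * t))))))))))))))) = X * (Y * (Y * (X * (Y * (Y * (X * (Y * (X * (Y * (X * (Y * (X * (Y * t))))))))))))) := by
      rw [r11 (Y * (X * (Y * (X * (Y * (X * (Y * t)))))))]
    have hp2 : Y * (X * (Y * (X * (Y * (X * (Y * (X * (Y * (Y * (X * (Y * (X * (Y * (X * (Y * t))))))))))))))) = Y * (X * (X * (Y * (X * (Y * (X * (Y * (Y * (X * (Y * (X * (Y * (X * t))))))))))))) := by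
      rw [r22 t]
    have hp := hp1.symm.trans hp2
    have hu : X * (Y * (Y * (X * (Y * (Y * (X * (Y * (X * (Y * (X * (Y * (X * (Y * t))))))))))))) = X * (Y * (Y * (X * (Y * (X * (Y * (Y * (X * (Y * (Y * (X * t))))))))))) := by
      rw [r11 (t)]
    have hv : Y * (X * (X * (Y * (X * (Y * (X * (Y * (Y * (X * (Y * (X * (Y * (X * t))))))))))))) = Y * (Y * (X * (Y * (X * (Y * (Y * (X * (Y * (X * (Y * (X * t))))))))))) := by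
      rw [r0 (Y * (X * (Y * (X * (Y * (Y * (X * (Y * (X * (Y * (X * t)))))))))))]
    exact hv.symm.trans (hp.symm.trans hu)
  have r34 : ∀ t : H, X * (Y * (Y * (X * (Y * (X * (Y * (Y * (X * (Y * (Y * (X * (Y * (X * (Y * (X * (Y * (X * t))))))))))))))))) = Y * (Y * (X * (Y * (X * (Y * (X * (Y * (Y * t)))))))) := by
    intro t
    have hp1 : Y * (X * (Y * (X * (Y * (X * (Y * (X * (Y * (Y * (X * (Y * (X * (Y * (X * (Y * (Y * (X * (Y * (X * (Y * (X * t))))))))))))))))))))) = X * (Y * (Y * (X * (Y * (Y * (X * (Y * (X * (Y * (X * (Y * (X * (Y * (Y * (X * (Y * (X * (Y * (X * t))))))))))))))))))) := by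
      rw [r11 (Y * (X * (Y * (X * (Y * (X * (Y * (Y * (X * (Y * (X * (Y * (X * t)))))))))))))]
    have hp2 : Y * (X * (Y * (X * (Y * (X * (Y * (X * (Y * (Y * (X * (Y * (X * (Y * (X * (Y * (Y * (X * (Y * (X * (Y * (X * t))))))))))))))))))))) = Y * (X * (Y * (X * (Y * (X * (Y * (X * (X * (Y * (X * (Y * (X * (Y * (Y * (X * (Y * (X * (Y * (X * (Y * t)))))))))))))))))))) := by
      rw [r23 t]
    have hp := hp1.symm.trans hp2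
    have hu : X * (Y * (Y * (X * (Y * (Y * (X * (Y * (X * (Y * (X * (Y * (X * (Y * (Y * (X * (Y * (X * (Y * (X * t))))))))))))))))))) = X * (Y * (Y * (X * (Y * (X * (Y * (Y * (X * (Y * (Y * (X * (Y * (X * (Y * (X * (Y * (X * t))))))))))))))))) := by
      rw [r11 (Y * (X * (Y * (X * (Y * (X * t))))))]
    have hv : Y * (X * (Y * (X * (Y * (X * (Y * (X * (X * (Y * (X * (Y * (X * (Y * (Y * (X * (Y * (X * (Y * (X * (Y * t)))))))))))))))))))) = Y * (Y * (X * (Y * (X * (Y * (X * (Y * (Y * t)))))))) := by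
      rw [r0 (Y * (X * (Y * (X * (Y * (Y * (X * (Y * (X * (Y * (X * (Y * t)))))))))))), r19 (Y * (X * (Y * (X * (Y * t))))), r0 (Y * (X * (Y * (Y * (X * (Y * (X * (Y * (Y * (Y * (X * (Y * (X * (Y * t)))))))))))))), r1 (X * (Y * (X * (Y * t)))), r0 (Y * (X * (Y * t))), r20 (X * (Y * t)), r0 (Y * t)]
    exact hu.symm.trans (hp.trans hv)
  have r35 : ∀ t : H, Y * (Y * (X * (Y * (X * (Y * (Y * (X * (Y * (Y * (X * (Y * (X * (Y * (X * (Y * (X * t)))))))))))))))) = X * (Y * (Y * (X * (Y * (X * (Y * (X * (Y * (Y * t))))))))) := by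
    intro t
    have hp1 : X * (X * (Y * (Y * (X * (Y * (X * (Y * (Y * (X * (Y * (Y * (X * (Y * (X * (Y * (X * (Y * (X * t)))))))))))))))))) = Y * (Y * (X * (Y * (X * (Y * (Y * (X * (Y * (Y * (X * (Y * (X * (Y * (X * (Y * (X * t)))))))))))))))) := by
      rw [r0 (Y * (Y * (X * (Y * (X * (Y * (Y * (X * (Y * (Y * (X * (Y * (X * (Y * (X * (Y * (X * t)))))))))))))))))]
    have hp2 : X * (X * (Y * (Y * (X * (Y * (X * (Y * (Y * (X * (Y * (Y * (X * (Y * (X * (Y * (X * (Y * (X * t)))))))))))))))))) = X * (Y * (Y * (X * (Y * (X * (Y * (X * (Y * (Y * t))))))))) := by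
      rw [r34 t]
    have hp := hp1.symm.trans hp2
    have hu : Y * (Y * (X * (Y * (X * (Y * (Y * (X * (Y * (Y * (X * (Y * (X * (Y * (X * (Y * (X * t)))))))))))))))) = Y * (Y * (X * (Y * (X * (Y * (Y * (X * (Y * (Y * (X * (Y * (X * (Y * (X * (Y * (X * t)))))))))))))))) := rfl
    have hv : X * (Y * (Y * (X * (Y * (X * (Y * (X * (Y * (Y * t))))))))) = X * (Y * (Y * (X * (Y * (X * (Y * (X * (Y * (Y * t))))))))) := rfl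
    exact hu.symm.trans (hp.trans hv)
  have r36 : ∀ t : H, Y * (X * (Y * (X * (Y * (Y * (X * (Y * (Y * (X * (Y * (X * (Y * (X * (Y * (X * t))))))))))))))) = Y * (Y * (X * (Y * (Y * (X * (Y * (X * (Y * (X * (Y * (Y * t))))))))))) := by
    intro t
    have hp1 : Y * (Y * (Y * (Y * (X * (Y * (X * (Y * (Y * (X * (Y * (Y * (X * (Y * (X * (Y * (X * (Y * (X * t)))))))))))))))))) = Y * (X * (Y * (X * (Y * (Y * (X * (Y * (Y * (X * (Y * (X * (Y * (X * (Y * (X * t))))))))))))))) := by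
      rw [r1 (Y * (X * (Y * (X * (Y * (Y * (X * (Y * (Y * (X * (Y * (X * (Y * (X * (Y * (X * t))))))))))))))))]
    have hp2 : Y * (Y * (Y * (Y * (X * (Y * (X * (Y * (Y * (X * (Y * (Y * (X * (Y * (X * (Y * (X * (Y * (X * t)))))))))))))))))) = Y * (Y * (X * (Y * (Y * (X * (Y * (X * (Y * (X * (Y * (Y * t))))))))))) := by
      rw [r35 t]
    have hp := hp1.symm.trans hp2
    have hu : Y * (X * (Y * (X * (Y * (Y * (X * (Y * (Y * (X * (Y * (X * (Y * (X * (Y * (X * t))))))))))))))) = Y * (X * (Y * (X * (Y * (Y * (X * (Y * (Y * (X * (Y * (X * (Y * (X * (Y * (X * t))))))))))))))) := rfl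
    have hv : Y * (Y * (X * (Y * (Y * (X * (Y * (X * (Y * (X * (Y * (Y * t))))))))))) = Y * (Y * (X * (Y * (Y * (X * (Y * (X * (Y * (X * (Y * (Y * t))))))))))) := rfl
    exact hu.symm.trans (hp.trans hv)
  have r37 : ∀ t : H, X * (Y * (X * (Y * (Y * (X * (Y * (Y * (X * (Y * (X * (Y * (X * (Y * (X * t)))))))))))))) = Y * (X * (Y * (Y * (X * (Y * (X * (Y * (X * (Y * (Y * t)))))))))) := by
    intro t
    have hp1 : Y * (Y * (Y * (X * (Y * (X * (Y * (Y * (X * (Y * (Y * (X * (Y * (X * (Y * (X * (Y * (X * t))))))))))))))))) = X * (Y * (X * (Y * (Y * (X * (Y * (Y * (X * (Y * (X * (Y * (X * (Y * (X * t)))))))))))))) := by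
      rw [r1 (X * (Y * (X * (Y * (Y * (X * (Y * (Y * (X * (Y * (X * (Y * (X * (Y * (X * t)))))))))))))))]
    have hp2 : Y * (Y * (Y * (X * (Y * (X * (Y * (Y * (X * (Y * (Y * (X * (Y * (X * (Y * (X * (Y * (X * t))))))))))))))))) = Y * (X * (Y * (Y * (X * (Y * (X * (Y * (X * (Y * (Y * t)))))))))) := by
      rw [r35 t]
    have hp := hp1.symm.trans hp2
    have hu : X * (Y * (X * (Y * (Y * (X * (Y * (Y * (X * (Y * (X * (Y * (X * (Y * (X * t)))))))))))))) = X * (Y * (X * (Y * (Y * (X * (Y * (Y * (X * (Y * (X * (Y * (X * (Y * (X * t)))))))))))))) := rfl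
    have hv : Y * (X * (Y * (Y * (X * (Y * (X * (Y * (X * (Y * (Y * t)))))))))) = Y * (X * (Y * (Y * (X * (Y * (X * (Y * (X * (Y * (Y * t)))))))))) := rfl
    exact hu.symm.trans (hp.trans hv)
  have r38 : ∀ t : H, Y * (X * (Y * (Y * (X * (Y * (Y * (X * (Y * (X * (Y * (X * (Y * (X * t))))))))))))) = X * (Y * (X * (Y * (Y * (X * (Y * (X * (Y * (X * (Y * (Y * t))))))))))) := by
    intro t
    have hp1 : X * (X * (Y * (X * (Y * (Y * (X * (Y * (Y * (X * (Y * (X * (Y * (X * (Y * (X * t))))))))))))))) = Y * (X * (Y * (Y * (X * (Y * (Y * (X * (Y * (X * (Y * (X * (Y * (X * t))))))))))))) := by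
      rw [r0 (Y * (X * (Y * (Y * (X * (Y * (Y * (X * (Y * (X * (Y * (X * (Y * (X * t))))))))))))))]
    have hp2 : X * (X * (Y * (X * (Y * (Y * (X * (Y * (Y * (X * (Y * (X * (Y * (X * (Y * (X * t))))))))))))))) = X * (Y * (X * (Y * (Y * (X * (Y * (X * (Y * (X * (Y * (Y * t))))))))))) := by
      rw [r37 t]
    have hp := hp1.symm.trans hp2
    have hu : Y * (X * (Y * (Y * (X * (Y * (Y * (X * (Y * (X * (Y * (X * (Y * (X * t))))))))))))) = Y * (X * (Y * (Y * (X * (Y * (Y * (X * (Y * (X * (Y * (X * (Y * (X * t))))))))))))) := rfl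
    have hv : X * (Y * (X * (Y * (Y * (X * (Y * (X * (Y * (X * (Y * (Y * t))))))))))) = X * (Y * (X * (Y * (Y * (X * (Y * (X * (Y * (X * (Y * (Y * t))))))))))) := rfl
    exact hu.symm.trans (hp.trans hv)
  have r39 : ∀ t : H, X * (Y * (Y * (X * (Y * (X * (Y * (Y * (X * (Y * (Y * (X * (Y * (X * (Y * (X * (Y * (Y * t))))))))))))))))) = X * (Y * (X * (Y * (X * (Y * (X * (Y * (Y * (X * (Y * (Y * (X * (Y * (X * t)))))))))))))) := by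
    intro t
    have hp1 : Y * (X * (Y * (X * (Y * (X * (Y * (X * (Y * (Y * (X * (Y * (X * (Y * (X * (Y * (Y * (X * (Y * (X * (Y * (Y * t))))))))))))))))))))) = X * (Y * (Y * (X * (Y * (Y * (X * (Y * (X * (Y * (X * (Y * (X * (Y * (Y * (X * (Y * (X * (Y * (Y * t))))))))))))))))))) := by
      rw [r11 (Y * (X * (Y * (X * (Y * (X * (Y * (Y * (X * (Y * (X * (Y * (Y * t)))))))))))))]
    have hp2 : Y * (X * (Y * (X * (Y * (X * (Y * (X * (Y * (Y * (X * (Y * (X * (Y * (X * (Y * (Y * (X * (Y * (X * (Y * (Y * t))))))))))))))))))))) = Y * (X * (Y * (X * (Y * (X * (Y * (X * (X * (Y * (X * (Y * (X * (Y * (X * (Y * (Y * (X * (Y * (Y * (X * t)))))))))))))))))))) := by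
      rw [r30 t]
    have hp := hp1.symm.trans hp2
    have hu : X * (Y * (Y * (X * (Y * (Y * (X * (Y * (X * (Y * (X * (Y * (X * (Y * (Y * (X * (Y * (X * (Y * (Y * t))))))))))))))))))) = X * (Y * (Y * (X * (Y * (X * (Y * (Y * (X * (Y * (Y * (X * (Y * (X * (Y * (X * (Y * (Y * t))))))))))))))))) := by
      rw [r11 (Y * (X * (Y * (X * (Y * (Y * t))))))]
    have hv : Y * (X * (Y * (X * (Y * (X * (Y * (X * (X * (Y * (X * (Y * (X * (Y * (X * (Y * (Y * (X * (Y * (Y * (X * t)))))))))))))))))))) = X * (Y * (X * (Y * (X * (Y * (X * (Y * (Y * (X * (Y * (Y * (X * (Y * (X * t)))))))))))))) := by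
      rw [r0 (Y * (X * (Y * (X * (Y * (X * (Y * (Y * (X * (Y * (Y * (X * t)))))))))))), r22 (Y * (X * (Y * (Y * (X * t))))), r11 (Y * (X * t))]
    exact hu.symm.trans (hp.trans hv)
  have r40 : ∀ t : H, Y * (Y * (X * (Y * (X * (Y * (Y * (X * (Y * (Y * (X * (Y * (X * (Y * (X * (Y * (Y * t)))))))))))))))) = Y * (X * (Y * (X * (Y * (X * (Y * (Y * (X * (Y * (Y * (X * (Y * (X * t))))))))))))) := by
    intro t
    have hp1 : X * (X * (Y * (Y * (X * (Y * (X * (Y * (Y * (X * (Y * (Y * (X * (Y * (X * (Y * (X * (Y * (Y * t)))))))))))))))))) = Y * (Y * (X * (Y * (X * (Y * (Y * (X * (Y * (Y * (X * (Y * (X * (Y * (X * (Y * (Y * t)))))))))))))))) := by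
      rw [r0 (Y * (Y * (X * (Y * (X * (Y * (Y * (X * (Y * (Y * (X * (Y * (X * (Y * (X * (Y * (Y * t)))))))))))))))))]
    have hp2 : X * (X * (Y * (Y * (X * (Y * (X * (Y * (Y * (X * (Y * (Y * (X * (Y * (X * (Y * (X * (Y * (Y * t)))))))))))))))))) = X * (X * (Y * (X * (Y * (X * (Y * (X * (Y * (Y * (X * (Y * (Y * (X * (Y * (X * t))))))))))))))) := by
      rw [r39 t]
    have hp := hp1.symm.trans hp2
    have hu : Y * (Y * (X * (Y * (X * (Y * (Y * (X * (Y * (Y * (X * (Y * (X * (Y * (X * (Y * (Y * t)))))))))))))))) = Y * (Y * (X * (Y * (X * (Y * (Y * (X * (Y * (Y * (X * (Y * (X * (Y * (X * (Y * (Y * t)))))))))))))))) := rfl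
    have hv : X * (X * (Y * (X * (Y * (X * (Y * (X * (Y * (Y * (X * (Y * (Y * (X * (Y * (X * t))))))))))))))) = Y * (X * (Y * (X * (Y * (X * (Y * (Y * (X * (Y * (Y * (X * (Y * (X * t))))))))))))) := by
      rw [r0 (Y * (X * (Y * (X * (Y * (X * (Y * (Y * (X * (Y * (Y * (X * (Y * (X * t))))))))))))))]
    exact hu.symm.trans (hp.trans hv)
  have r41 : ∀ t : H, Y * (X * (Y * (X * (Y * (Y * (X * (Y * (Y * (X * (Y * (X * (Y * (X * (Y * (Y * t))))))))))))))) = X * (Y * (X * (Y * (X * (Y * (Y * (X * (Y * (Y * (X * (Y * (X * t)))))))))))) := by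
    intro t
    have hp1 : Y * (Y * (Y * (Y * (X * (Y * (X * (Y * (Y * (X * (Y * (Y * (X * (Y * (X * (Y * (X * (Y * (Y * t)))))))))))))))))) = Y * (X * (Y * (X * (Y * (Y * (X * (Y * (Y * (X * (Y * (X * (Y * (X * (Y * (Y * t))))))))))))))) := by
      rw [r1 (Y * (X * (Y * (X * (Y * (Y * (X * (Y * (Y * (X * (Y * (X * (Y * (X * (Y * (Y * t))))))))))))))))]
    have hp2 : Y * (Y * (Y * (Y * (X * (Y * (X * (Y * (Y * (X * (Y * (Y * (X * (Y * (X * (Y * (X * (Y * (Y * t)))))))))))))))))) = Y * (Y * (Y * (X * (Y * (X * (Y * (X * (Y * (Y * (X * (Y * (Y * (X * (Y * (X * t))))))))))))))) := by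
      rw [r40 t]
    have hp := hp1.symm.trans hp2
    have hu : Y * (X * (Y * (X * (Y * (Y * (X * (Y * (Y * (X * (Y * (X * (Y * (X * (Y * (Y * t))))))))))))))) = Y * (X * (Y * (X * (Y * (Y * (X * (Y * (Y * (X * (Y * (X * (Y * (X * (Y * (Y * t))))))))))))))) := rfl
    have hv : Y * (Y * (Y * (X * (Y * (X * (Y * (X * (Y * (Y * (X * (Y * (Y * (X * (Y * (X * t))))))))))))))) = X * (Y * (X * (Y * (X * (Y * (Y * (X * (Y * (Y * (X * (Y * (X * t)))))))))))) := by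
      rw [r1 (X * (Y * (X * (Y * (X * (Y * (Y * (X * (Y * (Y * (X * (Y * (X * t)))))))))))))]
    exact hu.symm.trans (hp.trans hv)
  have r42 : ∀ t : H, Y * (Y * (X * (Y * (X * (Y * (X * (Y * (Y * (X * (Y * (Y * (X * (Y * (X * t)))))))))))))) = X * (Y * (X * (Y * (Y * (X * (Y * (Y * (X * (Y * (X * (Y * (X * (Y * (Y * t)))))))))))))) := by
    intro t
    have hp1 : Y * (Y * (Y * (X * (Y * (X * (Y * (Y * (X * (Y * (Y * (X * (Y * (X * (Y * (X * (Y * (Y * t))))))))))))))))) = X * (Y * (X * (Y * (Y * (X * (Y * (Y * (X * (Y * (X * (Y * (X * (Y * (Y * t)))))))))))))) := by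
      rw [r1 (X * (Y * (X * (Y * (Y * (X * (Y * (Y * (X * (Y * (X * (Y * (X * (Y * (Y * t)))))))))))))))]
    have hp2 : Y * (Y * (Y * (X * (Y * (X * (Y * (Y * (X * (Y * (Y * (X * (Y * (X * (Y * (X * (Y * (Y * t))))))))))))))))) = Y * (Y * (X * (Y * (X * (Y * (X * (Y * (Y * (X * (Y * (Y * (X * (Y * (X * t)))))))))))))) := by
      rw [r40 t]
    have hp := hp1.symm.trans hp2
    have hu : X * (Y * (X * (Y * (Y * (X * (Y * (Y * (X * (Y * (X * (Y * (X * (Y * (Y * t)))))))))))))) = X * (Y * (X * (Y * (Y * (X * (Y * (Y * (X * (Y * (X * (Y * (X * (Y * (Y * t)))))))))))))) := rfl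
    have hv : Y * (Y * (X * (Y * (X * (Y * (X * (Y * (Y * (X * (Y * (Y * (X * (Y * (X * t)))))))))))))) = Y * (Y * (X * (Y * (X * (Y * (X * (Y * (Y * (X * (Y * (Y * (X * (Y * (X * t)))))))))))))) := rfl
    exact hv.symm.trans (hp.symm.trans hu)
  have r43 : ∀ t : H, Y * (X * (Y * (Y * (X * (Y * (X * (Y * (X * (Y * (Y * (X * (Y * (Y * (X * t)))))))))))))) = X * (Y * (X * (Y * (Y * (X * (Y * (Y * (X * (Y * (X * (Y * t))))))))))) := by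
    intro t
    have hp1 : Y * (X * (Y * (X * (Y * (X * (Y * (X * (Y * (Y * (X * (Y * (X * (Y * (X * (Y * (Y * (X * (Y * (Y * (X * (Y * (X * t)))))))))))))))))))))) = X * (Y * (Y * (X * (Y * (Y * (X * (Y * (X * (Y * (X * (Y * (X * (Y * (Y * (X * (Y * (Y * (X * (Y * (X * t)))))))))))))))))))) := by
      rw [r11 (Y * (X * (Y * (X * (Y * (X * (Y * (Y * (X * (Y * (Y * (X * (Y * (X * t))))))))))))))]
    have hp2 : Y * (X * (Y * (X * (Y * (X * (Y * (X * (Y * (Y * (X * (Y * (X * (Y * (X * (Y * (Y * (X * (Y * (Y * (X * (Y * (X * t)))))))))))))))))))))) = Y * (X * (Y * (X * (Y * (X * (Y * (X * (X * (Y * (X * (Y * (Y * (X * (Y * (Y * (X * (Y * (X * (Y * (X * (Y * (Y * t)))))))))))))))))))))) := by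
      rw [r42 t]
    have hp := hp1.symm.trans hp2
    have hu : X * (Y * (Y * (X * (Y * (Y * (X * (Y * (X * (Y * (X * (Y * (X * (Y * (Y * (X * (Y * (Y * (X * (Y * (X * t)))))))))))))))))))) = X * (Y * (X * (Y * (Y * (X * (Y * (Y * (X * (Y * (X * (Y * t))))))))))) := by
      rw [r11 (Y * (X * (Y * (Y * (X * (Y * (X * t))))))), r32 (X * (Y * (X * t))), r0 (Y * (X * t)), r1 (X * t), r0 (t)]
    have hv : Y * (X * (Y * (X * (Y * (X * (Y * (X * (X * (Y * (X * (Y * (Y * (X * (Y * (Y * (X * (Y * (X * (Y * (X * (Y * (Y * t)))))))))))))))))))))) = Y * (X * (Y * (Y * (X * (Y * (X * (Y * (X * (Y * (Y * (X * (Y * (Y * (X * t)))))))))))))) := by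
      rw [r0 (Y * (X * (Y * (Y * (X * (Y * (Y * (X * (Y * (X * (Y * (X * (Y * (Y * t)))))))))))))), r20 (X * (Y * (X * (Y * (X * (Y * (Y * t))))))), r0 (Y * (X * (Y * (X * (Y * (Y * t)))))), r30 (t), r0 (Y * (X * (Y * (X * (Y * (X * (Y * (Y * (X * (Y * (Y * (X * t))))))))))))]
    exact hv.symm.trans (hp.symm.trans hu)
  have r44 : ∀ t : H, Y * (Y * (X * (Y * (X * (Y * (Y * (X * (Y * (Y * (X * (Y * (X * (Y * t))))))))))))) = X * (Y * (Y * (X * (Y * (X * (Y * (X * (Y * (Y * (X * (Y * (Y * (X * t))))))))))))) := by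
    intro t
    have hp1 : Y * (Y * (Y * (X * (Y * (Y * (X * (Y * (X * (Y * (X * (Y * (Y * (X * (Y * (Y * (X * t)))))))))))))))) = X * (Y * (Y * (X * (Y * (X * (Y * (X * (Y * (Y * (X * (Y * (Y * (X * t))))))))))))) := by
      rw [r1 (X * (Y * (Y * (X * (Y * (X * (Y * (X * (Y * (Y * (X * (Y * (Y * (X * t))))))))))))))]
    have hp2 : Y * (Y * (Y * (X * (Y * (Y * (X * (Y * (X * (Y * (X * (Y * (Y * (X * (Y * (Y * (X * t)))))))))))))))) = Y * (Y * (X * (Y * (X * (Y * (Y * (X * (Y * (Y * (X * (Y * (X * (Y * t))))))))))))) := by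
      rw [r43 t]
    have hp := hp1.symm.trans hp2
    have hu : X * (Y * (Y * (X * (Y * (X * (Y * (X * (Y * (Y * (X * (Y * (Y * (X * t))))))))))))) = X * (Y * (Y * (X * (Y * (X * (Y * (X * (Y * (Y * (X * (Y * (Y * (X * t))))))))))))) := rfl
    have hv : Y * (Y * (X * (Y * (X * (Y * (Y * (X * (Y * (Y * (X * (Y * (X * (Y * t))))))))))))) = Y * (Y * (X * (Y * (X * (Y * (Y * (X * (Y * (Y * (X * (Y * (X * (Y * t))))))))))))) := rfl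
    exact hv.symm.trans (hp.symm.trans hu)
  have r45 : ∀ t : H, Y * (X * (Y * (X * (Y * (Y * (X * (Y * (X * (Y * (X * (Y * (Y * (X * (Y * t)))))))))))))) = X * (Y * (X * (Y * (X * (Y * (X * (Y * (Y * (X * (Y * (X * (Y * (Y * t))))))))))))) := by
    intro t
    have hp1 : Y * (X * (Y * (X * (Y * (X * (Y * (X * (Y * (X * (Y * (Y * (X * (Y * (X * (Y * (X * (Y * (Y * (X * (Y * (Y * (X * t)))))))))))))))))))))) = X * (Y * (Y * (X * (Y * (Y * (X * (X * (Y * (Y * (X * (Y * (X * (Y * (X * (Y * (Y * (X * (Y * (Y * (X * t)))))))))))))))))))) := by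
      rw [r11 (X * (Y * (Y * (X * (Y * (X * (Y * (X * (Y * (Y * (X * (Y * (Y * (X * t))))))))))))))]
    have hp2 : Y * (X * (Y * (X * (Y * (X * (Y * (X * (Y * (X * (Y * (Y * (X * (Y * (X * (Y * (X * (Y * (Y * (X * (Y * (Y * (X * t)))))))))))))))))))))) = Y * (X * (Y * (X * (Y * (X * (Y * (X * (X * (Y * (X * (Y * (Y * (X * (Y * (Y * (X * (Y * (X * (Y * t))))))))))))))))))) := by
      rw [r43 t]
    have hp := hp1.symm.trans hp2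
    have hu : X * (Y * (Y * (X * (Y * (Y * (X * (X * (Y * (Y * (X * (Y * (X * (Y * (X * (Y * (Y * (X * (Y * (Y * (X * t)))))))))))))))))))) = X * (Y * (X * (Y * (X * (Y * (X * (Y * (Y * (X * (Y * (X * (Y * (Y * t))))))))))))) := by
      rw [r0 (Y * (Y * (X * (Y * (X * (Y * (X * (Y * (Y * (X * (Y * (Y * (X * t))))))))))))), r1 (Y * (X * (Y * (X * (Y * (X * (Y * (Y * (X * (Y * (Y * (X * t)))))))))))), r11 (Y * (X * (Y * (Y * (X * t))))), r19 (t)]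
    have hv : Y * (X * (Y * (X * (Y * (X * (Y * (X * (X * (Y * (X * (Y * (Y * (X * (Y * (Y * (X * (Y * (X * (Y * t))))))))))))))))))) = Y * (X * (Y * (X * (Y * (Y * (X * (Y * (X * (Y * (X * (Y * (Y * (X * (Y * t)))))))))))))) := by
      rw [r0 (Y * (X * (Y * (Y * (X * (Y * (Y * (X * (Y * (X * (Y * t))))))))))), r20 (X * (Y * (X * (Y * t)))), r0 (Y * (X * (Y * t)))]
    exact hv.symm.trans (hp.symm.trans hu)
  have r46 : ∀ t : H, X * (Y * (X * (Y * (Y * (X * (Y * (Y * (X * (Y * (X * (Y * (X * (Y * (Y * t)))))))))))))) = Y * (X * (Y * (Y * (X * (Y * (X * (Y * (X * (Y * (Y * (X * (Y * t)))))))))))) := by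
    intro t
    have hp1 : Y * (X * (Y * (X * (Y * (X * (Y * (X * (Y * (Y * (X * (Y * (X * (Y * (X * (Y * (Y * (X * (Y * (Y * (X * t)))))))))))))))))))) = X * (Y * (Y * (X * (Y * (Y * (X * (Y * (X * (Y * (X * (Y * (X * (Y * (Y * (X * (Y * (Y * (X * t)))))))))))))))))) := by
      rw [r11 (Y * (X * (Y * (X * (Y * (X * (Y * (Y * (X * (Y * (Y * (X * t))))))))))))]
    have hp2 : Y * (X * (Y * (X * (Y * (X * (Y * (X * (Y * (Y * (X * (Y * (X * (Y * (X * (Y * (Y * (X * (Y * (Y * (X * t)))))))))))))))))))) = Y * (X * (Y * (X * (Y * (X * (X * (Y * (X * (Y * (Y * (X * (Y * (Y * (X * (Y * (X * (Y * t))))))))))))))))) := by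
      rw [r43 t]
    have hp := hp1.symm.trans hp2
    have hu : X * (Y * (Y * (X * (Y * (Y * (X * (Y * (X * (Y * (X * (Y * (X * (Y * (Y * (X * (Y * (Y * (X * t)))))))))))))))))) = X * (Y * (X * (Y * (Y * (X * (Y * (Y * (X * (Y * (X * (Y * (X * (Y * (Y * t)))))))))))))) := by
      rw [r11 (Y * (X * (Y * (Y * (X * t))))), r44 (Y * (X * t)), r0 (Y * (Y * (X * (Y * (X * (Y * (X * (Y * (Y * (X * (Y * (Y * (X * (Y * (X * t))))))))))))))), r42 (t)]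
    have hv : Y * (X * (Y * (X * (Y * (X * (X * (Y * (X * (Y * (Y * (X * (Y * (Y * (X * (Y * (X * (Y * t))))))))))))))))) = Y * (X * (Y * (Y * (X * (Y * (X * (Y * (X * (Y * (Y * (X * (Y * t)))))))))))) := by
      rw [r0 (Y * (X * (Y * (Y * (X * (Y * (Y * (X * (Y * (X * (Y * t))))))))))), r20 (X * (Y * (X * (Y * t)))), r0 (Y * (X * (Y * t)))]
    exact hu.symm.trans (hp.trans hv)
  have r47 : ∀ t : H, Y * (Y * (X * (Y * (Y * (X * (Y * (X * (Y * (X * (Y * (Y * (X * (Y * t))))))))))))) = X * (Y * (X * (Y * (X * (Y * (Y * (X * (Y * (Y * (X * (Y * (X * t)))))))))))) := by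
    intro t
    have hp := r41 t
    have hu : Y * (X * (Y * (X * (Y * (Y * (X * (Y * (Y * (X * (Y * (X * (Y * (X * (Y * (Y * t))))))))))))))) = Y * (Y * (X * (Y * (Y * (X * (Y * (X * (Y * (X * (Y * (Y * (X * (Y * t))))))))))))) := by
      rw [r46 (t)]
    have hv : X * (Y * (X * (Y * (X * (Y * (Y * (X * (Y * (Y * (X * (Y * (X * t)))))))))))) = X * (Y * (X * (Y * (X * (Y * (Y * (X * (Y * (Y * (X * (Y * (X * t)))))))))))) := rfl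
    exact hu.symm.trans (hp.trans hv)
  have r48 : ∀ t : H, Y * (X * (Y * (Y * (X * (Y * (Y * (X * (Y * (X * (Y * (X * (Y * (Y * t))))))))))))) = X * (Y * (X * (Y * (Y * (X * (Y * (X * (Y * (X * (Y * (Y * (X * (Y * t))))))))))))) := by
    intro t
    have hp1 : X * (X * (Y * (X * (Y * (Y * (X * (Y * (Y * (X * (Y * (X * (Y * (X * (Y * (Y * t))))))))))))))) = Y * (X * (Y * (Y * (X * (Y * (Y * (X * (Y * (X * (Y * (X * (Y * (Y * t))))))))))))) := by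
      rw [r0 (Y * (X * (Y * (Y * (X * (Y * (Y * (X * (Y * (X * (Y * (X * (Y * (Y * t))))))))))))))]
    have hp2 : X * (X * (Y * (X * (Y * (Y * (X * (Y * (Y * (X * (Y * (X * (Y * (X * (Y * (Y * t))))))))))))))) = X * (Y * (X * (Y * (Y * (X * (Y * (X * (Y * (X * (Y * (Y * (X * (Y * t))))))))))))) := by
      rw [r46 t]
    have hp := hp1.symm.trans hp2
    have hu : Y * (X * (Y * (Y * (X * (Y * (Y * (X * (Y * (X * (Y * (X * (Y * (Y * t))))))))))))) = Y * (X * (Y * (Y * (X * (Y * (Y * (X * (Y * (X * (Y * (X * (Y * (Y * t))))))))))))) := rfl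
    have hv : X * (Y * (X * (Y * (Y * (X * (Y * (X * (Y * (X * (Y * (Y * (X * (Y * t))))))))))))) = X * (Y * (X * (Y * (Y * (X * (Y * (X * (Y * (X * (Y * (Y * (X * (Y * t))))))))))))) := rfl
    exact hu.symm.trans (hp.trans hv)
  have r49 : ∀ t : H, Y * (X * (Y * (X * (Y * (X * (Y * (Y * (X * (Y * (Y * (X * (Y * (X * t))))))))))))) = X * (Y * (Y * (X * (Y * (X * (Y * (X * (Y * (Y * (X * (Y * t))))))))))) := by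
    intro t
    have hp1 : Y * (Y * (Y * (X * (Y * (Y * (X * (Y * (X * (Y * (X * (Y * (Y * (X * (Y * t)))))))))))))) = X * (Y * (Y * (X * (Y * (X * (Y * (X * (Y * (Y * (X * (Y * t))))))))))) := by
      rw [r1 (X * (Y * (Y * (X * (Y * (X * (Y * (X * (Y * (Y * (X * (Y * t))))))))))))]
    have hp2 : Y * (Y * (Y * (X * (Y * (Y * (X * (Y * (X * (Y * (X * (Y * (Y * (X * (Y * t)))))))))))))) = Y * (X * (Y * (X * (Y * (X * (Y * (Y * (X * (Y * (Y * (X * (Y * (X * t))))))))))))) := by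
      rw [r47 t]
    have hp := hp1.symm.trans hp2
    have hu : X * (Y * (Y * (X * (Y * (X * (Y * (X * (Y * (Y * (X * (Y * t))))))))))) = X * (Y * (Y * (X * (Y * (X * (Y * (X * (Y * (Y * (X * (Y * t))))))))))) := rfl
    have hv : Y * (X * (Y * (X * (Y * (X * (Y * (Y * (X * (Y * (Y * (X * (Y * (X * t))))))))))))) = Y * (X * (Y * (X * (Y * (X * (Y * (Y * (X * (Y * (Y * (X * (Y * (X * t))))))))))))) := rfl
    exact hv.symm.trans (hp.symm.trans hu)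
  have r50 : ∀ t : H, X * (Y * (Y * (X * (Y * (X * (Y * (Y * (X * (Y * (X * t)))))))))) = Y * (Y * (X * (Y * (X * (Y * (Y * (X * (Y * t)))))))) := by
    intro t
    have hp1 : Y * (X * (Y * (X * (Y * (X * (Y * (X * (Y * (X * (Y * (Y * (X * (Y * (Y * (X * (Y * (X * t))))))))))))))))) = X * (Y * (Y * (X * (Y * (Y * (X * (X * (Y * (Y * (X * (Y * (Y * (X * (Y * (X * t))))))))))))))) := by
      rw [r11 (X * (Y * (Y * (X * (Y * (Y * (X * (Y * (X * t)))))))))]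
    have hp2 : Y * (X * (Y * (X * (Y * (X * (Y * (X * (Y * (X * (Y * (Y * (X * (Y * (Y * (X * (Y * (X * t))))))))))))))))) = Y * (X * (Y * (X * (X * (Y * (Y * (X * (Y * (X * (Y * (X * (Y * (Y * (X * (Y * t))))))))))))))) := by
      rw [r49 t]
    have hp := hp1.symm.trans hp2
    have hu : X * (Y * (Y * (X * (Y * (Y * (X * (X * (Y * (Y * (X * (Y * (Y * (X * (Y * (X * t))))))))))))))) = X * (Y * (Y * (X * (Y * (X * (Y * (Y * (X * (Y * (X * t)))))))))) := by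
      rw [r0 (Y * (Y * (X * (Y * (Y * (X * (Y * (X * t)))))))), r1 (Y * (X * (Y * (Y * (X * (Y * (X * t)))))))]
    have hv : Y * (X * (Y * (X * (X * (Y * (Y * (X * (Y * (X * (Y * (X * (Y * (Y * (X * (Y * t))))))))))))))) = Y * (Y * (X * (Y * (X * (Y * (Y * (X * (Y * t)))))))) := by
      rw [r0 (Y * (Y * (X * (Y * (X * (Y * (X * (Y * (Y * (X * (Y * t))))))))))), r1 (X * (Y * (X * (Y * (X * (Y * (Y * (X * (Y * t))))))))), r0 (Y * (X * (Y * (X * (Y * (Y * (X * (Y * t))))))))]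
    exact hu.symm.trans (hp.trans hv)
  have r51 : ∀ t : H, Y * (Y * (X * (Y * (X * (Y * (Y * (X * (Y * (X * t))))))))) = X * (Y * (Y * (X * (Y * (X * (Y * (Y * (X * (Y * t))))))))) := by
    intro t
    have hp1 : X * (X * (Y * (Y * (X * (Y * (X * (Y * (Y * (X * (Y * (X * t))))))))))) = Y * (Y * (X * (Y * (X * (Y * (Y * (X * (Y * (X * t))))))))) := by
      rw [r0 (Y * (Y * (X * (Y * (X * (Y * (Y * (X * (Y * (X * t))))))))))]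
    have hp2 : X * (X * (Y * (Y * (X * (Y * (X * (Y * (Y * (X * (Y * (X * t))))))))))) = X * (Y * (Y * (X * (Y * (X * (Y * (Y * (X * (Y * t))))))))) := by
      rw [r50 t]
    have hp := hp1.symm.trans hp2
    have hu : Y * (Y * (X * (Y * (X * (Y * (Y * (X * (Y * (X * t))))))))) = Y * (Y * (X * (Y * (X * (Y * (Y * (X * (Y * (X * t))))))))) := rfl
    have hv : X * (Y * (Y * (X * (Y * (X * (Y * (Y * (X * (Y * t))))))))) = X * (Y * (Y * (X * (Y * (X * (Y * (Y * (X * (Y * t))))))))) := rfl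
    exact hu.symm.trans (hp.trans hv)
  have r52 : ∀ t : H, Y * (X * (Y * (Y * (X * (Y * (X * (Y * (X * (Y * (Y * (X * (Y * (Y * t))))))))))))) = X * (Y * (X * (Y * (Y * (X * (Y * (Y * (X * (Y * (X * (Y * (X * t)))))))))))) := by
    intro t
    have hp1 : Y * (Y * (X * (Y * (Y * (X * (Y * (Y * (X * (Y * (X * (Y * (X * (Y * (Y * (X * (Y * (Y * (X * t)))))))))))))))))) = X * (Y * (X * (Y * (X * (Y * (X * (Y * (Y * (X * (Y * (X * (Y * (Y * (X * (Y * (Y * (X * t))))))))))))))))) := by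
      rw [r15 (Y * (X * (Y * (X * (Y * (Y * (X * (Y * (Y * (X * t))))))))))]
    have hp2 : Y * (Y * (X * (Y * (Y * (X * (Y * (Y * (X * (Y * (X * (Y * (X * (Y * (Y * (X * (Y * (Y * (X * t)))))))))))))))))) = Y * (Y * (X * (Y * (X * (Y * (X * (Y * (Y * (X * (Y * (Y * (X * (Y * (X * (Y * t))))))))))))))) := by
      rw [r43 t]
    have hp := hp1.symm.trans hp2
    have hu : X * (Y * (X * (Y * (X * (Y * (X * (Y * (Y * (X * (Y * (X * (Y * (Y * (X * (Y * (Y * (X * t))))))))))))))))) = X * (Y * (X * (Y * (Y * (X * (Y * (Y * (X * (Y * (X * (Y * (X * t)))))))))))) := by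
      rw [r19 (Y * (Y * (X * t))), r0 (Y * (X * (Y * (Y * (X * (Y * (X * (Y * (Y * (Y * (Y * (X * t)))))))))))), r1 (Y * (X * t))]
    have hv : Y * (Y * (X * (Y * (X * (Y * (X * (Y * (Y * (X * (Y * (Y * (X * (Y * (X * (Y * t))))))))))))))) = Y * (X * (Y * (Y * (X * (Y * (X * (Y * (X * (Y * (Y * (X * (Y * (Y * t))))))))))))) := by
      rw [r49 (Y * t)]
    exact hv.symm.trans (hp.symm.trans hu)
  have r53 : ∀ t : H, Y * (Y * (X * (Y * (X * (Y * (X * (Y * (Y * (X * (Y * (Y * (X * (Y * t))))))))))))) = Y * (X * (Y * (Y * (X * (Y * (X * (Y * (X * (Y * (Y * (X * (Y * (X * t))))))))))))) := by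
    intro t
    have hp1 : Y * (X * (Y * (X * (Y * (X * (Y * (X * (Y * (Y * (X * (Y * (X * (Y * (X * (Y * (Y * (X * (Y * (Y * t))))))))))))))))))) = X * (Y * (Y * (X * (Y * (Y * (X * (Y * (X * (Y * (X * (Y * (X * (Y * (Y * (X * (Y * (Y * t))))))))))))))))) := by
      rw [r11 (Y * (X * (Y * (X * (Y * (X * (Y * (Y * (X * (Y * (Y * t)))))))))))]
    have hp2 : Y * (X * (Y * (X * (Y * (X * (Y * (X * (Y * (Y * (X * (Y * (X * (Y * (X * (Y * (Y * (X * (Y * (Y * t))))))))))))))))))) = Y * (X * (Y * (X * (Y * (X * (X * (Y * (X * (Y * (Y * (X * (Y * (Y * (X * (Y * (X * (Y * (X * t)))))))))))))))))) := by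
      rw [r52 t]
    have hp := hp1.symm.trans hp2
    have hu : X * (Y * (Y * (X * (Y * (Y * (X * (Y * (X * (Y * (X * (Y * (X * (Y * (Y * (X * (Y * (Y * t))))))))))))))))) = Y * (Y * (X * (Y * (X * (Y * (X * (Y * (Y * (X * (Y * (Y * (X * (Y * t))))))))))))) := by
      rw [r11 (Y * (X * (Y * (Y * t)))), r44 (Y * t), r0 (Y * (Y * (X * (Y * (X * (Y * (X * (Y * (Y * (X * (Y * (Y * (X * (Y * t))))))))))))))]
    have hv : Y * (X * (Y * (X * (Y * (X * (X * (Y * (X * (Y * (Y * (X * (Y * (Y * (X * (Y * (X * (Y * (X * t)))))))))))))))))) = Y * (X * (Y * (Y * (X * (Y * (X * (Y * (X * (Y * (Y * (X * (Y * (X * t))))))))))))) := by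
      rw [r0 (Y * (X * (Y * (Y * (X * (Y * (Y * (X * (Y * (X * (Y * (X * t)))))))))))), r20 (X * (Y * (X * (Y * (X * t))))), r0 (Y * (X * (Y * (X * t))))]
    exact hu.symm.trans (hp.trans hv)
  have r54 : ∀ t : H, Y * (X * (Y * (X * (Y * (X * (Y * (Y * (X * (Y * (Y * (X * (Y * t)))))))))))) = X * (Y * (Y * (X * (Y * (X * (Y * (X * (Y * (Y * (X * (Y * (X * t)))))))))))) := by
    intro t
    have hp1 : Y * (Y * (Y * (Y * (X * (Y * (X * (Y * (X * (Y * (Y * (X * (Y * (Y * (X * (Y * t))))))))))))))) = Y * (X * (Y * (X * (Y * (X * (Y * (Y * (X * (Y * (Y * (X * (Y * t)))))))))))) := by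
      rw [r1 (Y * (X * (Y * (X * (Y * (X * (Y * (Y * (X * (Y * (Y * (X * (Y * t)))))))))))))]
    have hp2 : Y * (Y * (Y * (Y * (X * (Y * (X * (Y * (X * (Y * (Y * (X * (Y * (Y * (X * (Y * t))))))))))))))) = Y * (Y * (Y * (X * (Y * (Y * (X * (Y * (X * (Y * (X * (Y * (Y * (X * (Y * (X * t))))))))))))))) := by
      rw [r53 t]
    have hp := hp1.symm.trans hp2
    have hu : Y * (X * (Y * (X * (Y * (X * (Y * (Y * (X * (Y * (Y * (X * (Y * t)))))))))))) = Y * (X * (Y * (X * (Y * (X * (Y * (Y * (X * (Y * (Y * (X * (Y * t)))))))))))) := rfl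
    have hv : Y * (Y * (Y * (X * (Y * (Y * (X * (Y * (X * (Y * (X * (Y * (Y * (X * (Y * (X * t))))))))))))))) = X * (Y * (Y * (X * (Y * (X * (Y * (X * (Y * (Y * (X * (Y * (X * t)))))))))))) := by
      rw [r1 (X * (Y * (Y * (X * (Y * (X * (Y * (X * (Y * (Y * (X * (Y * (X * t)))))))))))))]
    exact hu.symm.trans (hp.trans hv)
  have r55 : ∀ t : H, X * (Y * (X * (Y * (Y * (X * (Y * (Y * (X * (Y * (X * (Y * (X * (Y * t))))))))))))) = Y * (X * (Y * (Y * (X * (Y * (X * (Y * (X * (Y * (Y * (X * t))))))))))) := by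
    intro t
    have hp1 : Y * (Y * (X * (Y * (Y * (X * (Y * (Y * (X * (Y * (X * (Y * (X * (Y * (Y * (X * (Y * (Y * (X * (Y * t))))))))))))))))))) = X * (Y * (X * (Y * (X * (Y * (X * (Y * (Y * (X * (Y * (X * (Y * (Y * (X * (Y * (Y * (X * (Y * t)))))))))))))))))) := by
      rw [r15 (Y * (X * (Y * (X * (Y * (Y * (X * (Y * (Y * (X * (Y * t)))))))))))]
    have hp2 : Y * (Y * (X * (Y * (Y * (X * (Y * (Y * (X * (Y * (X * (Y * (X * (Y * (Y * (X * (Y * (Y * (X * (Y * t))))))))))))))))))) = Y * (Y * (X * (Y * (Y * (X * (Y * (X * (Y * (Y * (X * (Y * (X * (Y * (X * (Y * (Y * (X * (Y * (X * t))))))))))))))))))) := by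
      rw [r54 t]
    have hp := hp1.symm.trans hp2
    have hu : X * (Y * (X * (Y * (X * (Y * (X * (Y * (Y * (X * (Y * (X * (Y * (Y * (X * (Y * (Y * (X * (Y * t)))))))))))))))))) = X * (Y * (X * (Y * (Y * (X * (Y * (Y * (X * (Y * (X * (Y * (X * (Y * t))))))))))))) := by
      rw [r19 (Y * (Y * (X * (Y * t)))), r0 (Y * (X * (Y * (Y * (X * (Y * (X * (Y * (Y * (Y * (Y * (X * (Y * t))))))))))))), r1 (Y * (X * (Y * t)))]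
    have hv : Y * (Y * (X * (Y * (Y * (X * (Y * (X * (Y * (Y * (X * (Y * (X * (Y * (X * (Y * (Y * (X * (Y * (X * t))))))))))))))))))) = Y * (X * (Y * (Y * (X * (Y * (X * (Y * (X * (Y * (Y * (X * t))))))))))) := by
      rw [r19 (Y * (X * (Y * (X * (Y * (Y * (X * (Y * (X * t))))))))), r1 (X * (Y * (X * (Y * (Y * (X * (Y * (X * t)))))))), r0 (Y * (X * (Y * (Y * (X * (Y * (X * t))))))), r20 (X * (Y * (X * t))), r0 (Y * (X * t))]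
    exact hu.symm.trans (hp.trans hv)
  have r56 : ∀ t : H, Y * (X * (Y * (Y * (X * (Y * (Y * (X * (Y * (X * (Y * (X * (Y * t)))))))))))) = X * (Y * (X * (Y * (Y * (X * (Y * (X * (Y * (X * (Y * (Y * (X * t)))))))))))) := by
    intro t
    have hp1 : X * (X * (Y * (X * (Y * (Y * (X * (Y * (Y * (X * (Y * (X * (Y * (X * (Y * t)))))))))))))) = Y * (X * (Y * (Y * (X * (Y * (Y * (X * (Y * (X * (Y * (X * (Y * t)))))))))))) := by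
      rw [r0 (Y * (X * (Y * (Y * (X * (Y * (Y * (X * (Y * (X * (Y * (X * (Y * t)))))))))))))]
    have hp2 : X * (X * (Y * (X * (Y * (Y * (X * (Y * (Y * (X * (Y * (X * (Y * (X * (Y * t)))))))))))))) = X * (Y * (X * (Y * (Y * (X * (Y * (X * (Y * (X * (Y * (Y * (X * t)))))))))))) := by
      rw [r55 t]
    have hp := hp1.symm.trans hp2
    have hu : Y * (X * (Y * (Y * (X * (Y * (Y * (X * (Y * (X * (Y * (X * (Y * t)))))))))))) = Y * (X * (Y * (Y * (X * (Y * (Y * (X * (Y * (X * (Y * (X * (Y * t)))))))))))) := rfl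
    have hv : X * (Y * (X * (Y * (Y * (X * (Y * (X * (Y * (X * (Y * (Y * (X * t)))))))))))) = X * (Y * (X * (Y * (Y * (X * (Y * (X * (Y * (X * (Y * (Y * (X * t)))))))))))) := rfl
    exact hu.symm.trans (hp.trans hv)
  have r57 : ∀ t : H, Y * (X * (Y * (X * (Y * (Y * (X * (Y * (X * (Y * (X * (Y * (Y * (X * t))))))))))))) = X * (Y * (X * (Y * (X * (Y * (X * (Y * (Y * (X * (Y * (X * (Y * t)))))))))))) := by
    intro t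
    have hp1 : Y * (Y * (X * (Y * (Y * (X * (Y * (Y * (X * (Y * (X * (Y * (X * (Y * t))))))))))))) = X * (Y * (X * (Y * (X * (Y * (X * (Y * (Y * (X * (Y * (X * (Y * t)))))))))))) := by
      rw [r15 (Y * (X * (Y * (X * (Y * t)))))]
    have hp2 : Y * (Y * (X * (Y * (Y * (X * (Y * (Y * (X * (Y * (X * (Y * (X * (Y * t))))))))))))) = Y * (X * (Y * (X * (Y * (Y * (X * (Y * (X * (Y * (X * (Y * (Y * (X * t))))))))))))) := by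
      rw [r56 t]
    have hp := hp1.symm.trans hp2
    have hu : X * (Y * (X * (Y * (X * (Y * (X * (Y * (Y * (X * (Y * (X * (Y * t)))))))))))) = X * (Y * (X * (Y * (X * (Y * (X * (Y * (Y * (X * (Y * (X * (Y * t)))))))))))) := rfl
    have hv : Y * (X * (Y * (X * (Y * (Y * (X * (Y * (X * (Y * (X * (Y * (Y * (X * t))))))))))))) = Y * (X * (Y * (X * (Y * (Y * (X * (Y * (X * (Y * (X * (Y * (Y * (X * t))))))))))))) := rfl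
    exact hv.symm.trans (hp.symm.trans hu)
  have r58 : ∀ t : H, Y * (X * (Y * (Y * (X * (Y * (X * (Y * (X * (Y * (Y * (X * (Y * (X * (Y * t)))))))))))))) = X * (Y * (Y * (X * (Y * (X * (Y * (Y * (X * (Y * (Y * (X * (Y * (X * t))))))))))))) := by
    intro t
    have hp1 : Y * (X * (Y * (X * (Y * (X * (Y * (X * (Y * (Y * (X * (Y * (X * (Y * (X * (Y * (Y * (X * t))))))))))))))))) = X * (Y * (Y * (X * (Y * (Y * (X * (Y * (X * (Y * (X * (Y * (X * (Y * (Y * (X * t))))))))))))))) := by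
      rw [r11 (Y * (X * (Y * (X * (Y * (X * (Y * (Y * (X * t)))))))))]
    have hp2 : Y * (X * (Y * (X * (Y * (X * (Y * (X * (Y * (Y * (X * (Y * (X * (Y * (X * (Y * (Y * (X * t))))))))))))))))) = Y * (X * (Y * (X * (X * (Y * (X * (Y * (X * (Y * (X * (Y * (Y * (X * (Y * (X * (Y * t)))))))))))))))) := by
      rw [r57 t]
    have hp := hp1.symm.trans hp2
    have hu : X * (Y * (Y * (X * (Y * (Y * (X * (Y * (X * (Y * (X * (Y * (X * (Y * (Y * (X * t))))))))))))))) = X * (Y * (Y * (X * (Y * (X * (Y * (Y * (X * (Y * (Y * (X * (Y * (X * t))))))))))))) := by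
      rw [r11 (Y * (X * t))]
    have hv : Y * (X * (Y * (X * (X * (Y * (X * (Y * (X * (Y * (X * (Y * (Y * (X * (Y * (X * (Y * t)))))))))))))))) = Y * (X * (Y * (Y * (X * (Y * (X * (Y * (X * (Y * (Y * (X * (Y * (X * (Y * t)))))))))))))) := by
      rw [r0 (Y * (X * (Y * (X * (Y * (X * (Y * (Y * (X * (Y * (X * (Y * t))))))))))))]
    exact hv.symm.trans (hp.symm.trans hu)
  have r59 : ∀ t : H, X * (Y * (Y * (X * (Y * (X * (Y * (X * (Y * (Y * (X * (Y * (X * (Y * t))))))))))))) = Y * (X * (Y * (X * (Y * (Y * (X * (Y * (X * (Y * (X * (Y * (X * t)))))))))))) := by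
    intro t
    have hp1 : Y * (Y * (Y * (X * (Y * (Y * (X * (Y * (X * (Y * (X * (Y * (Y * (X * (Y * (X * (Y * t)))))))))))))))) = X * (Y * (Y * (X * (Y * (X * (Y * (X * (Y * (Y * (X * (Y * (X * (Y * t))))))))))))) := by
      rw [r1 (X * (Y * (Y * (X * (Y * (X * (Y * (X * (Y * (Y * (X * (Y * (X * (Y * t))))))))))))))]
    have hp2 : Y * (Y * (Y * (X * (Y * (Y * (X * (Y * (X * (Y * (X * (Y * (Y * (X * (Y * (X * (Y * t)))))))))))))))) = Y * (Y * (X * (Y * (Y * (X * (Y * (X * (Y * (Y * (X * (Y * (Y * (X * (Y * (X * t))))))))))))))) := by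
      rw [r58 t]
    have hp := hp1.symm.trans hp2
    have hu : X * (Y * (Y * (X * (Y * (X * (Y * (X * (Y * (Y * (X * (Y * (X * (Y * t))))))))))))) = X * (Y * (Y * (X * (Y * (X * (Y * (X * (Y * (Y * (X * (Y * (X * (Y * t))))))))))))) := rfl
    have hv : Y * (Y * (X * (Y * (Y * (X * (Y * (X * (Y * (Y * (X * (Y * (Y * (X * (Y * (X * t))))))))))))))) = Y * (X * (Y * (X * (Y * (Y * (X * (Y * (X * (Y * (X * (Y * (X * t)))))))))))) := by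
      rw [r19 (Y * (Y * (X * (Y * (X * t))))), r1 (Y * (X * (Y * (X * t))))]
    exact hu.symm.trans (hp.trans hv)
  have r60 : ∀ t : H, X * (Y * (X * (Y * (X * (Y * (Y * (X * (Y * (X * (Y * (X * (Y * (X * t))))))))))))) = Y * (Y * (X * (Y * (X * (Y * (X * (Y * (Y * (X * (Y * (X * (Y * t)))))))))))) := by
    intro t
    have hp1 : X * (X * (Y * (Y * (X * (Y * (X * (Y * (X * (Y * (Y * (X * (Y * (X * (Y * t)))))))))))))) = Y * (Y * (X * (Y * (X * (Y * (X * (Y * (Y * (X * (Y * (X * (Y * t)))))))))))) := by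
      rw [r0 (Y * (Y * (X * (Y * (X * (Y * (X * (Y * (Y * (X * (Y * (X * (Y * t)))))))))))))]
    have hp2 : X * (X * (Y * (Y * (X * (Y * (X * (Y * (X * (Y * (Y * (X * (Y * (X * (Y * t)))))))))))))) = X * (Y * (X * (Y * (X * (Y * (Y * (X * (Y * (X * (Y * (X * (Y * (X * t))))))))))))) := by
      rw [r59 t]
    have hp := hp1.symm.trans hp2
    have hu : Y * (Y * (X * (Y * (X * (Y * (X * (Y * (Y * (X * (Y * (X * (Y * t)))))))))))) = Y * (Y * (X * (Y * (X * (Y * (X * (Y * (Y * (X * (Y * (X * (Y * t)))))))))))) := rfl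
    have hv : X * (Y * (X * (Y * (X * (Y * (Y * (X * (Y * (X * (Y * (X * (Y * (X * t))))))))))))) = X * (Y * (X * (Y * (X * (Y * (Y * (X * (Y * (X * (Y * (X * (Y * (X * t))))))))))))) := rfl
    exact hv.symm.trans (hp.symm.trans hu)
  have r61 : ∀ t : H, Y * (X * (Y * (X * (Y * (Y * (X * (Y * (Y * (X * (Y * (X * (Y * (X * t))))))))))))) = X * (Y * (X * (Y * (X * (Y * (Y * (X * (Y * (Y * (X * (Y * (X * (Y * t))))))))))))) := by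
    intro t
    have hp1 : Y * (X * (Y * (X * (Y * (X * (Y * (Y * (X * (Y * (X * (Y * (X * (Y * (X * (Y * (Y * (X * (Y * (X * (Y * (X * (Y * t)))))))))))))))))))))) = X * (Y * (X * (Y * (X * (Y * (Y * (X * (Y * (X * (Y * (X * (X * (Y * (Y * (X * (Y * (X * (Y * (X * (Y * t)))))))))))))))))))) := by
      rw [r22 (X * (Y * (Y * (X * (Y * (X * (Y * (X * (Y * t)))))))))]
    have hp2 : Y * (X * (Y * (X * (Y * (X * (Y * (Y * (X * (Y * (X * (Y * (X * (Y * (X * (Y * (Y * (X * (Y * (X * (Y * (X * (Y * t)))))))))))))))))))))) = Y * (X * (Y * (X * (Y * (X * (Y * (Y * (X * (X * (Y * (X * (Y * (X * (Y * (Y * (X * (Y * (X * (Y * (X * t)))))))))))))))))))) := by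
      rw [r22 t]
    have hp := hp1.symm.trans hp2
    have hu : X * (Y * (X * (Y * (X * (Y * (Y * (X * (Y * (X * (Y * (X * (X * (Y * (Y * (X * (Y * (X * (Y * (X * (Y * t)))))))))))))))))))) = X * (Y * (X * (Y * (X * (Y * (Y * (X * (Y * (Y * (X * (Y * (X * (Y * t))))))))))))) := by
      rw [r0 (Y * (Y * (X * (Y * (X * (Y * (X * (Y * t)))))))), r1 (X * (Y * (X * (Y * (X * (Y * t)))))), r0 (Y * (X * (Y * (X * (Y * t)))))]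
    have hv : Y * (X * (Y * (X * (Y * (X * (Y * (Y * (X * (X * (Y * (X * (Y * (X * (Y * (Y * (X * (Y * (X * (Y * (X * t)))))))))))))))))))) = Y * (X * (Y * (X * (Y * (Y * (X * (Y * (Y * (X * (Y * (X * (Y * (X * t))))))))))))) := by
      rw [r0 (Y * (X * (Y * (X * (Y * (Y * (X * (Y * (X * (Y * (X * t))))))))))), r1 (X * (Y * (X * (Y * (Y * (X * (Y * (X * (Y * (X * t)))))))))), r0 (Y * (X * (Y * (Y * (X * (Y * (X * (Y * (X * t)))))))))]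
    exact hv.symm.trans (hp.symm.trans hu)
  have h0_0 : X * ev X Y [] = ev X Y [0] := rfl
  have h0_1 : Y * ev X Y [] = ev X Y [1] := rfl
  have h1_0 : X * ev X Y [0] = ev X Y [] := by
    show X * (X * 1) = 1
    rw [r0 (1)]
  have h1_1 : Y * ev X Y [0] = ev X Y [1, 0] := rfl
  have h2_0 : X * ev X Y [1] = ev X Y [0, 1] := rfl
  have h2_1 : Y * ev X Y [1] = ev X Y [1, 1] := rfl
  have h3_0 : X * ev X Y [0, 1] = ev X Y [1] := by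
    show X * (X * (Y * 1)) = Y * 1
    rw [r0 (Y * 1)]
  have h3_1 : Y * ev X Y [0, 1] = ev X Y [1, 0, 1] := rfl
  have h4_0 : X * ev X Y [1, 0] = ev X Y [0, 1, 0] := rfl
  have h4_1 : Y * ev X Y [1, 0] = ev X Y [1, 1, 0] := rfl
  have h5_0 : X * ev X Y [1, 1] = ev X Y [0, 1, 1] := rfl
  have h5_1 : Y * ev X Y [1, 1] = ev X Y [] := by
    show Y * (Y * (Y * 1)) = 1
    rw [r1 (1)]
  have h6_0 : X * ev X Y [0, 1, 0] = ev X Y [1, 0] := by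
    show X * (X * (Y * (X * 1))) = Y * (X * 1)
    rw [r0 (Y * (X * 1))]
  have h6_1 : Y * ev X Y [0, 1, 0] = ev X Y [1, 0, 1, 0] := rfl
  have h7_0 : X * ev X Y [0, 1, 1] = ev X Y [1, 1] := by
    show X * (X * (Y * (Y * 1))) = Y * (Y * 1)
    rw [r0 (Y * (Y * 1))]
  have h7_1 : Y * ev X Y [0, 1, 1] = ev X Y [1, 0, 1, 1] := rfl
  have h8_0 : X * ev X Y [1, 0, 1] = ev X Y [0, 1, 0, 1] := rfl
  have h8_1 : Y * ev X Y [1, 0, 1] = ev X Y [1, 1, 0, 1] := rfl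
  have h9_0 : X * ev X Y [1, 1, 0] = ev X Y [0, 1, 1, 0] := rfl
  have h9_1 : Y * ev X Y [1, 1, 0] = ev X Y [0] := by
    show Y * (Y * (Y * (X * 1))) = X * 1
    rw [r1 (X * 1)]
  have h10_0 : X * ev X Y [0, 1, 0, 1] = ev X Y [1, 0, 1] := by
    show X * (X * (Y * (X * (Y * 1)))) = Y * (X * (Y * 1))
    rw [r0 (Y * (X * (Y * 1)))]
  have h10_1 : Y * ev X Y [0, 1, 0, 1] = ev X Y [1, 0, 1, 0, 1] := rfl
  have h11_0 : X * ev X Y [0, 1, 1, 0] = ev X Y [1, 1, 0] := by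
    show X * (X * (Y * (Y * (X * 1)))) = Y * (Y * (X * 1))
    rw [r0 (Y * (Y * (X * 1)))]
  have h11_1 : Y * ev X Y [0, 1, 1, 0] = ev X Y [1, 0, 1, 1, 0] := rfl
  have h12_0 : X * ev X Y [1, 0, 1, 0] = ev X Y [0, 1, 0, 1, 0] := rfl
  have h12_1 : Y * ev X Y [1, 0, 1, 0] = ev X Y [1, 1, 0, 1, 0] := rfl
  have h13_0 : X * ev X Y [1, 0, 1, 1] = ev X Y [0, 1, 0, 1, 1] := rfl
  have h13_1 : Y * ev X Y [1, 0, 1, 1] = ev X Y [1, 1, 0, 1, 1] := rfl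
  have h14_0 : X * ev X Y [1, 1, 0, 1] = ev X Y [0, 1, 1, 0, 1] := rfl
  have h14_1 : Y * ev X Y [1, 1, 0, 1] = ev X Y [0, 1] := by
    show Y * (Y * (Y * (X * (Y * 1)))) = X * (Y * 1)
    rw [r1 (X * (Y * 1))]
  have h15_0 : X * ev X Y [0, 1, 0, 1, 0] = ev X Y [1, 0, 1, 0] := by
    show X * (X * (Y * (X * (Y * (X * 1))))) = Y * (X * (Y * (X * 1)))
    rw [r0 (Y * (X * (Y * (X * 1))))]
  have h15_1 : Y * ev X Y [0, 1, 0, 1, 0] = ev X Y [1, 0, 1, 0, 1, 0] := rfl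
  have h16_0 : X * ev X Y [0, 1, 0, 1, 1] = ev X Y [1, 0, 1, 1] := by
    show X * (X * (Y * (X * (Y * (Y * 1))))) = Y * (X * (Y * (Y * 1)))
    rw [r0 (Y * (X * (Y * (Y * 1))))]
  have h16_1 : Y * ev X Y [0, 1, 0, 1, 1] = ev X Y [1, 0, 1, 0, 1, 1] := rfl
  have h17_0 : X * ev X Y [0, 1, 1, 0, 1] = ev X Y [1, 1, 0, 1] := by
    show X * (X * (Y * (Y * (X * (Y * 1))))) = Y * (Y * (X * (Y * 1)))
    rw [r0 (Y * (Y * (X * (Y * 1))))]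
  have h17_1 : Y * ev X Y [0, 1, 1, 0, 1] = ev X Y [1, 0, 1, 1, 0, 1] := rfl
  have h18_0 : X * ev X Y [1, 0, 1, 0, 1] = ev X Y [0, 1, 0, 1, 0, 1] := rfl
  have h18_1 : Y * ev X Y [1, 0, 1, 0, 1] = ev X Y [1, 1, 0, 1, 0, 1] := rfl
  have h19_0 : X * ev X Y [1, 0, 1, 1, 0] = ev X Y [0, 1, 0, 1, 1, 0] := rfl
  have h19_1 : Y * ev X Y [1, 0, 1, 1, 0] = ev X Y [1, 1, 0, 1, 1, 0] := rfl
  have h20_0 : X * ev X Y [1, 1, 0, 1, 0] = ev X Y [0, 1, 1, 0, 1, 0] := rfl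
  have h20_1 : Y * ev X Y [1, 1, 0, 1, 0] = ev X Y [0, 1, 0] := by
    show Y * (Y * (Y * (X * (Y * (X * 1))))) = X * (Y * (X * 1))
    rw [r1 (X * (Y * (X * 1)))]
  have h21_0 : X * ev X Y [1, 1, 0, 1, 1] = ev X Y [0, 1, 1, 0, 1, 1] := rfl
  have h21_1 : Y * ev X Y [1, 1, 0, 1, 1] = ev X Y [0, 1, 1] := by
    show Y * (Y * (Y * (X * (Y * (Y * 1))))) = X * (Y * (Y * 1))
    rw [r1 (X * (Y * (Y * 1)))]
  have h22_0 : X * ev X Y [0, 1, 0, 1, 0, 1] = ev X Y [1, 0, 1, 0, 1] := by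
    show X * (X * (Y * (X * (Y * (X * (Y * 1)))))) = Y * (X * (Y * (X * (Y * 1))))
    rw [r0 (Y * (X * (Y * (X * (Y * 1)))))]
  have h22_1 : Y * ev X Y [0, 1, 0, 1, 0, 1] = ev X Y [1, 0, 1, 0, 1, 0, 1] := rfl
  have h23_0 : X * ev X Y [0, 1, 0, 1, 1, 0] = ev X Y [1, 0, 1, 1, 0] := by
    show X * (X * (Y * (X * (Y * (Y * (X * 1)))))) = Y * (X * (Y * (Y * (X * 1))))
    rw [r0 (Y * (X * (Y * (Y * (X * 1)))))]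
  have h23_1 : Y * ev X Y [0, 1, 0, 1, 1, 0] = ev X Y [1, 0, 1, 0, 1, 1, 0] := rfl
  have h24_0 : X * ev X Y [0, 1, 1, 0, 1, 0] = ev X Y [1, 1, 0, 1, 0] := by
    show X * (X * (Y * (Y * (X * (Y * (X * 1)))))) = Y * (Y * (X * (Y * (X * 1))))
    rw [r0 (Y * (Y * (X * (Y * (X * 1)))))]
  have h24_1 : Y * ev X Y [0, 1, 1, 0, 1, 0] = ev X Y [1, 0, 1, 1, 0, 1, 0] := rfl
  have h25_0 : X * ev X Y [0, 1, 1, 0, 1, 1] = ev X Y [1, 1, 0, 1, 1] := by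
    show X * (X * (Y * (Y * (X * (Y * (Y * 1)))))) = Y * (Y * (X * (Y * (Y * 1))))
    rw [r0 (Y * (Y * (X * (Y * (Y * 1)))))]
  have h25_1 : Y * ev X Y [0, 1, 1, 0, 1, 1] = ev X Y [1, 0, 1, 1, 0, 1, 1] := rfl
  have h26_0 : X * ev X Y [1, 0, 1, 0, 1, 0] = ev X Y [0, 1, 0, 1, 0, 1, 0] := rfl
  have h26_1 : Y * ev X Y [1, 0, 1, 0, 1, 0] = ev X Y [1, 1, 0, 1, 0, 1, 0] := rfl
  have h27_0 : X * ev X Y [1, 0, 1, 0, 1, 1] = ev X Y [0, 1, 0, 1, 0, 1, 1] := rfl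
  have h27_1 : Y * ev X Y [1, 0, 1, 0, 1, 1] = ev X Y [1, 1, 0, 1, 0, 1, 1] := rfl
  have h28_0 : X * ev X Y [1, 0, 1, 1, 0, 1] = ev X Y [0, 1, 0, 1, 1, 0, 1] := rfl
  have h28_1 : Y * ev X Y [1, 0, 1, 1, 0, 1] = ev X Y [1, 1, 0, 1, 1, 0, 1] := rfl
  have h29_0 : X * ev X Y [1, 1, 0, 1, 0, 1] = ev X Y [0, 1, 1, 0, 1, 0, 1] := rfl
  have h29_1 : Y * ev X Y [1, 1, 0, 1, 0, 1] = ev X Y [0, 1, 0, 1] := by
    show Y * (Y * (Y * (X * (Y * (X * (Y * 1)))))) = X * (Y * (X * (Y * 1)))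
    rw [r1 (X * (Y * (X * (Y * 1))))]
  have h30_0 : X * ev X Y [1, 1, 0, 1, 1, 0] = ev X Y [0, 1, 1, 0, 1, 1, 0] := rfl
  have h30_1 : Y * ev X Y [1, 1, 0, 1, 1, 0] = ev X Y [0, 1, 1, 0] := by
    show Y * (Y * (Y * (X * (Y * (Y * (X * 1)))))) = X * (Y * (Y * (X * 1)))
    rw [r1 (X * (Y * (Y * (X * 1))))]
  have h31_0 : X * ev X Y [0, 1, 0, 1, 0, 1, 0] = ev X Y [1, 0, 1, 0, 1, 0] := by
    show X * (X * (Y * (X * (Y * (X * (Y * (X * 1))))))) = Y * (X * (Y * (X * (Y * (X * 1)))))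
    rw [r0 (Y * (X * (Y * (X * (Y * (X * 1))))))]
  have h31_1 : Y * ev X Y [0, 1, 0, 1, 0, 1, 0] = ev X Y [1, 0, 1, 0, 1, 0, 1, 0] := rfl
  have h32_0 : X * ev X Y [0, 1, 0, 1, 0, 1, 1] = ev X Y [1, 0, 1, 0, 1, 1] := by
    show X * (X * (Y * (X * (Y * (X * (Y * (Y * 1))))))) = Y * (X * (Y * (X * (Y * (Y * 1)))))
    rw [r0 (Y * (X * (Y * (X * (Y * (Y * 1))))))]
  have h32_1 : Y * ev X Y [0, 1, 0, 1, 0, 1, 1] = ev X Y [1, 0, 1, 0, 1, 0, 1, 1] := rfl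
  have h33_0 : X * ev X Y [0, 1, 0, 1, 1, 0, 1] = ev X Y [1, 0, 1, 1, 0, 1] := by
    show X * (X * (Y * (X * (Y * (Y * (X * (Y * 1))))))) = Y * (X * (Y * (Y * (X * (Y * 1)))))
    rw [r0 (Y * (X * (Y * (Y * (X * (Y * 1))))))]
  have h33_1 : Y * ev X Y [0, 1, 0, 1, 1, 0, 1] = ev X Y [1, 0, 1, 0, 1, 1, 0, 1] := rfl
  have h34_0 : X * ev X Y [0, 1, 1, 0, 1, 0, 1] = ev X Y [1, 1, 0, 1, 0, 1] := by
    show X * (X * (Y * (Y * (X * (Y * (X * (Y * 1))))))) = Y * (Y * (X * (Y * (X * (Y * 1)))))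
    rw [r0 (Y * (Y * (X * (Y * (X * (Y * 1))))))]
  have h34_1 : Y * ev X Y [0, 1, 1, 0, 1, 0, 1] = ev X Y [1, 0, 1, 1, 0, 1, 0, 1] := rfl
  have h35_0 : X * ev X Y [0, 1, 1, 0, 1, 1, 0] = ev X Y [1, 1, 0, 1, 1, 0] := by
    show X * (X * (Y * (Y * (X * (Y * (Y * (X * 1))))))) = Y * (Y * (X * (Y * (Y * (X * 1)))))
    rw [r0 (Y * (Y * (X * (Y * (Y * (X * 1))))))]
  have h35_1 : Y * ev X Y [0, 1, 1, 0, 1, 1, 0] = ev X Y [1, 0, 1, 1, 0, 1, 1, 0] := rfl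
  have h36_0 : X * ev X Y [1, 0, 1, 0, 1, 0, 1] = ev X Y [0, 1, 0, 1, 0, 1, 0, 1] := rfl
  have h36_1 : Y * ev X Y [1, 0, 1, 0, 1, 0, 1] = ev X Y [1, 1, 0, 1, 0, 1, 0, 1] := rfl
  have h37_0 : X * ev X Y [1, 0, 1, 0, 1, 1, 0] = ev X Y [0, 1, 0, 1, 0, 1, 1, 0] := rfl
  have h37_1 : Y * ev X Y [1, 0, 1, 0, 1, 1, 0] = ev X Y [1, 1, 0, 1, 0, 1, 1, 0] := rfl
  have h38_0 : X * ev X Y [1, 0, 1, 1, 0, 1, 0] = ev X Y [0, 1, 0, 1, 1, 0, 1, 0] := rfl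
  have h38_1 : Y * ev X Y [1, 0, 1, 1, 0, 1, 0] = ev X Y [1, 1, 0, 1, 1, 0, 1, 0] := rfl
  have h39_0 : X * ev X Y [1, 0, 1, 1, 0, 1, 1] = ev X Y [0, 1, 0, 1, 1, 0, 1, 1] := rfl
  have h39_1 : Y * ev X Y [1, 0, 1, 1, 0, 1, 1] = ev X Y [1, 1, 0, 1, 1, 0, 1, 1] := rfl
  have h40_0 : X * ev X Y [1, 1, 0, 1, 0, 1, 0] = ev X Y [0, 1, 1, 0, 1, 0, 1, 0] := rfl
  have h40_1 : Y * ev X Y [1, 1, 0, 1, 0, 1, 0] = ev X Y [0, 1, 0, 1, 0] := by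
    show Y * (Y * (Y * (X * (Y * (X * (Y * (X * 1))))))) = X * (Y * (X * (Y * (X * 1))))
    rw [r1 (X * (Y * (X * (Y * (X * 1)))))]
  have h41_0 : X * ev X Y [1, 1, 0, 1, 0, 1, 1] = ev X Y [0, 1, 1, 0, 1, 0, 1, 1] := rfl
  have h41_1 : Y * ev X Y [1, 1, 0, 1, 0, 1, 1] = ev X Y [0, 1, 0, 1, 1] := by
    show Y * (Y * (Y * (X * (Y * (X * (Y * (Y * 1))))))) = X * (Y * (X * (Y * (Y * 1))))
    rw [r1 (X * (Y * (X * (Y * (Y * 1)))))]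
  have h42_0 : X * ev X Y [1, 1, 0, 1, 1, 0, 1] = ev X Y [0, 1, 1, 0, 1, 1, 0, 1] := rfl
  have h42_1 : Y * ev X Y [1, 1, 0, 1, 1, 0, 1] = ev X Y [0, 1, 1, 0, 1] := by
    show Y * (Y * (Y * (X * (Y * (Y * (X * (Y * 1))))))) = X * (Y * (Y * (X * (Y * 1))))
    rw [r1 (X * (Y * (Y * (X * (Y * 1)))))]
  have h43_0 : X * ev X Y [0, 1, 0, 1, 0, 1, 0, 1] = ev X Y [1, 0, 1, 0, 1, 0, 1] := by
    show X * (X * (Y * (X * (Y * (X * (Y * (X * (Y * 1)))))))) = Y * (X * (Y * (X * (Y * (X * (Y * 1))))))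
    rw [r0 (Y * (X * (Y * (X * (Y * (X * (Y * 1)))))))]
  have h43_1 : Y * ev X Y [0, 1, 0, 1, 0, 1, 0, 1] = ev X Y [0, 1, 1, 0, 1, 1, 0] := by
    show Y * (X * (Y * (X * (Y * (X * (Y * (X * (Y * 1)))))))) = X * (Y * (Y * (X * (Y * (Y * (X * 1))))))
    rw [r11 (1)]
  have h44_0 : X * ev X Y [0, 1, 0, 1, 0, 1, 1, 0] = ev X Y [1, 0, 1, 0, 1, 1, 0] := by
    show X * (X * (Y * (X * (Y * (X * (Y * (Y * (X * 1)))))))) = Y * (X * (Y * (X * (Y * (Y * (X * 1))))))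
    rw [r0 (Y * (X * (Y * (X * (Y * (Y * (X * 1)))))))]
  have h44_1 : Y * ev X Y [0, 1, 0, 1, 0, 1, 1, 0] = ev X Y [1, 0, 1, 0, 1, 0, 1, 1, 0] := rfl
  have h45_0 : X * ev X Y [0, 1, 0, 1, 1, 0, 1, 0] = ev X Y [1, 0, 1, 1, 0, 1, 0] := by
    show X * (X * (Y * (X * (Y * (Y * (X * (Y * (X * 1)))))))) = Y * (X * (Y * (Y * (X * (Y * (X * 1))))))
    rw [r0 (Y * (X * (Y * (Y * (X * (Y * (X * 1)))))))]
  have h45_1 : Y * ev X Y [0, 1, 0, 1, 1, 0, 1, 0] = ev X Y [1, 0, 1, 0, 1, 1, 0, 1, 0] := rfl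
  have h46_0 : X * ev X Y [0, 1, 0, 1, 1, 0, 1, 1] = ev X Y [1, 0, 1, 1, 0, 1, 1] := by
    show X * (X * (Y * (X * (Y * (Y * (X * (Y * (Y * 1)))))))) = Y * (X * (Y * (Y * (X * (Y * (Y * 1))))))
    rw [r0 (Y * (X * (Y * (Y * (X * (Y * (Y * 1)))))))]
  have h46_1 : Y * ev X Y [0, 1, 0, 1, 1, 0, 1, 1] = ev X Y [1, 0, 1, 0, 1, 1, 0, 1, 1] := rfl
  have h47_0 : X * ev X Y [0, 1, 1, 0, 1, 0, 1, 0] = ev X Y [1, 1, 0, 1, 0, 1, 0] := by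
    show X * (X * (Y * (Y * (X * (Y * (X * (Y * (X * 1)))))))) = Y * (Y * (X * (Y * (X * (Y * (X * 1))))))
    rw [r0 (Y * (Y * (X * (Y * (X * (Y * (X * 1)))))))]
  have h47_1 : Y * ev X Y [0, 1, 1, 0, 1, 0, 1, 0] = ev X Y [1, 0, 1, 1, 0, 1, 0, 1, 0] := rfl
  have h48_0 : X * ev X Y [0, 1, 1, 0, 1, 0, 1, 1] = ev X Y [1, 1, 0, 1, 0, 1, 1] := by
    show X * (X * (Y * (Y * (X * (Y * (X * (Y * (Y * 1)))))))) = Y * (Y * (X * (Y * (X * (Y * (Y * 1))))))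
    rw [r0 (Y * (Y * (X * (Y * (X * (Y * (Y * 1)))))))]
  have h48_1 : Y * ev X Y [0, 1, 1, 0, 1, 0, 1, 1] = ev X Y [1, 0, 1, 1, 0, 1, 0, 1, 1] := rfl
  have h49_0 : X * ev X Y [0, 1, 1, 0, 1, 1, 0, 1] = ev X Y [1, 1, 0, 1, 1, 0, 1] := by
    show X * (X * (Y * (Y * (X * (Y * (Y * (X * (Y * 1)))))))) = Y * (Y * (X * (Y * (Y * (X * (Y * 1))))))
    rw [r0 (Y * (Y * (X * (Y * (Y * (X * (Y * 1)))))))]
  have h49_1 : Y * ev X Y [0, 1, 1, 0, 1, 1, 0, 1] = ev X Y [1, 0, 1, 1, 0, 1, 1, 0, 1] := rfl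
  have h50_0 : X * ev X Y [1, 0, 1, 0, 1, 0, 1, 0] = ev X Y [1, 1, 0, 1, 1, 0, 1, 1] := by
    show X * (Y * (X * (Y * (X * (Y * (X * (Y * (X * 1)))))))) = Y * (Y * (X * (Y * (Y * (X * (Y * (Y * 1)))))))
    rw [r21 (1)]
  have h50_1 : Y * ev X Y [1, 0, 1, 0, 1, 0, 1, 0] = ev X Y [1, 1, 0, 1, 0, 1, 0, 1, 0] := rfl
  have h51_0 : X * ev X Y [1, 0, 1, 0, 1, 0, 1, 1] = ev X Y [0, 1, 0, 1, 0, 1, 0, 1, 1] := rfl
  have h51_1 : Y * ev X Y [1, 0, 1, 0, 1, 0, 1, 1] = ev X Y [1, 1, 0, 1, 0, 1, 0, 1, 1] := rfl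
  have h52_0 : X * ev X Y [1, 0, 1, 0, 1, 1, 0, 1] = ev X Y [0, 1, 0, 1, 0, 1, 1, 0, 1] := rfl
  have h52_1 : Y * ev X Y [1, 0, 1, 0, 1, 1, 0, 1] = ev X Y [1, 1, 0, 1, 0, 1, 1, 0, 1] := rfl
  have h53_0 : X * ev X Y [1, 0, 1, 1, 0, 1, 0, 1] = ev X Y [0, 1, 0, 1, 1, 0, 1, 0, 1] := rfl
  have h53_1 : Y * ev X Y [1, 0, 1, 1, 0, 1, 0, 1] = ev X Y [1, 1, 0, 1, 1, 0, 1, 0, 1] := rfl
  have h54_0 : X * ev X Y [1, 0, 1, 1, 0, 1, 1, 0] = ev X Y [0, 1, 0, 1, 1, 0, 1, 1, 0] := rfl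
  have h54_1 : Y * ev X Y [1, 0, 1, 1, 0, 1, 1, 0] = ev X Y [0, 1, 0, 1, 0, 1, 0, 1] := by
    show Y * (Y * (X * (Y * (Y * (X * (Y * (Y * (X * 1)))))))) = X * (Y * (X * (Y * (X * (Y * (X * (Y * 1)))))))
    rw [r15 (1)]
  have h55_0 : X * ev X Y [1, 1, 0, 1, 0, 1, 0, 1] = ev X Y [0, 1, 1, 0, 1, 0, 1, 0, 1] := rfl
  have h55_1 : Y * ev X Y [1, 1, 0, 1, 0, 1, 0, 1] = ev X Y [0, 1, 0, 1, 0, 1] := by
    show Y * (Y * (Y * (X * (Y * (X * (Y * (X * (Y * 1)))))))) = X * (Y * (X * (Y * (X * (Y * 1)))))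
    rw [r1 (X * (Y * (X * (Y * (X * (Y * 1))))))]
  have h56_0 : X * ev X Y [1, 1, 0, 1, 0, 1, 1, 0] = ev X Y [0, 1, 1, 0, 1, 0, 1, 1, 0] := rfl
  have h56_1 : Y * ev X Y [1, 1, 0, 1, 0, 1, 1, 0] = ev X Y [0, 1, 0, 1, 1, 0] := by
    show Y * (Y * (Y * (X * (Y * (X * (Y * (Y * (X * 1)))))))) = X * (Y * (X * (Y * (Y * (X * 1)))))
    rw [r1 (X * (Y * (X * (Y * (Y * (X * 1))))))]
  have h57_0 : X * ev X Y [1, 1, 0, 1, 1, 0, 1, 0] = ev X Y [0, 1, 1, 0, 1, 1, 0, 1, 0] := rfl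
  have h57_1 : Y * ev X Y [1, 1, 0, 1, 1, 0, 1, 0] = ev X Y [0, 1, 1, 0, 1, 0] := by
    show Y * (Y * (Y * (X * (Y * (Y * (X * (Y * (X * 1)))))))) = X * (Y * (Y * (X * (Y * (X * 1)))))
    rw [r1 (X * (Y * (Y * (X * (Y * (X * 1))))))]
  have h58_0 : X * ev X Y [1, 1, 0, 1, 1, 0, 1, 1] = ev X Y [1, 0, 1, 0, 1, 0, 1, 0] := by
    show X * (Y * (Y * (X * (Y * (Y * (X * (Y * (Y * 1)))))))) = Y * (X * (Y * (X * (Y * (X * (Y * (X * 1)))))))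
    rw [r20 (1)]
  have h58_1 : Y * ev X Y [1, 1, 0, 1, 1, 0, 1, 1] = ev X Y [0, 1, 1, 0, 1, 1] := by
    show Y * (Y * (Y * (X * (Y * (Y * (X * (Y * (Y * 1)))))))) = X * (Y * (Y * (X * (Y * (Y * 1)))))
    rw [r1 (X * (Y * (Y * (X * (Y * (Y * 1))))))]
  have h59_0 : X * ev X Y [0, 1, 0, 1, 0, 1, 0, 1, 1] = ev X Y [1, 0, 1, 0, 1, 0, 1, 1] := by
    show X * (X * (Y * (X * (Y * (X * (Y * (X * (Y * (Y * 1))))))))) = Y * (X * (Y * (X * (Y * (X * (Y * (Y * 1)))))))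
    rw [r0 (Y * (X * (Y * (X * (Y * (X * (Y * (Y * 1))))))))]
  have h59_1 : Y * ev X Y [0, 1, 0, 1, 0, 1, 0, 1, 1] = ev X Y [0, 1, 1, 0, 1, 1, 0, 1] := by
    show Y * (X * (Y * (X * (Y * (X * (Y * (X * (Y * (Y * 1))))))))) = X * (Y * (Y * (X * (Y * (Y * (X * (Y * 1)))))))
    rw [r11 (Y * 1)]
  have h60_0 : X * ev X Y [0, 1, 0, 1, 0, 1, 1, 0, 1] = ev X Y [1, 0, 1, 0, 1, 1, 0, 1] := by
    show X * (X * (Y * (X * (Y * (X * (Y * (Y * (X * (Y * 1))))))))) = Y * (X * (Y * (X * (Y * (Y * (X * (Y * 1)))))))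
    rw [r0 (Y * (X * (Y * (X * (Y * (Y * (X * (Y * 1))))))))]
  have h60_1 : Y * ev X Y [0, 1, 0, 1, 0, 1, 1, 0, 1] = ev X Y [1, 0, 1, 0, 1, 0, 1, 1, 0, 1] := rfl
  have h61_0 : X * ev X Y [0, 1, 0, 1, 1, 0, 1, 0, 1] = ev X Y [1, 0, 1, 1, 0, 1, 0, 1] := by
    show X * (X * (Y * (X * (Y * (Y * (X * (Y * (X * (Y * 1))))))))) = Y * (X * (Y * (Y * (X * (Y * (X * (Y * 1)))))))
    rw [r0 (Y * (X * (Y * (Y * (X * (Y * (X * (Y * 1))))))))]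
  have h61_1 : Y * ev X Y [0, 1, 0, 1, 1, 0, 1, 0, 1] = ev X Y [1, 0, 1, 0, 1, 1, 0, 1, 0, 1] := rfl
  have h62_0 : X * ev X Y [0, 1, 0, 1, 1, 0, 1, 1, 0] = ev X Y [1, 0, 1, 1, 0, 1, 1, 0] := by
    show X * (X * (Y * (X * (Y * (Y * (X * (Y * (Y * (X * 1))))))))) = Y * (X * (Y * (Y * (X * (Y * (Y * (X * 1)))))))
    rw [r0 (Y * (X * (Y * (Y * (X * (Y * (Y * (X * 1))))))))]
  have h62_1 : Y * ev X Y [0, 1, 0, 1, 1, 0, 1, 1, 0] = ev X Y [1, 0, 1, 0, 1, 1, 0, 1, 1, 0] := rfl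
  have h63_0 : X * ev X Y [0, 1, 1, 0, 1, 0, 1, 0, 1] = ev X Y [1, 1, 0, 1, 0, 1, 0, 1] := by
    show X * (X * (Y * (Y * (X * (Y * (X * (Y * (X * (Y * 1))))))))) = Y * (Y * (X * (Y * (X * (Y * (X * (Y * 1)))))))
    rw [r0 (Y * (Y * (X * (Y * (X * (Y * (X * (Y * 1))))))))]
  have h63_1 : Y * ev X Y [0, 1, 1, 0, 1, 0, 1, 0, 1] = ev X Y [1, 0, 1, 1, 0, 1, 0, 1, 0, 1] := rfl
  have h64_0 : X * ev X Y [0, 1, 1, 0, 1, 0, 1, 1, 0] = ev X Y [1, 1, 0, 1, 0, 1, 1, 0] := by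
    show X * (X * (Y * (Y * (X * (Y * (X * (Y * (Y * (X * 1))))))))) = Y * (Y * (X * (Y * (X * (Y * (Y * (X * 1)))))))
    rw [r0 (Y * (Y * (X * (Y * (X * (Y * (Y * (X * 1))))))))]
  have h64_1 : Y * ev X Y [0, 1, 1, 0, 1, 0, 1, 1, 0] = ev X Y [0, 1, 0, 1, 1, 0, 1, 0, 1, 1] := by
    show Y * (X * (Y * (Y * (X * (Y * (X * (Y * (Y * (X * 1))))))))) = X * (Y * (X * (Y * (Y * (X * (Y * (X * (Y * (Y * 1)))))))))
    rw [r19 (1)]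
  have h65_0 : X * ev X Y [0, 1, 1, 0, 1, 1, 0, 1, 0] = ev X Y [1, 1, 0, 1, 1, 0, 1, 0] := by
    show X * (X * (Y * (Y * (X * (Y * (Y * (X * (Y * (X * 1))))))))) = Y * (Y * (X * (Y * (Y * (X * (Y * (X * 1)))))))
    rw [r0 (Y * (Y * (X * (Y * (Y * (X * (Y * (X * 1))))))))]
  have h65_1 : Y * ev X Y [0, 1, 1, 0, 1, 1, 0, 1, 0] = ev X Y [1, 0, 1, 1, 0, 1, 1, 0, 1, 0] := rfl
  have h66_0 : X * ev X Y [1, 0, 1, 0, 1, 0, 1, 1, 0] = ev X Y [0, 1, 0, 1, 0, 1, 0, 1, 1, 0] := rfl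
  have h66_1 : Y * ev X Y [1, 0, 1, 0, 1, 0, 1, 1, 0] = ev X Y [1, 1, 0, 1, 0, 1, 0, 1, 1, 0] := rfl
  have h67_0 : X * ev X Y [1, 0, 1, 0, 1, 1, 0, 1, 0] = ev X Y [0, 1, 0, 1, 0, 1, 1, 0, 1, 0] := rfl
  have h67_1 : Y * ev X Y [1, 0, 1, 0, 1, 1, 0, 1, 0] = ev X Y [0, 1, 1, 0, 1, 0, 1, 1, 0, 1] := by
    show Y * (Y * (X * (Y * (X * (Y * (Y * (X * (Y * (X * 1))))))))) = X * (Y * (Y * (X * (Y * (X * (Y * (Y * (X * (Y * 1)))))))))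
    rw [r51 (1)]
  have h68_0 : X * ev X Y [1, 0, 1, 0, 1, 1, 0, 1, 1] = ev X Y [0, 1, 0, 1, 0, 1, 1, 0, 1, 1] := rfl
  have h68_1 : Y * ev X Y [1, 0, 1, 0, 1, 1, 0, 1, 1] = ev X Y [1, 1, 0, 1, 0, 1, 1, 0, 1, 1] := rfl
  have h69_0 : X * ev X Y [1, 0, 1, 1, 0, 1, 0, 1, 0] = ev X Y [0, 1, 0, 1, 1, 0, 1, 0, 1, 0] := rfl
  have h69_1 : Y * ev X Y [1, 0, 1, 1, 0, 1, 0, 1, 0] = ev X Y [1, 1, 0, 1, 1, 0, 1, 0, 1, 0] := rfl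
  have h70_0 : X * ev X Y [1, 0, 1, 1, 0, 1, 0, 1, 1] = ev X Y [0, 1, 0, 1, 1, 0, 1, 0, 1, 1] := rfl
  have h70_1 : Y * ev X Y [1, 0, 1, 1, 0, 1, 0, 1, 1] = ev X Y [1, 1, 0, 1, 1, 0, 1, 0, 1, 1] := rfl
  have h71_0 : X * ev X Y [1, 0, 1, 1, 0, 1, 1, 0, 1] = ev X Y [0, 1, 0, 1, 1, 0, 1, 1, 0, 1] := rfl
  have h71_1 : Y * ev X Y [1, 0, 1, 1, 0, 1, 1, 0, 1] = ev X Y [0, 1, 0, 1, 0, 1, 0, 1, 1] := by
    show Y * (Y * (X * (Y * (Y * (X * (Y * (Y * (X * (Y * 1))))))))) = X * (Y * (X * (Y * (X * (Y * (X * (Y * (Y * 1))))))))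
    rw [r15 (Y * 1)]
  have h72_0 : X * ev X Y [1, 1, 0, 1, 0, 1, 0, 1, 0] = ev X Y [0, 1, 1, 0, 1, 0, 1, 0, 1, 0] := rfl
  have h72_1 : Y * ev X Y [1, 1, 0, 1, 0, 1, 0, 1, 0] = ev X Y [0, 1, 0, 1, 0, 1, 0] := by
    show Y * (Y * (Y * (X * (Y * (X * (Y * (X * (Y * (X * 1))))))))) = X * (Y * (X * (Y * (X * (Y * (X * 1))))))
    rw [r1 (X * (Y * (X * (Y * (X * (Y * (X * 1)))))))]
  have h73_0 : X * ev X Y [1, 1, 0, 1, 0, 1, 0, 1, 1] = ev X Y [0, 1, 1, 0, 1, 0, 1, 0, 1, 1] := rfl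
  have h73_1 : Y * ev X Y [1, 1, 0, 1, 0, 1, 0, 1, 1] = ev X Y [0, 1, 0, 1, 0, 1, 1] := by
    show Y * (Y * (Y * (X * (Y * (X * (Y * (X * (Y * (Y * 1))))))))) = X * (Y * (X * (Y * (X * (Y * (Y * 1))))))
    rw [r1 (X * (Y * (X * (Y * (X * (Y * (Y * 1)))))))]
  have h74_0 : X * ev X Y [1, 1, 0, 1, 0, 1, 1, 0, 1] = ev X Y [0, 1, 1, 0, 1, 0, 1, 1, 0, 1] := rfl
  have h74_1 : Y * ev X Y [1, 1, 0, 1, 0, 1, 1, 0, 1] = ev X Y [0, 1, 0, 1, 1, 0, 1] := by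
    show Y * (Y * (Y * (X * (Y * (X * (Y * (Y * (X * (Y * 1))))))))) = X * (Y * (X * (Y * (Y * (X * (Y * 1))))))
    rw [r1 (X * (Y * (X * (Y * (Y * (X * (Y * 1)))))))]
  have h75_0 : X * ev X Y [1, 1, 0, 1, 1, 0, 1, 0, 1] = ev X Y [0, 1, 1, 0, 1, 1, 0, 1, 0, 1] := rfl
  have h75_1 : Y * ev X Y [1, 1, 0, 1, 1, 0, 1, 0, 1] = ev X Y [0, 1, 1, 0, 1, 0, 1] := by
    show Y * (Y * (Y * (X * (Y * (Y * (X * (Y * (X * (Y * 1))))))))) = X * (Y * (Y * (X * (Y * (X * (Y * 1))))))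
    rw [r1 (X * (Y * (Y * (X * (Y * (X * (Y * 1)))))))]
  have h76_0 : X * ev X Y [0, 1, 0, 1, 0, 1, 0, 1, 1, 0] = ev X Y [1, 0, 1, 0, 1, 0, 1, 1, 0] := by
    show X * (X * (Y * (X * (Y * (X * (Y * (X * (Y * (Y * (X * 1)))))))))) = Y * (X * (Y * (X * (Y * (X * (Y * (Y * (X * 1))))))))
    rw [r0 (Y * (X * (Y * (X * (Y * (X * (Y * (Y * (X * 1)))))))))]
  have h76_1 : Y * ev X Y [0, 1, 0, 1, 0, 1, 0, 1, 1, 0] = ev X Y [0, 1, 1, 0, 1, 1, 0, 1, 0] := by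
    show Y * (X * (Y * (X * (Y * (X * (Y * (X * (Y * (Y * (X * 1)))))))))) = X * (Y * (Y * (X * (Y * (Y * (X * (Y * (X * 1))))))))
    rw [r11 (Y * (X * 1))]
  have h77_0 : X * ev X Y [0, 1, 0, 1, 0, 1, 1, 0, 1, 0] = ev X Y [1, 0, 1, 0, 1, 1, 0, 1, 0] := by
    show X * (X * (Y * (X * (Y * (X * (Y * (Y * (X * (Y * (X * 1)))))))))) = Y * (X * (Y * (X * (Y * (Y * (X * (Y * (X * 1))))))))
    rw [r0 (Y * (X * (Y * (X * (Y * (Y * (X * (Y * (X * 1)))))))))]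
  have h77_1 : Y * ev X Y [0, 1, 0, 1, 0, 1, 1, 0, 1, 0] = ev X Y [1, 0, 1, 0, 1, 0, 1, 1, 0, 1, 0] := rfl
  have h78_0 : X * ev X Y [0, 1, 0, 1, 0, 1, 1, 0, 1, 1] = ev X Y [1, 0, 1, 0, 1, 1, 0, 1, 1] := by
    show X * (X * (Y * (X * (Y * (X * (Y * (Y * (X * (Y * (Y * 1)))))))))) = Y * (X * (Y * (X * (Y * (Y * (X * (Y * (Y * 1))))))))
    rw [r0 (Y * (X * (Y * (X * (Y * (Y * (X * (Y * (Y * 1)))))))))]
  have h78_1 : Y * ev X Y [0, 1, 0, 1, 0, 1, 1, 0, 1, 1] = ev X Y [1, 0, 1, 0, 1, 0, 1, 1, 0, 1, 1] := rfl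
  have h79_0 : X * ev X Y [0, 1, 0, 1, 1, 0, 1, 0, 1, 0] = ev X Y [1, 0, 1, 1, 0, 1, 0, 1, 0] := by
    show X * (X * (Y * (X * (Y * (Y * (X * (Y * (X * (Y * (X * 1)))))))))) = Y * (X * (Y * (Y * (X * (Y * (X * (Y * (X * 1))))))))
    rw [r0 (Y * (X * (Y * (Y * (X * (Y * (X * (Y * (X * 1)))))))))]
  have h79_1 : Y * ev X Y [0, 1, 0, 1, 1, 0, 1, 0, 1, 0] = ev X Y [1, 0, 1, 0, 1, 1, 0, 1, 0, 1, 0] := rfl
  have h80_0 : X * ev X Y [0, 1, 0, 1, 1, 0, 1, 0, 1, 1] = ev X Y [1, 0, 1, 1, 0, 1, 0, 1, 1] := by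
    show X * (X * (Y * (X * (Y * (Y * (X * (Y * (X * (Y * (Y * 1)))))))))) = Y * (X * (Y * (Y * (X * (Y * (X * (Y * (Y * 1))))))))
    rw [r0 (Y * (X * (Y * (Y * (X * (Y * (X * (Y * (Y * 1)))))))))]
  have h80_1 : Y * ev X Y [0, 1, 0, 1, 1, 0, 1, 0, 1, 1] = ev X Y [1, 0, 1, 0, 1, 1, 0, 1, 0, 1, 1] := rfl
  have h81_0 : X * ev X Y [0, 1, 0, 1, 1, 0, 1, 1, 0, 1] = ev X Y [1, 0, 1, 1, 0, 1, 1, 0, 1] := by
    show X * (X * (Y * (X * (Y * (Y * (X * (Y * (Y * (X * (Y * 1)))))))))) = Y * (X * (Y * (Y * (X * (Y * (Y * (X * (Y * 1))))))))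
    rw [r0 (Y * (X * (Y * (Y * (X * (Y * (Y * (X * (Y * 1)))))))))]
  have h81_1 : Y * ev X Y [0, 1, 0, 1, 1, 0, 1, 1, 0, 1] = ev X Y [1, 0, 1, 0, 1, 1, 0, 1, 1, 0, 1] := rfl
  have h82_0 : X * ev X Y [0, 1, 1, 0, 1, 0, 1, 0, 1, 0] = ev X Y [1, 1, 0, 1, 0, 1, 0, 1, 0] := by
    show X * (X * (Y * (Y * (X * (Y * (X * (Y * (X * (Y * (X * 1)))))))))) = Y * (Y * (X * (Y * (X * (Y * (X * (Y * (X * 1))))))))
    rw [r0 (Y * (Y * (X * (Y * (X * (Y * (X * (Y * (X * 1)))))))))]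
  have h82_1 : Y * ev X Y [0, 1, 1, 0, 1, 0, 1, 0, 1, 0] = ev X Y [1, 0, 1, 1, 0, 1, 0, 1, 0, 1, 0] := rfl
  have h83_0 : X * ev X Y [0, 1, 1, 0, 1, 0, 1, 0, 1, 1] = ev X Y [1, 1, 0, 1, 0, 1, 0, 1, 1] := by
    show X * (X * (Y * (Y * (X * (Y * (X * (Y * (X * (Y * (Y * 1)))))))))) = Y * (Y * (X * (Y * (X * (Y * (X * (Y * (Y * 1))))))))
    rw [r0 (Y * (Y * (X * (Y * (X * (Y * (X * (Y * (Y * 1)))))))))]
  have h83_1 : Y * ev X Y [0, 1, 1, 0, 1, 0, 1, 0, 1, 1] = ev X Y [1, 0, 1, 1, 0, 1, 0, 1, 0, 1, 1] := rfl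
  have h84_0 : X * ev X Y [0, 1, 1, 0, 1, 0, 1, 1, 0, 1] = ev X Y [1, 1, 0, 1, 0, 1, 1, 0, 1] := by
    show X * (X * (Y * (Y * (X * (Y * (X * (Y * (Y * (X * (Y * 1)))))))))) = Y * (Y * (X * (Y * (X * (Y * (Y * (X * (Y * 1))))))))
    rw [r0 (Y * (Y * (X * (Y * (X * (Y * (Y * (X * (Y * 1)))))))))]
  have h84_1 : Y * ev X Y [0, 1, 1, 0, 1, 0, 1, 1, 0, 1] = ev X Y [0, 1, 0, 1, 1, 0, 1, 0] := by
    show Y * (X * (Y * (Y * (X * (Y * (X * (Y * (Y * (X * (Y * 1)))))))))) = X * (Y * (X * (Y * (Y * (X * (Y * (X * 1)))))))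
    rw [r19 (Y * 1), r1 (1)]
  have h85_0 : X * ev X Y [0, 1, 1, 0, 1, 1, 0, 1, 0, 1] = ev X Y [1, 1, 0, 1, 1, 0, 1, 0, 1] := by
    show X * (X * (Y * (Y * (X * (Y * (Y * (X * (Y * (X * (Y * 1)))))))))) = Y * (Y * (X * (Y * (Y * (X * (Y * (X * (Y * 1))))))))
    rw [r0 (Y * (Y * (X * (Y * (Y * (X * (Y * (X * (Y * 1)))))))))]
  have h85_1 : Y * ev X Y [0, 1, 1, 0, 1, 1, 0, 1, 0, 1] = ev X Y [1, 0, 1, 1, 0, 1, 1, 0, 1, 0, 1] := rfl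
  have h86_0 : X * ev X Y [1, 0, 1, 0, 1, 0, 1, 1, 0, 1] = ev X Y [0, 1, 0, 1, 0, 1, 0, 1, 1, 0, 1] := rfl
  have h86_1 : Y * ev X Y [1, 0, 1, 0, 1, 0, 1, 1, 0, 1] = ev X Y [1, 1, 0, 1, 0, 1, 0, 1, 1, 0, 1] := rfl
  have h87_0 : X * ev X Y [1, 0, 1, 0, 1, 1, 0, 1, 0, 1] = ev X Y [0, 1, 0, 1, 0, 1, 1, 0, 1, 0, 1] := rfl
  have h87_1 : Y * ev X Y [1, 0, 1, 0, 1, 1, 0, 1, 0, 1] = ev X Y [0, 1, 1, 0, 1, 0, 1, 1, 0, 1, 1] := by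
    show Y * (Y * (X * (Y * (X * (Y * (Y * (X * (Y * (X * (Y * 1)))))))))) = X * (Y * (Y * (X * (Y * (X * (Y * (Y * (X * (Y * (Y * 1))))))))))
    rw [r51 (Y * 1)]
  have h88_0 : X * ev X Y [1, 0, 1, 0, 1, 1, 0, 1, 1, 0] = ev X Y [0, 1, 0, 1, 0, 1, 1, 0, 1, 1, 0] := rfl
  have h88_1 : Y * ev X Y [1, 0, 1, 0, 1, 1, 0, 1, 1, 0] = ev X Y [1, 1, 0, 1, 0, 1, 1, 0, 1, 1, 0] := rfl
  have h89_0 : X * ev X Y [1, 0, 1, 1, 0, 1, 0, 1, 0, 1] = ev X Y [0, 1, 0, 1, 1, 0, 1, 0, 1, 0, 1] := rfl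
  have h89_1 : Y * ev X Y [1, 0, 1, 1, 0, 1, 0, 1, 0, 1] = ev X Y [1, 1, 0, 1, 1, 0, 1, 0, 1, 0, 1] := rfl
  have h90_0 : X * ev X Y [1, 0, 1, 1, 0, 1, 1, 0, 1, 0] = ev X Y [0, 1, 0, 1, 1, 0, 1, 1, 0, 1, 0] := rfl
  have h90_1 : Y * ev X Y [1, 0, 1, 1, 0, 1, 1, 0, 1, 0] = ev X Y [0, 1, 0, 1, 0, 1, 0, 1, 1, 0] := by
    show Y * (Y * (X * (Y * (Y * (X * (Y * (Y * (X * (Y * (X * 1)))))))))) = X * (Y * (X * (Y * (X * (Y * (X * (Y * (Y * (X * 1)))))))))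
    rw [r15 (Y * (X * 1))]
  have h91_0 : X * ev X Y [1, 1, 0, 1, 0, 1, 0, 1, 1, 0] = ev X Y [0, 1, 1, 0, 1, 0, 1, 0, 1, 1, 0] := rfl
  have h91_1 : Y * ev X Y [1, 1, 0, 1, 0, 1, 0, 1, 1, 0] = ev X Y [0, 1, 0, 1, 0, 1, 1, 0] := by
    show Y * (Y * (Y * (X * (Y * (X * (Y * (X * (Y * (Y * (X * 1)))))))))) = X * (Y * (X * (Y * (X * (Y * (Y * (X * 1)))))))
    rw [r1 (X * (Y * (X * (Y * (X * (Y * (Y * (X * 1))))))))]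
  have h92_0 : X * ev X Y [1, 1, 0, 1, 0, 1, 1, 0, 1, 1] = ev X Y [0, 1, 1, 0, 1, 0, 1, 1, 0, 1, 1] := rfl
  have h92_1 : Y * ev X Y [1, 1, 0, 1, 0, 1, 1, 0, 1, 1] = ev X Y [0, 1, 0, 1, 1, 0, 1, 1] := by
    show Y * (Y * (Y * (X * (Y * (X * (Y * (Y * (X * (Y * (Y * 1)))))))))) = X * (Y * (X * (Y * (Y * (X * (Y * (Y * 1)))))))
    rw [r1 (X * (Y * (X * (Y * (Y * (X * (Y * (Y * 1))))))))]
  have h93_0 : X * ev X Y [1, 1, 0, 1, 1, 0, 1, 0, 1, 0] = ev X Y [0, 1, 1, 0, 1, 1, 0, 1, 0, 1, 0] := rfl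
  have h93_1 : Y * ev X Y [1, 1, 0, 1, 1, 0, 1, 0, 1, 0] = ev X Y [0, 1, 1, 0, 1, 0, 1, 0] := by
    show Y * (Y * (Y * (X * (Y * (Y * (X * (Y * (X * (Y * (X * 1)))))))))) = X * (Y * (Y * (X * (Y * (X * (Y * (X * 1)))))))
    rw [r1 (X * (Y * (Y * (X * (Y * (X * (Y * (X * 1))))))))]
  have h94_0 : X * ev X Y [1, 1, 0, 1, 1, 0, 1, 0, 1, 1] = ev X Y [0, 1, 1, 0, 1, 1, 0, 1, 0, 1, 1] := rfl
  have h94_1 : Y * ev X Y [1, 1, 0, 1, 1, 0, 1, 0, 1, 1] = ev X Y [0, 1, 1, 0, 1, 0, 1, 1] := by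
    show Y * (Y * (Y * (X * (Y * (Y * (X * (Y * (X * (Y * (Y * 1)))))))))) = X * (Y * (Y * (X * (Y * (X * (Y * (Y * 1)))))))
    rw [r1 (X * (Y * (Y * (X * (Y * (X * (Y * (Y * 1))))))))]
  have h95_0 : X * ev X Y [0, 1, 0, 1, 0, 1, 0, 1, 1, 0, 1] = ev X Y [1, 0, 1, 0, 1, 0, 1, 1, 0, 1] := by
    show X * (X * (Y * (X * (Y * (X * (Y * (X * (Y * (Y * (X * (Y * 1))))))))))) = Y * (X * (Y * (X * (Y * (X * (Y * (Y * (X * (Y * 1)))))))))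
    rw [r0 (Y * (X * (Y * (X * (Y * (X * (Y * (Y * (X * (Y * 1))))))))))]
  have h95_1 : Y * ev X Y [0, 1, 0, 1, 0, 1, 0, 1, 1, 0, 1] = ev X Y [0, 1, 1, 0, 1, 1, 0, 1, 0, 1] := by
    show Y * (X * (Y * (X * (Y * (X * (Y * (X * (Y * (Y * (X * (Y * 1))))))))))) = X * (Y * (Y * (X * (Y * (Y * (X * (Y * (X * (Y * 1)))))))))
    rw [r11 (Y * (X * (Y * 1)))]
  have h96_0 : X * ev X Y [0, 1, 0, 1, 0, 1, 1, 0, 1, 0, 1] = ev X Y [1, 0, 1, 0, 1, 1, 0, 1, 0, 1] := by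
    show X * (X * (Y * (X * (Y * (X * (Y * (Y * (X * (Y * (X * (Y * 1))))))))))) = Y * (X * (Y * (X * (Y * (Y * (X * (Y * (X * (Y * 1)))))))))
    rw [r0 (Y * (X * (Y * (X * (Y * (Y * (X * (Y * (X * (Y * 1))))))))))]
  have h96_1 : Y * ev X Y [0, 1, 0, 1, 0, 1, 1, 0, 1, 0, 1] = ev X Y [1, 0, 1, 0, 1, 0, 1, 1, 0, 1, 0, 1] := rfl
  have h97_0 : X * ev X Y [0, 1, 0, 1, 0, 1, 1, 0, 1, 1, 0] = ev X Y [1, 0, 1, 0, 1, 1, 0, 1, 1, 0] := by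
    show X * (X * (Y * (X * (Y * (X * (Y * (Y * (X * (Y * (Y * (X * 1))))))))))) = Y * (X * (Y * (X * (Y * (Y * (X * (Y * (Y * (X * 1)))))))))
    rw [r0 (Y * (X * (Y * (X * (Y * (Y * (X * (Y * (Y * (X * 1))))))))))]
  have h97_1 : Y * ev X Y [0, 1, 0, 1, 0, 1, 1, 0, 1, 1, 0] = ev X Y [1, 0, 1, 0, 1, 0, 1, 1, 0, 1, 1, 0] := rfl
  have h98_0 : X * ev X Y [0, 1, 0, 1, 1, 0, 1, 0, 1, 0, 1] = ev X Y [1, 0, 1, 1, 0, 1, 0, 1, 0, 1] := by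
    show X * (X * (Y * (X * (Y * (Y * (X * (Y * (X * (Y * (X * (Y * 1))))))))))) = Y * (X * (Y * (Y * (X * (Y * (X * (Y * (X * (Y * 1)))))))))
    rw [r0 (Y * (X * (Y * (Y * (X * (Y * (X * (Y * (X * (Y * 1))))))))))]
  have h98_1 : Y * ev X Y [0, 1, 0, 1, 1, 0, 1, 0, 1, 0, 1] = ev X Y [1, 0, 1, 0, 1, 1, 0, 1, 0, 1, 0, 1] := rfl
  have h99_0 : X * ev X Y [0, 1, 0, 1, 1, 0, 1, 1, 0, 1, 0] = ev X Y [1, 0, 1, 1, 0, 1, 1, 0, 1, 0] := by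
    show X * (X * (Y * (X * (Y * (Y * (X * (Y * (Y * (X * (Y * (X * 1))))))))))) = Y * (X * (Y * (Y * (X * (Y * (Y * (X * (Y * (X * 1)))))))))
    rw [r0 (Y * (X * (Y * (Y * (X * (Y * (Y * (X * (Y * (X * 1))))))))))]
  have h99_1 : Y * ev X Y [0, 1, 0, 1, 1, 0, 1, 1, 0, 1, 0] = ev X Y [1, 0, 1, 0, 1, 1, 0, 1, 1, 0, 1, 0] := rfl
  have h100_0 : X * ev X Y [0, 1, 1, 0, 1, 0, 1, 0, 1, 1, 0] = ev X Y [1, 1, 0, 1, 0, 1, 0, 1, 1, 0] := by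
    show X * (X * (Y * (Y * (X * (Y * (X * (Y * (X * (Y * (Y * (X * 1))))))))))) = Y * (Y * (X * (Y * (X * (Y * (X * (Y * (Y * (X * 1)))))))))
    rw [r0 (Y * (Y * (X * (Y * (X * (Y * (X * (Y * (Y * (X * 1))))))))))]
  have h100_1 : Y * ev X Y [0, 1, 1, 0, 1, 0, 1, 0, 1, 1, 0] = ev X Y [1, 0, 1, 1, 0, 1, 0, 1, 0, 1, 1, 0] := rfl
  have h101_0 : X * ev X Y [0, 1, 1, 0, 1, 0, 1, 1, 0, 1, 1] = ev X Y [1, 1, 0, 1, 0, 1, 1, 0, 1, 1] := by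
    show X * (X * (Y * (Y * (X * (Y * (X * (Y * (Y * (X * (Y * (Y * 1))))))))))) = Y * (Y * (X * (Y * (X * (Y * (Y * (X * (Y * (Y * 1)))))))))
    rw [r0 (Y * (Y * (X * (Y * (X * (Y * (Y * (X * (Y * (Y * 1))))))))))]
  have h101_1 : Y * ev X Y [0, 1, 1, 0, 1, 0, 1, 1, 0, 1, 1] = ev X Y [0, 1, 0, 1, 1, 0, 1, 0, 1] := by
    show Y * (X * (Y * (Y * (X * (Y * (X * (Y * (Y * (X * (Y * (Y * 1))))))))))) = X * (Y * (X * (Y * (Y * (X * (Y * (X * (Y * 1))))))))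
    rw [r19 (Y * (Y * 1)), r1 (Y * 1)]
  have h102_0 : X * ev X Y [0, 1, 1, 0, 1, 1, 0, 1, 0, 1, 0] = ev X Y [1, 1, 0, 1, 1, 0, 1, 0, 1, 0] := by
    show X * (X * (Y * (Y * (X * (Y * (Y * (X * (Y * (X * (Y * (X * 1))))))))))) = Y * (Y * (X * (Y * (Y * (X * (Y * (X * (Y * (X * 1)))))))))
    rw [r0 (Y * (Y * (X * (Y * (Y * (X * (Y * (X * (Y * (X * 1))))))))))]
  have h102_1 : Y * ev X Y [0, 1, 1, 0, 1, 1, 0, 1, 0, 1, 0] = ev X Y [1, 0, 1, 1, 0, 1, 1, 0, 1, 0, 1, 0] := rfl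
  have h103_0 : X * ev X Y [0, 1, 1, 0, 1, 1, 0, 1, 0, 1, 1] = ev X Y [1, 1, 0, 1, 1, 0, 1, 0, 1, 1] := by
    show X * (X * (Y * (Y * (X * (Y * (Y * (X * (Y * (X * (Y * (Y * 1))))))))))) = Y * (Y * (X * (Y * (Y * (X * (Y * (X * (Y * (Y * 1)))))))))
    rw [r0 (Y * (Y * (X * (Y * (Y * (X * (Y * (X * (Y * (Y * 1))))))))))]
  have h103_1 : Y * ev X Y [0, 1, 1, 0, 1, 1, 0, 1, 0, 1, 1] = ev X Y [1, 0, 1, 1, 0, 1, 1, 0, 1, 0, 1, 1] := rfl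
  have h104_0 : X * ev X Y [1, 0, 1, 0, 1, 0, 1, 1, 0, 1, 0] = ev X Y [0, 1, 0, 1, 0, 1, 0, 1, 1, 0, 1, 0] := rfl
  have h104_1 : Y * ev X Y [1, 0, 1, 0, 1, 0, 1, 1, 0, 1, 0] = ev X Y [1, 1, 0, 1, 0, 1, 0, 1, 1, 0, 1, 0] := rfl
  have h105_0 : X * ev X Y [1, 0, 1, 0, 1, 0, 1, 1, 0, 1, 1] = ev X Y [0, 1, 0, 1, 0, 1, 0, 1, 1, 0, 1, 1] := rfl
  have h105_1 : Y * ev X Y [1, 0, 1, 0, 1, 0, 1, 1, 0, 1, 1] = ev X Y [1, 1, 0, 1, 0, 1, 0, 1, 1, 0, 1, 1] := rfl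
  have h106_0 : X * ev X Y [1, 0, 1, 0, 1, 1, 0, 1, 0, 1, 0] = ev X Y [0, 1, 0, 1, 0, 1, 1, 0, 1, 0, 1, 0] := rfl
  have h106_1 : Y * ev X Y [1, 0, 1, 0, 1, 1, 0, 1, 0, 1, 0] = ev X Y [0, 1, 1, 0, 1, 0, 1, 1, 0, 1, 1, 0] := by
    show Y * (Y * (X * (Y * (X * (Y * (Y * (X * (Y * (X * (Y * (X * 1))))))))))) = X * (Y * (Y * (X * (Y * (X * (Y * (Y * (X * (Y * (Y * (X * 1)))))))))))
    rw [r51 (Y * (X * 1))]
  have h107_0 : X * ev X Y [1, 0, 1, 0, 1, 1, 0, 1, 0, 1, 1] = ev X Y [0, 1, 0, 1, 0, 1, 1, 0, 1, 0, 1, 1] := rfl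
  have h107_1 : Y * ev X Y [1, 0, 1, 0, 1, 1, 0, 1, 0, 1, 1] = ev X Y [0, 1, 1, 0, 1, 0, 1, 1, 0] := by
    show Y * (Y * (X * (Y * (X * (Y * (Y * (X * (Y * (X * (Y * (Y * 1))))))))))) = X * (Y * (Y * (X * (Y * (X * (Y * (Y * (X * 1))))))))
    rw [r51 (Y * (Y * 1)), r1 (1)]
  have h108_0 : X * ev X Y [1, 0, 1, 0, 1, 1, 0, 1, 1, 0, 1] = ev X Y [0, 1, 0, 1, 0, 1, 1, 0, 1, 1, 0, 1] := rfl
  have h108_1 : Y * ev X Y [1, 0, 1, 0, 1, 1, 0, 1, 1, 0, 1] = ev X Y [1, 1, 0, 1, 0, 1, 1, 0, 1, 1, 0, 1] := rfl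
  have h109_0 : X * ev X Y [1, 0, 1, 1, 0, 1, 0, 1, 0, 1, 0] = ev X Y [0, 1, 0, 1, 1, 0, 1, 0, 1, 0, 1, 0] := rfl
  have h109_1 : Y * ev X Y [1, 0, 1, 1, 0, 1, 0, 1, 0, 1, 0] = ev X Y [1, 1, 0, 1, 1, 0, 1, 0, 1, 0, 1, 0] := rfl
  have h110_0 : X * ev X Y [1, 0, 1, 1, 0, 1, 0, 1, 0, 1, 1] = ev X Y [0, 1, 0, 1, 1, 0, 1, 0, 1, 0, 1, 1] := rfl
  have h110_1 : Y * ev X Y [1, 0, 1, 1, 0, 1, 0, 1, 0, 1, 1] = ev X Y [1, 1, 0, 1, 1, 0, 1, 0, 1, 0, 1, 1] := rfl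
  have h111_0 : X * ev X Y [1, 0, 1, 1, 0, 1, 1, 0, 1, 0, 1] = ev X Y [0, 1, 0, 1, 1, 0, 1, 1, 0, 1, 0, 1] := rfl
  have h111_1 : Y * ev X Y [1, 0, 1, 1, 0, 1, 1, 0, 1, 0, 1] = ev X Y [0, 1, 0, 1, 0, 1, 0, 1, 1, 0, 1] := by
    show Y * (Y * (X * (Y * (Y * (X * (Y * (Y * (X * (Y * (X * (Y * 1))))))))))) = X * (Y * (X * (Y * (X * (Y * (X * (Y * (Y * (X * (Y * 1))))))))))
    rw [r15 (Y * (X * (Y * 1)))]
  have h112_0 : X * ev X Y [1, 1, 0, 1, 0, 1, 0, 1, 1, 0, 1] = ev X Y [0, 1, 1, 0, 1, 0, 1, 0, 1, 1, 0, 1] := rfl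
  have h112_1 : Y * ev X Y [1, 1, 0, 1, 0, 1, 0, 1, 1, 0, 1] = ev X Y [0, 1, 0, 1, 0, 1, 1, 0, 1] := by
    show Y * (Y * (Y * (X * (Y * (X * (Y * (X * (Y * (Y * (X * (Y * 1))))))))))) = X * (Y * (X * (Y * (X * (Y * (Y * (X * (Y * 1))))))))
    rw [r1 (X * (Y * (X * (Y * (X * (Y * (Y * (X * (Y * 1)))))))))]
  have h113_0 : X * ev X Y [1, 1, 0, 1, 0, 1, 1, 0, 1, 1, 0] = ev X Y [0, 1, 1, 0, 1, 0, 1, 1, 0, 1, 1, 0] := rfl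
  have h113_1 : Y * ev X Y [1, 1, 0, 1, 0, 1, 1, 0, 1, 1, 0] = ev X Y [0, 1, 0, 1, 1, 0, 1, 1, 0] := by
    show Y * (Y * (Y * (X * (Y * (X * (Y * (Y * (X * (Y * (Y * (X * 1))))))))))) = X * (Y * (X * (Y * (Y * (X * (Y * (Y * (X * 1))))))))
    rw [r1 (X * (Y * (X * (Y * (Y * (X * (Y * (Y * (X * 1)))))))))]
  have h114_0 : X * ev X Y [1, 1, 0, 1, 1, 0, 1, 0, 1, 0, 1] = ev X Y [0, 1, 1, 0, 1, 1, 0, 1, 0, 1, 0, 1] := rfl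
  have h114_1 : Y * ev X Y [1, 1, 0, 1, 1, 0, 1, 0, 1, 0, 1] = ev X Y [0, 1, 1, 0, 1, 0, 1, 0, 1] := by
    show Y * (Y * (Y * (X * (Y * (Y * (X * (Y * (X * (Y * (X * (Y * 1))))))))))) = X * (Y * (Y * (X * (Y * (X * (Y * (X * (Y * 1))))))))
    rw [r1 (X * (Y * (Y * (X * (Y * (X * (Y * (X * (Y * 1)))))))))]
  have h115_0 : X * ev X Y [0, 1, 0, 1, 0, 1, 0, 1, 1, 0, 1, 0] = ev X Y [1, 0, 1, 0, 1, 0, 1, 1, 0, 1, 0] := by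
    show X * (X * (Y * (X * (Y * (X * (Y * (X * (Y * (Y * (X * (Y * (X * 1)))))))))))) = Y * (X * (Y * (X * (Y * (X * (Y * (Y * (X * (Y * (X * 1))))))))))
    rw [r0 (Y * (X * (Y * (X * (Y * (X * (Y * (Y * (X * (Y * (X * 1)))))))))))]
  have h115_1 : Y * ev X Y [0, 1, 0, 1, 0, 1, 0, 1, 1, 0, 1, 0] = ev X Y [0, 1, 1, 0, 1, 1, 0, 1, 0, 1, 0] := by
    show Y * (X * (Y * (X * (Y * (X * (Y * (X * (Y * (Y * (X * (Y * (X * 1)))))))))))) = X * (Y * (Y * (X * (Y * (Y * (X * (Y * (X * (Y * (X * 1))))))))))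
    rw [r11 (Y * (X * (Y * (X * 1))))]
  have h116_0 : X * ev X Y [0, 1, 0, 1, 0, 1, 0, 1, 1, 0, 1, 1] = ev X Y [1, 0, 1, 0, 1, 0, 1, 1, 0, 1, 1] := by
    show X * (X * (Y * (X * (Y * (X * (Y * (X * (Y * (Y * (X * (Y * (Y * 1)))))))))))) = Y * (X * (Y * (X * (Y * (X * (Y * (Y * (X * (Y * (Y * 1))))))))))
    rw [r0 (Y * (X * (Y * (X * (Y * (X * (Y * (Y * (X * (Y * (Y * 1)))))))))))]
  have h116_1 : Y * ev X Y [0, 1, 0, 1, 0, 1, 0, 1, 1, 0, 1, 1] = ev X Y [0, 1, 1, 0, 1, 1, 0, 1, 0, 1, 1] := by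
    show Y * (X * (Y * (X * (Y * (X * (Y * (X * (Y * (Y * (X * (Y * (Y * 1)))))))))))) = X * (Y * (Y * (X * (Y * (Y * (X * (Y * (X * (Y * (Y * 1))))))))))
    rw [r11 (Y * (X * (Y * (Y * 1))))]
  have h117_0 : X * ev X Y [0, 1, 0, 1, 0, 1, 1, 0, 1, 0, 1, 0] = ev X Y [1, 0, 1, 0, 1, 1, 0, 1, 0, 1, 0] := by
    show X * (X * (Y * (X * (Y * (X * (Y * (Y * (X * (Y * (X * (Y * (X * 1)))))))))))) = Y * (X * (Y * (X * (Y * (Y * (X * (Y * (X * (Y * (X * 1))))))))))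
    rw [r0 (Y * (X * (Y * (X * (Y * (Y * (X * (Y * (X * (Y * (X * 1)))))))))))]
  have h117_1 : Y * ev X Y [0, 1, 0, 1, 0, 1, 1, 0, 1, 0, 1, 0] = ev X Y [1, 0, 1, 0, 1, 0, 1, 1, 0, 1, 0, 1, 0] := rfl
  have h118_0 : X * ev X Y [0, 1, 0, 1, 0, 1, 1, 0, 1, 0, 1, 1] = ev X Y [1, 0, 1, 0, 1, 1, 0, 1, 0, 1, 1] := by
    show X * (X * (Y * (X * (Y * (X * (Y * (Y * (X * (Y * (X * (Y * (Y * 1)))))))))))) = Y * (X * (Y * (X * (Y * (Y * (X * (Y * (X * (Y * (Y * 1))))))))))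
    rw [r0 (Y * (X * (Y * (X * (Y * (Y * (X * (Y * (X * (Y * (Y * 1)))))))))))]
  have h118_1 : Y * ev X Y [0, 1, 0, 1, 0, 1, 1, 0, 1, 0, 1, 1] = ev X Y [1, 0, 1, 0, 1, 0, 1, 1, 0, 1, 0, 1, 1] := rfl
  have h119_0 : X * ev X Y [0, 1, 0, 1, 0, 1, 1, 0, 1, 1, 0, 1] = ev X Y [1, 0, 1, 0, 1, 1, 0, 1, 1, 0, 1] := by
    show X * (X * (Y * (X * (Y * (X * (Y * (Y * (X * (Y * (Y * (X * (Y * 1)))))))))))) = Y * (X * (Y * (X * (Y * (Y * (X * (Y * (Y * (X * (Y * 1))))))))))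
    rw [r0 (Y * (X * (Y * (X * (Y * (Y * (X * (Y * (Y * (X * (Y * 1)))))))))))]
  have h119_1 : Y * ev X Y [0, 1, 0, 1, 0, 1, 1, 0, 1, 1, 0, 1] = ev X Y [0, 1, 1, 0, 1, 0, 1, 0, 1, 1, 0, 1, 0] := by
    show Y * (X * (Y * (X * (Y * (X * (Y * (Y * (X * (Y * (Y * (X * (Y * 1)))))))))))) = X * (Y * (Y * (X * (Y * (X * (Y * (X * (Y * (Y * (X * (Y * (X * 1))))))))))))
    rw [r54 (1)]
  have h120_0 : X * ev X Y [0, 1, 0, 1, 1, 0, 1, 0, 1, 0, 1, 0] = ev X Y [1, 0, 1, 1, 0, 1, 0, 1, 0, 1, 0] := by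
    show X * (X * (Y * (X * (Y * (Y * (X * (Y * (X * (Y * (X * (Y * (X * 1)))))))))))) = Y * (X * (Y * (Y * (X * (Y * (X * (Y * (X * (Y * (X * 1))))))))))
    rw [r0 (Y * (X * (Y * (Y * (X * (Y * (X * (Y * (X * (Y * (X * 1)))))))))))]
  have h120_1 : Y * ev X Y [0, 1, 0, 1, 1, 0, 1, 0, 1, 0, 1, 0] = ev X Y [1, 0, 1, 0, 1, 1, 0, 1, 0, 1, 0, 1, 0] := rfl
  have h121_0 : X * ev X Y [0, 1, 0, 1, 1, 0, 1, 0, 1, 0, 1, 1] = ev X Y [1, 0, 1, 1, 0, 1, 0, 1, 0, 1, 1] := by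
    show X * (X * (Y * (X * (Y * (Y * (X * (Y * (X * (Y * (X * (Y * (Y * 1)))))))))))) = Y * (X * (Y * (Y * (X * (Y * (X * (Y * (X * (Y * (Y * 1))))))))))
    rw [r0 (Y * (X * (Y * (Y * (X * (Y * (X * (Y * (X * (Y * (Y * 1)))))))))))]
  have h121_1 : Y * ev X Y [0, 1, 0, 1, 1, 0, 1, 0, 1, 0, 1, 1] = ev X Y [1, 0, 1, 0, 1, 1, 0, 1, 0, 1, 0, 1, 1] := rfl
  have h122_0 : X * ev X Y [0, 1, 0, 1, 1, 0, 1, 1, 0, 1, 0, 1] = ev X Y [1, 0, 1, 1, 0, 1, 1, 0, 1, 0, 1] := by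
    show X * (X * (Y * (X * (Y * (Y * (X * (Y * (Y * (X * (Y * (X * (Y * 1)))))))))))) = Y * (X * (Y * (Y * (X * (Y * (Y * (X * (Y * (X * (Y * 1))))))))))
    rw [r0 (Y * (X * (Y * (Y * (X * (Y * (Y * (X * (Y * (X * (Y * 1)))))))))))]
  have h122_1 : Y * ev X Y [0, 1, 0, 1, 1, 0, 1, 1, 0, 1, 0, 1] = ev X Y [1, 0, 1, 0, 1, 1, 0, 1, 1, 0, 1, 0, 1] := rfl
  have h123_0 : X * ev X Y [0, 1, 1, 0, 1, 0, 1, 0, 1, 1, 0, 1] = ev X Y [1, 1, 0, 1, 0, 1, 0, 1, 1, 0, 1] := by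
    show X * (X * (Y * (Y * (X * (Y * (X * (Y * (X * (Y * (Y * (X * (Y * 1)))))))))))) = Y * (Y * (X * (Y * (X * (Y * (X * (Y * (Y * (X * (Y * 1))))))))))
    rw [r0 (Y * (Y * (X * (Y * (X * (Y * (X * (Y * (Y * (X * (Y * 1)))))))))))]
  have h123_1 : Y * ev X Y [0, 1, 1, 0, 1, 0, 1, 0, 1, 1, 0, 1] = ev X Y [1, 0, 1, 1, 0, 1, 0, 1, 0, 1, 1, 0, 1] := rfl
  have h124_0 : X * ev X Y [0, 1, 1, 0, 1, 0, 1, 1, 0, 1, 1, 0] = ev X Y [1, 1, 0, 1, 0, 1, 1, 0, 1, 1, 0] := by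
    show X * (X * (Y * (Y * (X * (Y * (X * (Y * (Y * (X * (Y * (Y * (X * 1)))))))))))) = Y * (Y * (X * (Y * (X * (Y * (Y * (X * (Y * (Y * (X * 1))))))))))
    rw [r0 (Y * (Y * (X * (Y * (X * (Y * (Y * (X * (Y * (Y * (X * 1)))))))))))]
  have h124_1 : Y * ev X Y [0, 1, 1, 0, 1, 0, 1, 1, 0, 1, 1, 0] = ev X Y [0, 1, 0, 1, 1, 0, 1, 0, 1, 0] := by
    show Y * (X * (Y * (Y * (X * (Y * (X * (Y * (Y * (X * (Y * (Y * (X * 1)))))))))))) = X * (Y * (X * (Y * (Y * (X * (Y * (X * (Y * (X * 1)))))))))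
    rw [r19 (Y * (Y * (X * 1))), r1 (Y * (X * 1))]
  have h125_0 : X * ev X Y [0, 1, 1, 0, 1, 1, 0, 1, 0, 1, 0, 1] = ev X Y [1, 1, 0, 1, 1, 0, 1, 0, 1, 0, 1] := by
    show X * (X * (Y * (Y * (X * (Y * (Y * (X * (Y * (X * (Y * (X * (Y * 1)))))))))))) = Y * (Y * (X * (Y * (Y * (X * (Y * (X * (Y * (X * (Y * 1))))))))))
    rw [r0 (Y * (Y * (X * (Y * (Y * (X * (Y * (X * (Y * (X * (Y * 1)))))))))))]
  have h125_1 : Y * ev X Y [0, 1, 1, 0, 1, 1, 0, 1, 0, 1, 0, 1] = ev X Y [0, 1, 0, 1, 1, 0, 1, 0, 1, 0, 1, 1, 0] := by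
    show Y * (X * (Y * (Y * (X * (Y * (Y * (X * (Y * (X * (Y * (X * (Y * 1)))))))))))) = X * (Y * (X * (Y * (Y * (X * (Y * (X * (Y * (X * (Y * (Y * (X * 1))))))))))))
    rw [r56 (1)]
  have h126_0 : X * ev X Y [1, 0, 1, 0, 1, 0, 1, 1, 0, 1, 0, 1] = ev X Y [0, 1, 0, 1, 0, 1, 0, 1, 1, 0, 1, 0, 1] := rfl
  have h126_1 : Y * ev X Y [1, 0, 1, 0, 1, 0, 1, 1, 0, 1, 0, 1] = ev X Y [1, 1, 0, 1, 0, 1, 0, 1, 1, 0, 1, 0, 1] := rfl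
  have h127_0 : X * ev X Y [1, 0, 1, 0, 1, 0, 1, 1, 0, 1, 1, 0] = ev X Y [0, 1, 0, 1, 0, 1, 0, 1, 1, 0, 1, 1, 0] := rfl
  have h127_1 : Y * ev X Y [1, 0, 1, 0, 1, 0, 1, 1, 0, 1, 1, 0] = ev X Y [1, 1, 0, 1, 0, 1, 0, 1, 1, 0, 1, 1, 0] := rfl
  have h128_0 : X * ev X Y [1, 0, 1, 0, 1, 1, 0, 1, 0, 1, 0, 1] = ev X Y [0, 1, 0, 1, 0, 1, 1, 0, 1, 0, 1, 0, 1] := rfl
  have h128_1 : Y * ev X Y [1, 0, 1, 0, 1, 1, 0, 1, 0, 1, 0, 1] = ev X Y [0, 1, 1, 0, 1, 0, 1, 1, 0, 1, 1, 0, 1] := by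
    show Y * (Y * (X * (Y * (X * (Y * (Y * (X * (Y * (X * (Y * (X * (Y * 1)))))))))))) = X * (Y * (Y * (X * (Y * (X * (Y * (Y * (X * (Y * (Y * (X * (Y * 1))))))))))))
    rw [r51 (Y * (X * (Y * 1)))]
  have h129_0 : X * ev X Y [1, 0, 1, 0, 1, 1, 0, 1, 1, 0, 1, 0] = ev X Y [0, 1, 0, 1, 0, 1, 1, 0, 1, 1, 0, 1, 0] := rfl
  have h129_1 : Y * ev X Y [1, 0, 1, 0, 1, 1, 0, 1, 1, 0, 1, 0] = ev X Y [1, 1, 0, 1, 0, 1, 1, 0, 1, 1, 0, 1, 0] := rfl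
  have h130_0 : X * ev X Y [1, 0, 1, 1, 0, 1, 0, 1, 0, 1, 1, 0] = ev X Y [0, 1, 0, 1, 1, 0, 1, 0, 1, 0, 1, 1, 0] := rfl
  have h130_1 : Y * ev X Y [1, 0, 1, 1, 0, 1, 0, 1, 0, 1, 1, 0] = ev X Y [1, 1, 0, 1, 1, 0, 1, 0, 1, 0, 1, 1, 0] := rfl
  have h131_0 : X * ev X Y [1, 0, 1, 1, 0, 1, 1, 0, 1, 0, 1, 0] = ev X Y [0, 1, 0, 1, 1, 0, 1, 1, 0, 1, 0, 1, 0] := rfl
  have h131_1 : Y * ev X Y [1, 0, 1, 1, 0, 1, 1, 0, 1, 0, 1, 0] = ev X Y [0, 1, 0, 1, 0, 1, 0, 1, 1, 0, 1, 0] := by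
    show Y * (Y * (X * (Y * (Y * (X * (Y * (Y * (X * (Y * (X * (Y * (X * 1)))))))))))) = X * (Y * (X * (Y * (X * (Y * (X * (Y * (Y * (X * (Y * (X * 1)))))))))))
    rw [r15 (Y * (X * (Y * (X * 1))))]
  have h132_0 : X * ev X Y [1, 0, 1, 1, 0, 1, 1, 0, 1, 0, 1, 1] = ev X Y [0, 1, 0, 1, 1, 0, 1, 1, 0, 1, 0, 1, 1] := rfl
  have h132_1 : Y * ev X Y [1, 0, 1, 1, 0, 1, 1, 0, 1, 0, 1, 1] = ev X Y [0, 1, 0, 1, 0, 1, 0, 1, 1, 0, 1, 1] := by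
    show Y * (Y * (X * (Y * (Y * (X * (Y * (Y * (X * (Y * (X * (Y * (Y * 1)))))))))))) = X * (Y * (X * (Y * (X * (Y * (X * (Y * (Y * (X * (Y * (Y * 1)))))))))))
    rw [r15 (Y * (X * (Y * (Y * 1))))]
  have h133_0 : X * ev X Y [1, 1, 0, 1, 0, 1, 0, 1, 1, 0, 1, 0] = ev X Y [0, 1, 1, 0, 1, 0, 1, 0, 1, 1, 0, 1, 0] := rfl
  have h133_1 : Y * ev X Y [1, 1, 0, 1, 0, 1, 0, 1, 1, 0, 1, 0] = ev X Y [0, 1, 0, 1, 0, 1, 1, 0, 1, 0] := by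
    show Y * (Y * (Y * (X * (Y * (X * (Y * (X * (Y * (Y * (X * (Y * (X * 1)))))))))))) = X * (Y * (X * (Y * (X * (Y * (Y * (X * (Y * (X * 1)))))))))
    rw [r1 (X * (Y * (X * (Y * (X * (Y * (Y * (X * (Y * (X * 1))))))))))]
  have h134_0 : X * ev X Y [1, 1, 0, 1, 0, 1, 0, 1, 1, 0, 1, 1] = ev X Y [0, 1, 1, 0, 1, 0, 1, 0, 1, 1, 0, 1, 1] := rfl
  have h134_1 : Y * ev X Y [1, 1, 0, 1, 0, 1, 0, 1, 1, 0, 1, 1] = ev X Y [0, 1, 0, 1, 0, 1, 1, 0, 1, 1] := by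
    show Y * (Y * (Y * (X * (Y * (X * (Y * (X * (Y * (Y * (X * (Y * (Y * 1)))))))))))) = X * (Y * (X * (Y * (X * (Y * (Y * (X * (Y * (Y * 1)))))))))
    rw [r1 (X * (Y * (X * (Y * (X * (Y * (Y * (X * (Y * (Y * 1))))))))))]
  have h135_0 : X * ev X Y [1, 1, 0, 1, 0, 1, 1, 0, 1, 1, 0, 1] = ev X Y [0, 1, 1, 0, 1, 0, 1, 1, 0, 1, 1, 0, 1] := rfl
  have h135_1 : Y * ev X Y [1, 1, 0, 1, 0, 1, 1, 0, 1, 1, 0, 1] = ev X Y [0, 1, 0, 1, 1, 0, 1, 1, 0, 1] := by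
    show Y * (Y * (Y * (X * (Y * (X * (Y * (Y * (X * (Y * (Y * (X * (Y * 1)))))))))))) = X * (Y * (X * (Y * (Y * (X * (Y * (Y * (X * (Y * 1)))))))))
    rw [r1 (X * (Y * (X * (Y * (Y * (X * (Y * (Y * (X * (Y * 1))))))))))]
  have h136_0 : X * ev X Y [1, 1, 0, 1, 1, 0, 1, 0, 1, 0, 1, 0] = ev X Y [0, 1, 1, 0, 1, 1, 0, 1, 0, 1, 0, 1, 0] := rfl
  have h136_1 : Y * ev X Y [1, 1, 0, 1, 1, 0, 1, 0, 1, 0, 1, 0] = ev X Y [0, 1, 1, 0, 1, 0, 1, 0, 1, 0] := by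
    show Y * (Y * (Y * (X * (Y * (Y * (X * (Y * (X * (Y * (X * (Y * (X * 1)))))))))))) = X * (Y * (Y * (X * (Y * (X * (Y * (X * (Y * (X * 1)))))))))
    rw [r1 (X * (Y * (Y * (X * (Y * (X * (Y * (X * (Y * (X * 1))))))))))]
  have h137_0 : X * ev X Y [1, 1, 0, 1, 1, 0, 1, 0, 1, 0, 1, 1] = ev X Y [0, 1, 1, 0, 1, 1, 0, 1, 0, 1, 0, 1, 1] := rfl
  have h137_1 : Y * ev X Y [1, 1, 0, 1, 1, 0, 1, 0, 1, 0, 1, 1] = ev X Y [0, 1, 1, 0, 1, 0, 1, 0, 1, 1] := by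
    show Y * (Y * (Y * (X * (Y * (Y * (X * (Y * (X * (Y * (X * (Y * (Y * 1)))))))))))) = X * (Y * (Y * (X * (Y * (X * (Y * (X * (Y * (Y * 1)))))))))
    rw [r1 (X * (Y * (Y * (X * (Y * (X * (Y * (X * (Y * (Y * 1))))))))))]
  have h138_0 : X * ev X Y [0, 1, 0, 1, 0, 1, 0, 1, 1, 0, 1, 0, 1] = ev X Y [1, 0, 1, 0, 1, 0, 1, 1, 0, 1, 0, 1] := by
    show X * (X * (Y * (X * (Y * (X * (Y * (X * (Y * (Y * (X * (Y * (X * (Y * 1))))))))))))) = Y * (X * (Y * (X * (Y * (X * (Y * (Y * (X * (Y * (X * (Y * 1)))))))))))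
    rw [r0 (Y * (X * (Y * (X * (Y * (X * (Y * (Y * (X * (Y * (X * (Y * 1))))))))))))]
  have h138_1 : Y * ev X Y [0, 1, 0, 1, 0, 1, 0, 1, 1, 0, 1, 0, 1] = ev X Y [0, 1, 1, 0, 1, 1, 0, 1, 0, 1, 0, 1] := by
    show Y * (X * (Y * (X * (Y * (X * (Y * (X * (Y * (Y * (X * (Y * (X * (Y * 1))))))))))))) = X * (Y * (Y * (X * (Y * (Y * (X * (Y * (X * (Y * (X * (Y * 1)))))))))))
    rw [r11 (Y * (X * (Y * (X * (Y * 1)))))]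
  have h139_0 : X * ev X Y [0, 1, 0, 1, 0, 1, 0, 1, 1, 0, 1, 1, 0] = ev X Y [1, 0, 1, 0, 1, 0, 1, 1, 0, 1, 1, 0] := by
    show X * (X * (Y * (X * (Y * (X * (Y * (X * (Y * (Y * (X * (Y * (Y * (X * 1))))))))))))) = Y * (X * (Y * (X * (Y * (X * (Y * (Y * (X * (Y * (Y * (X * 1)))))))))))
    rw [r0 (Y * (X * (Y * (X * (Y * (X * (Y * (Y * (X * (Y * (Y * (X * 1))))))))))))]
  have h139_1 : Y * ev X Y [0, 1, 0, 1, 0, 1, 0, 1, 1, 0, 1, 1, 0] = ev X Y [0, 1, 0, 1, 0, 1, 1, 0, 1, 0, 1, 1] := by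
    show Y * (X * (Y * (X * (Y * (X * (Y * (X * (Y * (Y * (X * (Y * (Y * (X * 1))))))))))))) = X * (Y * (X * (Y * (X * (Y * (Y * (X * (Y * (X * (Y * (Y * 1)))))))))))
    rw [r11 (Y * (X * (Y * (Y * (X * 1))))), r19 (1)]
  have h140_0 : X * ev X Y [0, 1, 0, 1, 0, 1, 1, 0, 1, 0, 1, 0, 1] = ev X Y [1, 0, 1, 0, 1, 1, 0, 1, 0, 1, 0, 1] := by
    show X * (X * (Y * (X * (Y * (X * (Y * (Y * (X * (Y * (X * (Y * (X * (Y * 1))))))))))))) = Y * (X * (Y * (X * (Y * (Y * (X * (Y * (X * (Y * (X * (Y * 1)))))))))))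
    rw [r0 (Y * (X * (Y * (X * (Y * (Y * (X * (Y * (X * (Y * (X * (Y * 1))))))))))))]
  have h140_1 : Y * ev X Y [0, 1, 0, 1, 0, 1, 1, 0, 1, 0, 1, 0, 1] = ev X Y [0, 1, 0, 1, 0, 1, 1, 0, 1, 0, 1, 0] := by
    show Y * (X * (Y * (X * (Y * (X * (Y * (Y * (X * (Y * (X * (Y * (X * (Y * 1))))))))))))) = X * (Y * (X * (Y * (X * (Y * (Y * (X * (Y * (X * (Y * (X * 1)))))))))))
    rw [r22 (1)]
  have h141_0 : X * ev X Y [0, 1, 0, 1, 0, 1, 1, 0, 1, 1, 0, 1, 0] = ev X Y [1, 0, 1, 0, 1, 1, 0, 1, 1, 0, 1, 0] := by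
    show X * (X * (Y * (X * (Y * (X * (Y * (Y * (X * (Y * (Y * (X * (Y * (X * 1))))))))))))) = Y * (X * (Y * (X * (Y * (Y * (X * (Y * (Y * (X * (Y * (X * 1)))))))))))
    rw [r0 (Y * (X * (Y * (X * (Y * (Y * (X * (Y * (Y * (X * (Y * (X * 1))))))))))))]
  have h141_1 : Y * ev X Y [0, 1, 0, 1, 0, 1, 1, 0, 1, 1, 0, 1, 0] = ev X Y [0, 1, 1, 0, 1, 0, 1, 0, 1, 1, 0, 1] := by
    show Y * (X * (Y * (X * (Y * (X * (Y * (Y * (X * (Y * (Y * (X * (Y * (X * 1))))))))))))) = X * (Y * (Y * (X * (Y * (X * (Y * (X * (Y * (Y * (X * (Y * 1)))))))))))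
    rw [r54 (X * 1), r0 (1)]
  have h142_0 : X * ev X Y [0, 1, 0, 1, 1, 0, 1, 0, 1, 0, 1, 1, 0] = ev X Y [1, 0, 1, 1, 0, 1, 0, 1, 0, 1, 1, 0] := by
    show X * (X * (Y * (X * (Y * (Y * (X * (Y * (X * (Y * (X * (Y * (Y * (X * 1))))))))))))) = Y * (X * (Y * (Y * (X * (Y * (X * (Y * (X * (Y * (Y * (X * 1)))))))))))
    rw [r0 (Y * (X * (Y * (Y * (X * (Y * (X * (Y * (X * (Y * (Y * (X * 1))))))))))))]
  have h142_1 : Y * ev X Y [0, 1, 0, 1, 1, 0, 1, 0, 1, 0, 1, 1, 0] = ev X Y [0, 1, 0, 1, 0, 1, 0, 1, 1, 0, 1, 0, 1] := by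
    show Y * (X * (Y * (X * (Y * (Y * (X * (Y * (X * (Y * (X * (Y * (Y * (X * 1))))))))))))) = X * (Y * (X * (Y * (X * (Y * (X * (Y * (Y * (X * (Y * (X * (Y * 1))))))))))))
    rw [r57 (1)]
  have h143_0 : X * ev X Y [0, 1, 0, 1, 1, 0, 1, 1, 0, 1, 0, 1, 0] = ev X Y [1, 0, 1, 1, 0, 1, 1, 0, 1, 0, 1, 0] := by
    show X * (X * (Y * (X * (Y * (Y * (X * (Y * (Y * (X * (Y * (X * (Y * (X * 1))))))))))))) = Y * (X * (Y * (Y * (X * (Y * (Y * (X * (Y * (X * (Y * (X * 1)))))))))))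
    rw [r0 (Y * (X * (Y * (Y * (X * (Y * (Y * (X * (Y * (X * (Y * (X * 1))))))))))))]
  have h143_1 : Y * ev X Y [0, 1, 0, 1, 1, 0, 1, 1, 0, 1, 0, 1, 0] = ev X Y [0, 1, 0, 1, 0, 1, 1, 0, 1, 1, 0, 1, 0, 1] := by
    show Y * (X * (Y * (X * (Y * (Y * (X * (Y * (Y * (X * (Y * (X * (Y * (X * 1))))))))))))) = X * (Y * (X * (Y * (X * (Y * (Y * (X * (Y * (Y * (X * (Y * (X * (Y * 1)))))))))))))
    rw [r61 (1)]
  have h144_0 : X * ev X Y [0, 1, 0, 1, 1, 0, 1, 1, 0, 1, 0, 1, 1] = ev X Y [1, 0, 1, 1, 0, 1, 1, 0, 1, 0, 1, 1] := by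
    show X * (X * (Y * (X * (Y * (Y * (X * (Y * (Y * (X * (Y * (X * (Y * (Y * 1))))))))))))) = Y * (X * (Y * (Y * (X * (Y * (Y * (X * (Y * (X * (Y * (Y * 1)))))))))))
    rw [r0 (Y * (X * (Y * (Y * (X * (Y * (Y * (X * (Y * (X * (Y * (Y * 1))))))))))))]
  have h144_1 : Y * ev X Y [0, 1, 0, 1, 1, 0, 1, 1, 0, 1, 0, 1, 1] = ev X Y [0, 1, 1, 0, 1, 1, 0, 1, 0, 1, 0, 1, 1, 0] := by
    show Y * (X * (Y * (X * (Y * (Y * (X * (Y * (Y * (X * (Y * (X * (Y * (Y * 1))))))))))))) = X * (Y * (Y * (X * (Y * (Y * (X * (Y * (X * (Y * (X * (Y * (Y * (X * 1)))))))))))))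
    rw [r32 (1)]
  have h145_0 : X * ev X Y [0, 1, 1, 0, 1, 0, 1, 0, 1, 1, 0, 1, 0] = ev X Y [1, 1, 0, 1, 0, 1, 0, 1, 1, 0, 1, 0] := by
    show X * (X * (Y * (Y * (X * (Y * (X * (Y * (X * (Y * (Y * (X * (Y * (X * 1))))))))))))) = Y * (Y * (X * (Y * (X * (Y * (X * (Y * (Y * (X * (Y * (X * 1)))))))))))
    rw [r0 (Y * (Y * (X * (Y * (X * (Y * (X * (Y * (Y * (X * (Y * (X * 1))))))))))))]
  have h145_1 : Y * ev X Y [0, 1, 1, 0, 1, 0, 1, 0, 1, 1, 0, 1, 0] = ev X Y [1, 0, 1, 1, 0, 1, 0, 1, 0, 1, 1, 0, 1, 0] := rfl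
  have h146_0 : X * ev X Y [0, 1, 1, 0, 1, 0, 1, 0, 1, 1, 0, 1, 1] = ev X Y [1, 1, 0, 1, 0, 1, 0, 1, 1, 0, 1, 1] := by
    show X * (X * (Y * (Y * (X * (Y * (X * (Y * (X * (Y * (Y * (X * (Y * (Y * 1))))))))))))) = Y * (Y * (X * (Y * (X * (Y * (X * (Y * (Y * (X * (Y * (Y * 1)))))))))))
    rw [r0 (Y * (Y * (X * (Y * (X * (Y * (X * (Y * (Y * (X * (Y * (Y * 1))))))))))))]
  have h146_1 : Y * ev X Y [0, 1, 1, 0, 1, 0, 1, 0, 1, 1, 0, 1, 1] = ev X Y [0, 1, 0, 1, 1, 0, 1, 1, 0, 1, 0, 1, 0] := by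
    show Y * (X * (Y * (Y * (X * (Y * (X * (Y * (X * (Y * (Y * (X * (Y * (Y * 1))))))))))))) = X * (Y * (X * (Y * (Y * (X * (Y * (Y * (X * (Y * (X * (Y * (X * 1))))))))))))
    rw [r52 (1)]
  have h147_0 : X * ev X Y [0, 1, 1, 0, 1, 0, 1, 1, 0, 1, 1, 0, 1] = ev X Y [1, 1, 0, 1, 0, 1, 1, 0, 1, 1, 0, 1] := by
    show X * (X * (Y * (Y * (X * (Y * (X * (Y * (Y * (X * (Y * (Y * (X * (Y * 1))))))))))))) = Y * (Y * (X * (Y * (X * (Y * (Y * (X * (Y * (Y * (X * (Y * 1)))))))))))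
    rw [r0 (Y * (Y * (X * (Y * (X * (Y * (Y * (X * (Y * (Y * (X * (Y * 1))))))))))))]
  have h147_1 : Y * ev X Y [0, 1, 1, 0, 1, 0, 1, 1, 0, 1, 1, 0, 1] = ev X Y [0, 1, 0, 1, 1, 0, 1, 0, 1, 0, 1] := by
    show Y * (X * (Y * (Y * (X * (Y * (X * (Y * (Y * (X * (Y * (Y * (X * (Y * 1))))))))))))) = X * (Y * (X * (Y * (Y * (X * (Y * (X * (Y * (X * (Y * 1))))))))))
    rw [r19 (Y * (Y * (X * (Y * 1)))), r1 (Y * (X * (Y * 1)))]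
  have h148_0 : X * ev X Y [0, 1, 1, 0, 1, 1, 0, 1, 0, 1, 0, 1, 0] = ev X Y [1, 1, 0, 1, 1, 0, 1, 0, 1, 0, 1, 0] := by
    show X * (X * (Y * (Y * (X * (Y * (Y * (X * (Y * (X * (Y * (X * (Y * (X * 1))))))))))))) = Y * (Y * (X * (Y * (Y * (X * (Y * (X * (Y * (X * (Y * (X * 1)))))))))))
    rw [r0 (Y * (Y * (X * (Y * (Y * (X * (Y * (X * (Y * (X * (Y * (X * 1))))))))))))]
  have h148_1 : Y * ev X Y [0, 1, 1, 0, 1, 1, 0, 1, 0, 1, 0, 1, 0] = ev X Y [0, 1, 0, 1, 1, 0, 1, 0, 1, 0, 1, 1] := by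
    show Y * (X * (Y * (Y * (X * (Y * (Y * (X * (Y * (X * (Y * (X * (Y * (X * 1))))))))))))) = X * (Y * (X * (Y * (Y * (X * (Y * (X * (Y * (X * (Y * (Y * 1)))))))))))
    rw [r56 (X * 1), r0 (1)]
  have h149_0 : X * ev X Y [0, 1, 1, 0, 1, 1, 0, 1, 0, 1, 0, 1, 1] = ev X Y [1, 1, 0, 1, 1, 0, 1, 0, 1, 0, 1, 1] := by
    show X * (X * (Y * (Y * (X * (Y * (Y * (X * (Y * (X * (Y * (X * (Y * (Y * 1))))))))))))) = Y * (Y * (X * (Y * (Y * (X * (Y * (X * (Y * (X * (Y * (Y * 1)))))))))))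
    rw [r0 (Y * (Y * (X * (Y * (Y * (X * (Y * (X * (Y * (X * (Y * (Y * 1))))))))))))]
  have h149_1 : Y * ev X Y [0, 1, 1, 0, 1, 1, 0, 1, 0, 1, 0, 1, 1] = ev X Y [0, 1, 0, 1, 1, 0, 1, 0, 1, 0, 1, 1, 0, 1] := by
    show Y * (X * (Y * (Y * (X * (Y * (Y * (X * (Y * (X * (Y * (X * (Y * (Y * 1))))))))))))) = X * (Y * (X * (Y * (Y * (X * (Y * (X * (Y * (X * (Y * (Y * (X * (Y * 1)))))))))))))
    rw [r56 (Y * 1)]
  have h150_0 : X * ev X Y [1, 0, 1, 0, 1, 0, 1, 1, 0, 1, 0, 1, 0] = ev X Y [1, 0, 1, 0, 1, 1, 0, 1, 0, 1, 0, 1, 1] := by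
    show X * (Y * (X * (Y * (X * (Y * (X * (Y * (Y * (X * (Y * (X * (Y * (X * 1))))))))))))) = Y * (X * (Y * (X * (Y * (Y * (X * (Y * (X * (Y * (X * (Y * (Y * 1))))))))))))
    rw [r25 (1)]
  have h150_1 : Y * ev X Y [1, 0, 1, 0, 1, 0, 1, 1, 0, 1, 0, 1, 0] = ev X Y [0, 1, 0, 1, 0, 1, 1, 0, 1, 0, 1, 0, 1] := by
    show Y * (Y * (X * (Y * (X * (Y * (X * (Y * (Y * (X * (Y * (X * (Y * (X * 1))))))))))))) = X * (Y * (X * (Y * (X * (Y * (Y * (X * (Y * (X * (Y * (X * (Y * 1))))))))))))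
    rw [r23 (1)]
  have h151_0 : X * ev X Y [1, 0, 1, 0, 1, 0, 1, 1, 0, 1, 0, 1, 1] = ev X Y [0, 1, 0, 1, 0, 1, 0, 1, 1, 0, 1, 0, 1, 1] := rfl
  have h151_1 : Y * ev X Y [1, 0, 1, 0, 1, 0, 1, 1, 0, 1, 0, 1, 1] = ev X Y [0, 1, 0, 1, 0, 1, 0, 1, 1, 0, 1, 1, 0] := by
    show Y * (Y * (X * (Y * (X * (Y * (X * (Y * (Y * (X * (Y * (X * (Y * (Y * 1))))))))))))) = X * (Y * (X * (Y * (X * (Y * (X * (Y * (Y * (X * (Y * (Y * (X * 1))))))))))))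
    rw [r30 (1)]
  have h152_0 : X * ev X Y [1, 0, 1, 0, 1, 1, 0, 1, 0, 1, 0, 1, 0] = ev X Y [1, 1, 0, 1, 0, 1, 0, 1, 1, 0, 1, 0, 1] := by
    show X * (Y * (X * (Y * (X * (Y * (Y * (X * (Y * (X * (Y * (X * (Y * (X * 1))))))))))))) = Y * (Y * (X * (Y * (X * (Y * (X * (Y * (Y * (X * (Y * (X * (Y * 1))))))))))))
    rw [r60 (1)]
  have h152_1 : Y * ev X Y [1, 0, 1, 0, 1, 1, 0, 1, 0, 1, 0, 1, 0] = ev X Y [0, 1, 1, 0, 1, 0, 1, 1, 0, 1, 1, 0, 1, 0] := by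
    show Y * (Y * (X * (Y * (X * (Y * (Y * (X * (Y * (X * (Y * (X * (Y * (X * 1))))))))))))) = X * (Y * (Y * (X * (Y * (X * (Y * (Y * (X * (Y * (Y * (X * (Y * (X * 1)))))))))))))
    rw [r51 (Y * (X * (Y * (X * 1))))]
  have h153_0 : X * ev X Y [1, 0, 1, 0, 1, 1, 0, 1, 0, 1, 0, 1, 1] = ev X Y [1, 0, 1, 0, 1, 0, 1, 1, 0, 1, 0, 1, 0] := by
    show X * (Y * (X * (Y * (X * (Y * (Y * (X * (Y * (X * (Y * (X * (Y * (Y * 1))))))))))))) = Y * (X * (Y * (X * (Y * (X * (Y * (Y * (X * (Y * (X * (Y * (X * 1))))))))))))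
    rw [r24 (1)]
  have h153_1 : Y * ev X Y [1, 0, 1, 0, 1, 1, 0, 1, 0, 1, 0, 1, 1] = ev X Y [0, 1, 1, 0, 1, 1, 0, 1, 0, 1, 0, 1, 0] := by
    show Y * (Y * (X * (Y * (X * (Y * (Y * (X * (Y * (X * (Y * (X * (Y * (Y * 1))))))))))))) = X * (Y * (Y * (X * (Y * (Y * (X * (Y * (X * (Y * (X * (Y * (X * 1))))))))))))
    rw [r51 (Y * (X * (Y * (Y * 1)))), r20 (1)]
  have h154_0 : X * ev X Y [1, 0, 1, 0, 1, 1, 0, 1, 1, 0, 1, 0, 1] = ev X Y [0, 1, 0, 1, 0, 1, 1, 0, 1, 1, 0, 1, 0, 1] := rfl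
  have h154_1 : Y * ev X Y [1, 0, 1, 0, 1, 1, 0, 1, 1, 0, 1, 0, 1] = ev X Y [0, 1, 1, 0, 1, 0, 1, 0, 1, 1, 0, 1, 1, 0] := by
    show Y * (Y * (X * (Y * (X * (Y * (Y * (X * (Y * (Y * (X * (Y * (X * (Y * 1))))))))))))) = X * (Y * (Y * (X * (Y * (X * (Y * (X * (Y * (Y * (X * (Y * (Y * (X * 1)))))))))))))
    rw [r44 (1)]
  have h155_0 : X * ev X Y [1, 0, 1, 1, 0, 1, 0, 1, 0, 1, 1, 0, 1] = ev X Y [0, 1, 0, 1, 1, 0, 1, 0, 1, 0, 1, 1, 0, 1] := rfl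
  have h155_1 : Y * ev X Y [1, 0, 1, 1, 0, 1, 0, 1, 0, 1, 1, 0, 1] = ev X Y [0, 1, 0, 1, 0, 1, 1, 0, 1, 1, 0, 1, 0] := by
    show Y * (Y * (X * (Y * (Y * (X * (Y * (X * (Y * (X * (Y * (Y * (X * (Y * 1))))))))))))) = X * (Y * (X * (Y * (X * (Y * (Y * (X * (Y * (Y * (X * (Y * (X * 1))))))))))))
    rw [r47 (1)]
  have h156_0 : X * ev X Y [1, 1, 0, 1, 0, 1, 0, 1, 1, 0, 1, 0, 1] = ev X Y [1, 0, 1, 0, 1, 1, 0, 1, 0, 1, 0, 1, 0] := by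
    show X * (Y * (Y * (X * (Y * (X * (Y * (X * (Y * (Y * (X * (Y * (X * (Y * 1))))))))))))) = Y * (X * (Y * (X * (Y * (Y * (X * (Y * (X * (Y * (X * (Y * (X * 1))))))))))))
    rw [r59 (1)]
  have h156_1 : Y * ev X Y [1, 1, 0, 1, 0, 1, 0, 1, 1, 0, 1, 0, 1] = ev X Y [0, 1, 0, 1, 0, 1, 1, 0, 1, 0, 1] := by
    show Y * (Y * (Y * (X * (Y * (X * (Y * (X * (Y * (Y * (X * (Y * (X * (Y * 1))))))))))))) = X * (Y * (X * (Y * (X * (Y * (Y * (X * (Y * (X * (Y * 1))))))))))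
    rw [r1 (X * (Y * (X * (Y * (X * (Y * (Y * (X * (Y * (X * (Y * 1)))))))))))]
  have h157_0 : X * ev X Y [1, 1, 0, 1, 0, 1, 0, 1, 1, 0, 1, 1, 0] = ev X Y [0, 1, 1, 0, 1, 0, 1, 0, 1, 1, 0, 1, 1, 0] := rfl
  have h157_1 : Y * ev X Y [1, 1, 0, 1, 0, 1, 0, 1, 1, 0, 1, 1, 0] = ev X Y [0, 1, 0, 1, 0, 1, 1, 0, 1, 1, 0] := by
    show Y * (Y * (Y * (X * (Y * (X * (Y * (X * (Y * (Y * (X * (Y * (Y * (X * 1))))))))))))) = X * (Y * (X * (Y * (X * (Y * (Y * (X * (Y * (Y * (X * 1))))))))))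
    rw [r1 (X * (Y * (X * (Y * (X * (Y * (Y * (X * (Y * (Y * (X * 1)))))))))))]
  have h158_0 : X * ev X Y [1, 1, 0, 1, 0, 1, 1, 0, 1, 1, 0, 1, 0] = ev X Y [0, 1, 1, 0, 1, 0, 1, 1, 0, 1, 1, 0, 1, 0] := rfl
  have h158_1 : Y * ev X Y [1, 1, 0, 1, 0, 1, 1, 0, 1, 1, 0, 1, 0] = ev X Y [0, 1, 0, 1, 1, 0, 1, 1, 0, 1, 0] := by
    show Y * (Y * (Y * (X * (Y * (X * (Y * (Y * (X * (Y * (Y * (X * (Y * (X * 1))))))))))))) = X * (Y * (X * (Y * (Y * (X * (Y * (Y * (X * (Y * (X * 1))))))))))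
    rw [r1 (X * (Y * (X * (Y * (Y * (X * (Y * (Y * (X * (Y * (X * 1)))))))))))]
  have h159_0 : X * ev X Y [1, 1, 0, 1, 1, 0, 1, 0, 1, 0, 1, 1, 0] = ev X Y [0, 1, 1, 0, 1, 1, 0, 1, 0, 1, 0, 1, 1, 0] := rfl
  have h159_1 : Y * ev X Y [1, 1, 0, 1, 1, 0, 1, 0, 1, 0, 1, 1, 0] = ev X Y [0, 1, 1, 0, 1, 0, 1, 0, 1, 1, 0] := by
    show Y * (Y * (Y * (X * (Y * (Y * (X * (Y * (X * (Y * (X * (Y * (Y * (X * 1))))))))))))) = X * (Y * (Y * (X * (Y * (X * (Y * (X * (Y * (Y * (X * 1))))))))))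
    rw [r1 (X * (Y * (Y * (X * (Y * (X * (Y * (X * (Y * (Y * (X * 1)))))))))))]
  have h160_0 : X * ev X Y [0, 1, 0, 1, 0, 1, 0, 1, 1, 0, 1, 0, 1, 1] = ev X Y [1, 0, 1, 0, 1, 0, 1, 1, 0, 1, 0, 1, 1] := by
    show X * (X * (Y * (X * (Y * (X * (Y * (X * (Y * (Y * (X * (Y * (X * (Y * (Y * 1)))))))))))))) = Y * (X * (Y * (X * (Y * (X * (Y * (Y * (X * (Y * (X * (Y * (Y * 1))))))))))))
    rw [r0 (Y * (X * (Y * (X * (Y * (X * (Y * (Y * (X * (Y * (X * (Y * (Y * 1)))))))))))))]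
  have h160_1 : Y * ev X Y [0, 1, 0, 1, 0, 1, 0, 1, 1, 0, 1, 0, 1, 1] = ev X Y [0, 1, 1, 0, 1, 1, 0, 1, 0, 1, 0, 1, 1] := by
    show Y * (X * (Y * (X * (Y * (X * (Y * (X * (Y * (Y * (X * (Y * (X * (Y * (Y * 1)))))))))))))) = X * (Y * (Y * (X * (Y * (Y * (X * (Y * (X * (Y * (X * (Y * (Y * 1))))))))))))
    rw [r11 (Y * (X * (Y * (X * (Y * (Y * 1))))))]
  have h161_0 : X * ev X Y [0, 1, 0, 1, 0, 1, 1, 0, 1, 1, 0, 1, 0, 1] = ev X Y [1, 0, 1, 0, 1, 1, 0, 1, 1, 0, 1, 0, 1] := by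
    show X * (X * (Y * (X * (Y * (X * (Y * (Y * (X * (Y * (Y * (X * (Y * (X * (Y * 1)))))))))))))) = Y * (X * (Y * (X * (Y * (Y * (X * (Y * (Y * (X * (Y * (X * (Y * 1))))))))))))
    rw [r0 (Y * (X * (Y * (X * (Y * (Y * (X * (Y * (Y * (X * (Y * (X * (Y * 1)))))))))))))]
  have h161_1 : Y * ev X Y [0, 1, 0, 1, 0, 1, 1, 0, 1, 1, 0, 1, 0, 1] = ev X Y [0, 1, 1, 0, 1, 0, 1, 0, 1, 1, 0, 1, 1] := by
    show Y * (X * (Y * (X * (Y * (X * (Y * (Y * (X * (Y * (Y * (X * (Y * (X * (Y * 1)))))))))))))) = X * (Y * (Y * (X * (Y * (X * (Y * (X * (Y * (Y * (X * (Y * (Y * 1))))))))))))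
    rw [r54 (X * (Y * 1)), r0 (Y * 1)]
  have h162_0 : X * ev X Y [0, 1, 0, 1, 1, 0, 1, 0, 1, 0, 1, 1, 0, 1] = ev X Y [1, 0, 1, 1, 0, 1, 0, 1, 0, 1, 1, 0, 1] := by
    show X * (X * (Y * (X * (Y * (Y * (X * (Y * (X * (Y * (X * (Y * (Y * (X * (Y * 1)))))))))))))) = Y * (X * (Y * (Y * (X * (Y * (X * (Y * (X * (Y * (Y * (X * (Y * 1))))))))))))
    rw [r0 (Y * (X * (Y * (Y * (X * (Y * (X * (Y * (X * (Y * (Y * (X * (Y * 1)))))))))))))]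
  have h162_1 : Y * ev X Y [0, 1, 0, 1, 1, 0, 1, 0, 1, 0, 1, 1, 0, 1] = ev X Y [0, 1, 0, 1, 0, 1, 0, 1, 1, 0, 1, 0, 1, 1] := by
    show Y * (X * (Y * (X * (Y * (Y * (X * (Y * (X * (Y * (X * (Y * (Y * (X * (Y * 1)))))))))))))) = X * (Y * (X * (Y * (X * (Y * (X * (Y * (Y * (X * (Y * (X * (Y * (Y * 1)))))))))))))
    rw [r57 (Y * 1)]
  have h163_0 : X * ev X Y [0, 1, 1, 0, 1, 0, 1, 0, 1, 1, 0, 1, 1, 0] = ev X Y [1, 1, 0, 1, 0, 1, 0, 1, 1, 0, 1, 1, 0] := by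
    show X * (X * (Y * (Y * (X * (Y * (X * (Y * (X * (Y * (Y * (X * (Y * (Y * (X * 1)))))))))))))) = Y * (Y * (X * (Y * (X * (Y * (X * (Y * (Y * (X * (Y * (Y * (X * 1))))))))))))
    rw [r0 (Y * (Y * (X * (Y * (X * (Y * (X * (Y * (Y * (X * (Y * (Y * (X * 1)))))))))))))]
  have h163_1 : Y * ev X Y [0, 1, 1, 0, 1, 0, 1, 0, 1, 1, 0, 1, 1, 0] = ev X Y [0, 1, 0, 1, 1, 0, 1, 1, 0, 1, 0, 1] := by
    show Y * (X * (Y * (Y * (X * (Y * (X * (Y * (X * (Y * (Y * (X * (Y * (Y * (X * 1)))))))))))))) = X * (Y * (X * (Y * (Y * (X * (Y * (Y * (X * (Y * (X * (Y * 1)))))))))))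
    rw [r52 (X * 1), r0 (1)]
  have h164_0 : X * ev X Y [0, 1, 1, 0, 1, 0, 1, 1, 0, 1, 1, 0, 1, 0] = ev X Y [1, 1, 0, 1, 0, 1, 1, 0, 1, 1, 0, 1, 0] := by
    show X * (X * (Y * (Y * (X * (Y * (X * (Y * (Y * (X * (Y * (Y * (X * (Y * (X * 1)))))))))))))) = Y * (Y * (X * (Y * (X * (Y * (Y * (X * (Y * (Y * (X * (Y * (X * 1))))))))))))
    rw [r0 (Y * (Y * (X * (Y * (X * (Y * (Y * (X * (Y * (Y * (X * (Y * (X * 1)))))))))))))]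
  have h164_1 : Y * ev X Y [0, 1, 1, 0, 1, 0, 1, 1, 0, 1, 1, 0, 1, 0] = ev X Y [0, 1, 0, 1, 1, 0, 1, 0, 1, 0, 1, 0] := by
    show Y * (X * (Y * (Y * (X * (Y * (X * (Y * (Y * (X * (Y * (Y * (X * (Y * (X * 1)))))))))))))) = X * (Y * (X * (Y * (Y * (X * (Y * (X * (Y * (X * (Y * (X * 1)))))))))))
    rw [r19 (Y * (Y * (X * (Y * (X * 1))))), r1 (Y * (X * (Y * (X * 1))))]
  have h165_0 : X * ev X Y [0, 1, 1, 0, 1, 1, 0, 1, 0, 1, 0, 1, 1, 0] = ev X Y [1, 1, 0, 1, 1, 0, 1, 0, 1, 0, 1, 1, 0] := by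
    show X * (X * (Y * (Y * (X * (Y * (Y * (X * (Y * (X * (Y * (X * (Y * (Y * (X * 1)))))))))))))) = Y * (Y * (X * (Y * (Y * (X * (Y * (X * (Y * (X * (Y * (Y * (X * 1))))))))))))
    rw [r0 (Y * (Y * (X * (Y * (Y * (X * (Y * (X * (Y * (X * (Y * (Y * (X * 1)))))))))))))]
  have h165_1 : Y * ev X Y [0, 1, 1, 0, 1, 1, 0, 1, 0, 1, 0, 1, 1, 0] = ev X Y [0, 1, 0, 1, 1, 0, 1, 0, 1, 0, 1, 1, 0, 1, 0] := by
    show Y * (X * (Y * (Y * (X * (Y * (Y * (X * (Y * (X * (Y * (X * (Y * (Y * (X * 1)))))))))))))) = X * (Y * (X * (Y * (Y * (X * (Y * (X * (Y * (X * (Y * (Y * (X * (Y * (X * 1))))))))))))))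
    rw [r56 (Y * (X * 1))]
  have h166_0 : X * ev X Y [1, 0, 1, 1, 0, 1, 0, 1, 0, 1, 1, 0, 1, 0] = ev X Y [0, 1, 0, 1, 1, 0, 1, 0, 1, 0, 1, 1, 0, 1, 0] := rfl
  have h166_1 : Y * ev X Y [1, 0, 1, 1, 0, 1, 0, 1, 0, 1, 1, 0, 1, 0] = ev X Y [0, 1, 0, 1, 0, 1, 1, 0, 1, 1, 0, 1] := by
    show Y * (Y * (X * (Y * (Y * (X * (Y * (X * (Y * (X * (Y * (Y * (X * (Y * (X * 1)))))))))))))) = X * (Y * (X * (Y * (X * (Y * (Y * (X * (Y * (Y * (X * (Y * 1)))))))))))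
    rw [r47 (X * 1), r0 (1)]
  have h167_0 : X * ev X Y [0, 1, 0, 1, 1, 0, 1, 0, 1, 0, 1, 1, 0, 1, 0] = ev X Y [1, 0, 1, 1, 0, 1, 0, 1, 0, 1, 1, 0, 1, 0] := by
    show X * (X * (Y * (X * (Y * (Y * (X * (Y * (X * (Y * (X * (Y * (Y * (X * (Y * (X * 1))))))))))))))) = Y * (X * (Y * (Y * (X * (Y * (X * (Y * (X * (Y * (Y * (X * (Y * (X * 1)))))))))))))
    rw [r0 (Y * (X * (Y * (Y * (X * (Y * (X * (Y * (X * (Y * (Y * (X * (Y * (X * 1))))))))))))))]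
  have h167_1 : Y * ev X Y [0, 1, 0, 1, 1, 0, 1, 0, 1, 0, 1, 1, 0, 1, 0] = ev X Y [0, 1, 0, 1, 1, 0, 1, 1, 0, 1, 0, 1, 1] := by
    show Y * (X * (Y * (X * (Y * (Y * (X * (Y * (X * (Y * (X * (Y * (Y * (X * (Y * (X * 1))))))))))))))) = X * (Y * (X * (Y * (Y * (X * (Y * (Y * (X * (Y * (X * (Y * (Y * 1))))))))))))
    rw [r57 (Y * (X * 1)), r19 (1), r0 (Y * (X * (Y * (Y * (X * (Y * (X * (Y * (Y * 1)))))))))]
  simp only [tbl, List.forall_mem_cons]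
  exact ⟨⟨h0_0, h0_1⟩, ⟨h1_0, h1_1⟩, ⟨h2_0, h2_1⟩, ⟨h3_0, h3_1⟩, ⟨h4_0, h4_1⟩, ⟨h5_0, h5_1⟩, ⟨h6_0, h6_1⟩, ⟨h7_0, h7_1⟩, ⟨h8_0, h8_1⟩, ⟨h9_0, h9_1⟩, ⟨h10_0, h10_1⟩, ⟨h11_0, h11_1⟩, ⟨h12_0, h12_1⟩, ⟨h13_0, h13_1⟩, ⟨h14_0, h14_1⟩, ⟨h15_0, h15_1⟩, ⟨h16_0, h16_1⟩, ⟨h17_0, h17_1⟩, ⟨h18_0, h18_1⟩, ⟨h19_0, h19_1⟩, ⟨h20_0, h20_1⟩, ⟨h21_0, h21_1⟩, ⟨h22_0, h22_1⟩, ⟨h23_0, h23_1⟩, ⟨h24_0, h24_1⟩, ⟨h25_0, h25_1⟩, ⟨h26_0, h26_1⟩, ⟨h27_0, h27_1⟩, ⟨h28_0, h28_1⟩, ⟨h29_0, h29_1⟩, ⟨h30_0, h30_1⟩, ⟨h31_0, h31_1⟩, ⟨h32_0, h32_1⟩, ⟨h33_0, h33_1⟩, ⟨h34_0, h34_1⟩, ⟨h35_0, h35_1⟩, ⟨h36_0, h36_1⟩, ⟨h37_0, h37_1⟩, ⟨h38_0, h38_1⟩, ⟨h39_0, h39_1⟩, ⟨h40_0, h40_1⟩, ⟨h41_0, h41_1⟩, ⟨h42_0, h42_1⟩, ⟨h43_0, h43_1⟩, ⟨h44_0, h44_1⟩, ⟨h45_0, h45_1⟩, ⟨h46_0, h46_1⟩, ⟨h47_0, h47_1⟩, ⟨h48_0, h48_1⟩, ⟨h49_0, h49_1⟩, ⟨h50_0, h50_1⟩, ⟨h51_0, h51_1⟩, ⟨h52_0,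 h52_1⟩, ⟨h53_0, h53_1⟩, ⟨h54_0, h54_1⟩, ⟨h55_0, h55_1⟩, ⟨h56_0, h56_1⟩, ⟨h57_0, h57_1⟩, ⟨h58_0, h58_1⟩, ⟨h59_0, h59_1⟩, ⟨h60_0, h60_1⟩, ⟨h61_0, h61_1⟩, ⟨h62_0, h62_1⟩, ⟨h63_0, h63_1⟩, ⟨h64_0, h64_1⟩, ⟨h65_0, h65_1⟩, ⟨h66_0, h66_1⟩, ⟨h67_0, h67_1⟩, ⟨h68_0, h68_1⟩, ⟨h69_0, h69_1⟩, ⟨h70_0, h70_1⟩, ⟨h71_0, h71_1⟩, ⟨h72_0, h72_1⟩, ⟨h73_0, h73_1⟩, ⟨h74_0, h74_1⟩, ⟨h75_0, h75_1⟩, ⟨h76_0, h76_1⟩, ⟨h77_0, h77_1⟩, ⟨h78_0, h78_1⟩, ⟨h79_0, h79_1⟩, ⟨h80_0, h80_1⟩, ⟨h81_0, h81_1⟩, ⟨h82_0, h82_1⟩, ⟨h83_0, h83_1⟩, ⟨h84_0, h84_1⟩, ⟨h85_0, h85_1⟩, ⟨h86_0, h86_1⟩, ⟨h87_0, h87_1⟩, ⟨h88_0, h88_1⟩, ⟨h89_0, h89_1⟩, ⟨h90_0, h90_1⟩, ⟨h91_0, h91_1⟩, ⟨h92_0, h92_1⟩, ⟨h93_0, h93_1⟩, ⟨h94_0, h94_1⟩, ⟨h95_0, h95_1⟩, ⟨h96_0, h96_1⟩, ⟨h97_0, h97_1⟩, ⟨h98_0, h98_1⟩, ⟨h99_0, h99_1⟩, ⟨h100_0, h100_1⟩, ⟨h101_0, h101_1⟩, ⟨h102_0, h102_1⟩, ⟨h103_0, h103_1⟩,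 ⟨h104_0, h104_1⟩, ⟨h105_0, h105_1⟩, ⟨h106_0, h106_1⟩, ⟨h107_0, h107_1⟩, ⟨h108_0, h108_1⟩, ⟨h109_0, h109_1⟩, ⟨h110_0, h110_1⟩, ⟨h111_0, h111_1⟩, ⟨h112_0, h112_1⟩, ⟨h113_0, h113_1⟩, ⟨h114_0, h114_1⟩, ⟨h115_0, h115_1⟩, ⟨h116_0, h116_1⟩, ⟨h117_0, h117_1⟩, ⟨h118_0, h118_1⟩, ⟨h119_0, h119_1⟩, ⟨h120_0, h120_1⟩, ⟨h121_0, h121_1⟩, ⟨h122_0, h122_1⟩, ⟨h123_0, h123_1⟩, ⟨h124_0, h124_1⟩, ⟨h125_0, h125_1⟩, ⟨h126_0, h126_1⟩, ⟨h127_0, h127_1⟩, ⟨h128_0, h128_1⟩, ⟨h129_0, h129_1⟩, ⟨h130_0, h130_1⟩, ⟨h131_0, h131_1⟩, ⟨h132_0, h132_1⟩, ⟨h133_0, h133_1⟩, ⟨h134_0, h134_1⟩, ⟨h135_0, h135_1⟩, ⟨h136_0, h136_1⟩, ⟨h137_0, h137_1⟩, ⟨h138_0, h138_1⟩, ⟨h139_0, h139_1⟩, ⟨h140_0, h140_1⟩, ⟨h141_0, h141_1⟩, ⟨h142_0, h142_1⟩, ⟨h143_0, h143_1⟩, ⟨h144_0, h144_1⟩, ⟨h145_0, h145_1⟩, ⟨h146_0, h146_1⟩, ⟨h147_0, h147_1⟩, ⟨h148_0, h148_1⟩, ⟨h149_0, h149_1⟩,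 ⟨h150_0, h150_1⟩, ⟨h151_0, h151_1⟩, ⟨h152_0, h152_1⟩, ⟨h153_0, h153_1⟩, ⟨h154_0, h154_1⟩, ⟨h155_0, h155_1⟩, ⟨h156_0, h156_1⟩, ⟨h157_0, h157_1⟩, ⟨h158_0, h158_1⟩, ⟨h159_0, h159_1⟩, ⟨h160_0, h160_1⟩, ⟨h161_0, h161_1⟩, ⟨h162_0, h162_1⟩, ⟨h163_0, h163_1⟩, ⟨h164_0, h164_1⟩, ⟨h165_0, h165_1⟩, ⟨h166_0, h166_1⟩, ⟨h167_0, h167_1⟩, by simp⟩

end Cfsg.Agent.Lib.Helper89.L27Pres
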