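import Mathlib
import Cfsg.Agent.Lib.Helper89.L27Pres
import Cfsg.Agent.Lib.Helper5.Order60

/-!
# The group `⟨x, y | x², y³, (xy)⁷, (xyxyy)⁴⟩` has at most 168 elements, and any two simple groups of
order 168 generated by such pairs are isomorphic.
-/

set_option autoImplicit false

namespace Cfsg.Agent.Lib.Helper89.L27

open Cfsg.Agent.Lib.Helper89.L27Pres

section
variable {G : Type*} [Group G]

theorem all_mem_table (X Y : G) (h1 : X ^ 2 = 1) (h2 : Y ^ 3 = 1) (h3 : (X * Y) ^ 7 = 1)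
    (h4 : (X * Y * X * Y * Y) ^ 4 = 1) (htop : Subgroup.closure {X, Y} = ⊤) (g : G) :
    ∃ e ∈ tbl, g = ev X Y e.1 := by
  have e1 : ∀ t : G, X * (X * t) = t := by
    intro t
    calc _ = X ^ 2 * t := by simp only [pow_succ, pow_zero, one_mul, mul_assoc]
      _ = t := by rw [h1, one_mul]
  have e2 : ∀ t : G, Y * (Y * (Y * t)) = t := by
    intro t
    calc _ = Y ^ 3 * t := by simp only [pow_succ, pow_zero, one_mul, mul_assoc]
      _ = t := by rw [h2, one_mul]
  have e3 : ∀ t : G, X * (Y * (X * (Y * (X * (Y * (X * (Y * (X * (Y * (X * (Y * (X * (Y * t))))))))))))) = t := by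
    intro t
    calc _ = (X * Y) ^ 7 * t := by simp only [pow_succ, pow_zero, one_mul, mul_assoc]
      _ = t := by rw [h3, one_mul]
  have e4 : ∀ t : G, X * (Y * (X * (Y * (Y * (X * (Y * (X * (Y * (Y * (X * (Y * (X * (Y * (Y * (X * (Y * (X * (Y * (Y * t))))))))))))))))))) = t := by
    intro t
    calc _ = (X * Y * X * Y * Y) ^ 4 * t := by simp only [pow_succ, pow_zero, one_mul, mul_assoc]
      _ = t := by rw [h4, one_mul]
  have hstep := tbl_step X Y e1 e2 e3 e4
  let S : Set G := {g | ∃ e ∈ tbl, g = ev X Y e.1}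
  have hX : ∀ s ∈ S, X * s ∈ S := by
    rintro _ ⟨e, he, rfl⟩
    obtain ⟨e', he', h'⟩ := (tbl_closed e he).1
    exact ⟨e', he', by rw [(hstep e he).1, h']⟩
  have hY : ∀ s ∈ S, Y * s ∈ S := by
    rintro _ ⟨e, he, rfl⟩
    obtain ⟨e', he', h'⟩ := (tbl_closed e he).2
    exact ⟨e', he', by rw [(hstep e he).2, h']⟩
  have hXinv : X⁻¹ = X := by
    apply inv_eq_of_mul_eq_one_right
    have := e1 1
    rwa [mul_one] at this
  have hYinv : Y⁻¹ = Y * Y := by
    apply inv_eq_of_mul_eq_one_right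
    have := e2 1
    rwa [mul_one] at this
  let H : Subgroup G :=
    { carrier := {p | (∀ s ∈ S, p * s ∈ S) ∧ (∀ s ∈ S, p⁻¹ * s ∈ S)}
      mul_mem' := by
        rintro p q ⟨hp1, hp2⟩ ⟨hq1, hq2⟩
        refine ⟨fun s hs => ?_, fun s hs => ?_⟩
        · rw [mul_assoc]; exact hp1 _ (hq1 s hs)
        · rw [mul_inv_rev, mul_assoc]; exact hq2 _ (hp2 s hs)
      one_mem' := by
        refine ⟨fun s hs => ?_, fun s hs => ?_⟩
        · rwa [one_mul]
        · rwa [inv_one, one_mul]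
      inv_mem' := by
        rintro p ⟨hp1, hp2⟩
        refine ⟨hp2, ?_⟩
        rwa [inv_inv] }
  have hXH : X ∈ H := by
    refine ⟨hX, fun s hs => ?_⟩
    rw [hXinv]
    exact hX s hs
  have hYH : Y ∈ H := by
    refine ⟨hY, fun s hs => ?_⟩
    rw [hYinv, mul_assoc]
    exact hY _ (hY s hs)
  have hle : Subgroup.closure {X, Y} ≤ H := by
    rw [Subgroup.closure_le]
    rintro z (rfl | rfl)
    · exact hXH
    · exact hYH
  have hg : g ∈ H := hle (by rw [htop]; trivial)
  have h1S : (1 : G) ∈ S := ⟨([], [0], [1]), by decide, rfl⟩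
  have := hg.1 1 h1S
  rwa [mul_one] at this

theorem card_le (X Y : G) (h1 : X ^ 2 = 1) (h2 : Y ^ 3 = 1) (h3 : (X * Y) ^ 7 = 1)
    (h4 : (X * Y * X * Y * Y) ^ 4 = 1) (htop : Subgroup.closure {X, Y} = ⊤) :
    Finite G ∧ Nat.card G ≤ 168 := by
  classical
  let f : Fin tbl.length → G := fun i => ev X Y (tbl.get i).1
  have hf : Function.Surjective f := by
    intro g
    obtain ⟨e, he, rfl⟩ := all_mem_table X Y h1 h2 h3 h4 htop g
    obtain ⟨i, hi⟩ := List.get_of_mem he
    exact ⟨i, by show ev X Y (tbl.get i).1 = _; rw [hi]⟩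
  have hfin : Finite G := Finite.of_surjective f hf
  refine ⟨hfin, ?_⟩
  have := Nat.card_le_card_of_surjective f hf
  rwa [Nat.card_fin, tbl_length] at this

end

/-- the relators -/
abbrev rels : Set (FreeGroup (Fin 2)) :=
  {FreeGroup.of (0 : Fin 2) ^ 2, FreeGroup.of (1 : Fin 2) ^ 3,
    (FreeGroup.of (0 : Fin 2) * FreeGroup.of 1) ^ 7,
    (FreeGroup.of (0 : Fin 2) * FreeGroup.of 1 * FreeGroup.of 0 * FreeGroup.of 1 * FreeGroup.of 1) ^ 4}

/-- the first generator of the presented group -/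
def X : PresentedGroup rels := PresentedGroup.of 0

/-- the second generator of the presented group -/
def Y : PresentedGroup rels := PresentedGroup.of 1

theorem pres_card_le : Finite (PresentedGroup rels) ∧ Nat.card (PresentedGroup rels) ≤ 168 := by
  apply card_le X Y
  · have h := PresentedGroup.one_of_mem (rels := rels) (x := FreeGroup.of 0 ^ 2) (by simp)
    rw [map_pow] at h
    exact h
  · have h := PresentedGroup.one_of_mem (rels := rels) (x := FreeGroup.of 1 ^ 3) (by simp)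
    rw [map_pow] at h
    exact h
  · have h := PresentedGroup.one_of_mem (rels := rels) (x := (FreeGroup.of 0 * FreeGroup.of 1) ^ 7) (by simp)
    rw [map_pow, map_mul] at h
    exact h
  · have h := PresentedGroup.one_of_mem (rels := rels)
      (x := (FreeGroup.of 0 * FreeGroup.of 1 * FreeGroup.of 0 * FreeGroup.of 1 * FreeGroup.of 1) ^ 4) (by simp)
    rw [map_pow, map_mul, map_mul, map_mul, map_mul] at h
    exact h
  · have h := PresentedGroup.closure_range_of rels
    have hr : Set.range (PresentedGroup.of : Fin 2 → PresentedGroup rels) = {X, Y} := by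
      ext z
      constructor
      · rintro ⟨i, rfl⟩
        fin_cases i
        · left; rfl
        · right; rfl
      · rintro (rfl | rfl)
        · exact ⟨0, rfl⟩
        · exact ⟨1, rfl⟩
    rw [hr] at h
    exact h

theorem rels_hold {G : Type*} [Group G] (x y : G) (h1 : x ^ 2 = 1) (h2 : y ^ 3 = 1)
    (h3 : (x * y) ^ 7 = 1) (h4 : (x * y * x * y * y) ^ 4 = 1) :
    ∀ r ∈ rels, FreeGroup.lift ![x, y] r = 1 := by
  intro r hr
  rcases hr with rfl | rfl | rfl | rfl
  · simpa using h1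
  · simpa using h2
  · simpa using h3
  · simpa using h4

/-- A simple group of order 168 generated... by a `(2,3,7;4)` pair is a quotient, hence an image, of the
presented group; the map is bijective. -/
theorem presHom_bijective {G : Type*} [Group G] [Finite G] [IsSimpleGroup G] (hc : Nat.card G = 168)
    (x y : G) (h1 : x ^ 2 = 1) (h2 : y ^ 3 = 1) (h3 : (x * y) ^ 7 = 1)
    (h4 : (x * y * x * y * y) ^ 4 = 1) (hx : x ≠ 1) (hy : y ≠ 1) (hxy : x * y ≠ 1) :
    Function.Bijective (PresentedGroup.toGroup (rels_hold x y h1 h2 h3 h4)) := by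
  set φ := PresentedGroup.toGroup (rels_hold x y h1 h2 h3 h4) with hφ
  have hφX : φ X = x := PresentedGroup.toGroup.of (rels_hold x y h1 h2 h3 h4) (x := 0)
  have hφY : φ Y = y := PresentedGroup.toGroup.of (rels_hold x y h1 h2 h3 h4) (x := 1)
  have hxR : x ∈ φ.range := ⟨X, hφX⟩
  have hyR : y ∈ φ.range := ⟨Y, hφY⟩
  have hxyR : x * y ∈ φ.range := φ.range.mul_mem hxR hyR
  have : Fact (Nat.Prime 2) := ⟨Nat.prime_two⟩
  have : Fact (Nat.Prime 3) := ⟨Nat.prime_three⟩
  have : Fact (Nat.Prime 7) := ⟨by norm_num⟩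
  have ho2 : orderOf x = 2 := orderOf_eq_prime h1 hx
  have ho3 : orderOf y = 3 := orderOf_eq_prime h2 hy
  have ho7 : orderOf (x * y) = 7 := orderOf_eq_prime h3 hxy
  have d2 : 2 ∣ Nat.card φ.range := by
    have := Subgroup.orderOf_dvd_natCard φ.range hxR
    rwa [ho2] at this
  have d3 : 3 ∣ Nat.card φ.range := by
    have := Subgroup.orderOf_dvd_natCard φ.range hyR
    rwa [ho3] at this
  have d7 : 7 ∣ Nat.card φ.range := by
    have := Subgroup.orderOf_dvd_natCard φ.range hxyR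
    rwa [ho7] at this
  have hsurj : Function.Surjective φ := by
    rw [← MonoidHom.range_eq_top]
    by_contra hne
    have hdvd := Cfsg.Agent.Lib.Helper5.card_dvd_factorial_index φ.range hne
    have hmul := Subgroup.card_mul_index φ.range
    rw [hc] at hmul hdvd
    have h42 : 42 ∣ Nat.card φ.range := by omega
    obtain ⟨k, hk⟩ := h42
    rw [hk] at hmul
    have hk4 : k * φ.range.index = 4 := by nlinarith
    have hidx : φ.range.index ∣ 4 := ⟨k, by rw [← hk4]; ring⟩
    have hle : φ.range.index ≤ 4 := Nat.le_of_dvd (by norm_num) hidx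
    have hfac : φ.range.index.factorial ∣ Nat.factorial 4 := Nat.factorial_dvd_factorial hle
    have : 168 ∣ Nat.factorial 4 := hdvd.trans hfac
    norm_num [Nat.factorial] at this
  obtain ⟨hfin, hle⟩ := pres_card_le
  exact hsurj.bijective_of_nat_card_le (by rw [hc]; exact hle)

theorem mulEquiv_of_gens {G₁ G₂ : Type*} [Group G₁] [Group G₂] [Finite G₁] [Finite G₂]
    [IsSimpleGroup G₁] [IsSimpleGroup G₂] (hc₁ : Nat.card G₁ = 168) (hc₂ : Nat.card G₂ = 168)
    (x₁ y₁ : G₁) (h1 : x₁ ^ 2 = 1) (h2 : y₁ ^ 3 = 1) (h3 : (x₁ * y₁) ^ 7 = 1)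
    (h4 : (x₁ * y₁ * x₁ * y₁ * y₁) ^ 4 = 1) (hx : x₁ ≠ 1) (hy : y₁ ≠ 1) (hxy : x₁ * y₁ ≠ 1)
    (x₂ y₂ : G₂) (k1 : x₂ ^ 2 = 1) (k2 : y₂ ^ 3 = 1) (k3 : (x₂ * y₂) ^ 7 = 1)
    (k4 : (x₂ * y₂ * x₂ * y₂ * y₂) ^ 4 = 1) (kx : x₂ ≠ 1) (ky : y₂ ≠ 1) (kxy : x₂ * y₂ ≠ 1) :
    Nonempty (G₁ ≃* G₂) :=
  ⟨(MulEquiv.ofBijective _ (presHom_bijective hc₁ x₁ y₁ h1 h2 h3 h4 hx hy hxy)).symm.trans
    (MulEquiv.ofBijective _ (presHom_bijective hc₂ x₂ y₂ k1 k2 k3 k4 kx ky kxy))⟩

end Cfsg.Agent.Lib.Helper89.L27
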