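import Mathlib
import Cfsg.Agent.S0243
import Cfsg.Agent.Lib.Helper89.L27
import Cfsg.Agent.Lib.Helper89.PSL2Sub

/-!
# `PSL₂(7)` is the group `⟨x, y | x², y³, (xy)⁷, (xyxyy)⁴⟩`

`pres_equiv_psl27`: for every field `K` with 7 elements the presented group `L27.rels` is
isomorphic to `PSL₂(K)`; `exists_subgroup_equiv_psl27`: a group containing a nontrivial `(2,3,7;4)` pair
contains a copy of `PSL₂(K)`.
-/

set_option autoImplicit false
set_option linter.unusedVariables false
set_option linter.unusedTactic false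
set_option linter.unreachableTactic false
set_option linter.unnecessarySeqFocus false

namespace Cfsg.Agent.Lib.Helper89.L27PSL

open Cfsg.Agent.Lib.Helper89

section seven
variable {F : Type*} [Field F]

theorem sl2_pow_four_of_trace_sq_two (A : Matrix.SpecialLinearGroup (Fin 2) F) (t : F)
    (ht : t * t = 2) (h : (A : Matrix (Fin 2) (Fin 2) F).trace = t) : A ^ 4 = -1 := by
  obtain ⟨a, b, c, d, hA, hdet⟩ := sl2_entries A
  rw [sl2_trace A a b c d hA] at h
  apply Subtype.ext
  simp only [Matrix.SpecialLinearGroup.coe_mul, Matrix.SpecialLinearGroup.coe_neg,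
    Matrix.SpecialLinearGroup.coe_one, hA, pow_succ, pow_zero, one_mul]
  rw [Matrix.one_fin_two, Matrix.mul_fin_two, Matrix.mul_fin_two, Matrix.mul_fin_two]
  ext i j
  fin_cases i <;> fin_cases j <;> simp <;> grind

/-- the element of order 2 -/
def x7 : Matrix.SpecialLinearGroup (Fin 2) F :=
  ⟨!![0, -1; 1, 0], by rw [Matrix.det_fin_two_of]; ring⟩

/-- the element of order 3 -/
def y7 : Matrix.SpecialLinearGroup (Fin 2) F :=
  ⟨!![0, -1; 1, 1], by rw [Matrix.det_fin_two_of]; ring⟩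

theorem x7_val : (x7 : Matrix.SpecialLinearGroup (Fin 2) F).1 = !![0, -1; 1, 0] := rfl

theorem y7_val : (y7 : Matrix.SpecialLinearGroup (Fin 2) F).1 = !![0, -1; 1, 1] := rfl

theorem xy7_val : ((x7 * y7 : Matrix.SpecialLinearGroup (Fin 2) F)).1 = !![-1, -1; 0, -1] := by
  rw [Matrix.SpecialLinearGroup.coe_mul]
  show (x7 : Matrix.SpecialLinearGroup (Fin 2) F).1 * (y7 : Matrix.SpecialLinearGroup (Fin 2) F).1 = _
  rw [x7_val, y7_val, Matrix.mul_fin_two]
  ext i j
  fin_cases i <;> fin_cases j <;> simp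

theorem xy7_pow (h7 : (7 : F) = 0) : (x7 * y7 : Matrix.SpecialLinearGroup (Fin 2) F) ^ 7 = -1 := by
  apply Subtype.ext
  rw [Matrix.SpecialLinearGroup.coe_pow]
  show ((x7 * y7 : Matrix.SpecialLinearGroup (Fin 2) F)).1 ^ 7 = _
  rw [xy7_val]
  simp only [Matrix.SpecialLinearGroup.coe_neg, Matrix.SpecialLinearGroup.coe_one, pow_succ, pow_zero,
    one_mul]
  rw [Matrix.one_fin_two]
  simp only [Matrix.mul_fin_two]
  ext i j
  fin_cases i <;> fin_cases j <;> simp <;> grind

theorem w7_trace : (((x7 * y7 * x7 * y7 * y7 : Matrix.SpecialLinearGroup (Fin 2) F)).1).trace = 3 := by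
  simp only [Matrix.SpecialLinearGroup.coe_mul]
  show ((x7 : Matrix.SpecialLinearGroup (Fin 2) F).1 * (y7 : Matrix.SpecialLinearGroup (Fin 2) F).1 *
    (x7 : Matrix.SpecialLinearGroup (Fin 2) F).1 * (y7 : Matrix.SpecialLinearGroup (Fin 2) F).1 *
    (y7 : Matrix.SpecialLinearGroup (Fin 2) F).1).trace = 3
  rw [x7_val, y7_val]
  simp only [Matrix.mul_fin_two, Matrix.trace_fin_two_of]
  ring

end seven

/-- The presented group `⟨x, y | x², y³, (xy)⁷, (xyxyy)⁴⟩` is `PSL₂(7)`. -/
theorem pres_equiv_psl27 {F : Type*} [Field F] [Fintype F] (hF : Fintype.card F = 7) :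
    Nonempty (PresentedGroup L27.rels ≃* Matrix.ProjectiveSpecialLinearGroup (Fin 2) F) := by
  classical
  have h7 : (7 : F) = 0 := by
    have := Nat.cast_card_eq_zero F
    rw [hF] at this
    exact_mod_cast this
  have hs1 : IsSimpleGroup (Matrix.ProjectiveSpecialLinearGroup (Fin 2) F) :=
    Matrix.ProjectiveSpecialLinearGroup.rank_two_simple (by
      rw [Nat.card_eq_fintype_card, hF]; norm_num)
  have hc1 : Nat.card (Matrix.ProjectiveSpecialLinearGroup (Fin 2) F) = 168 := by
    have hcard := Cfsg.Agent.S0243.result hF 2 le_rfl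
    rw [Fin.prod_univ_two] at hcard
    norm_num at hcard
    rw [Nat.card_eq_fintype_card]
    omega
  have hf1 : Finite (Matrix.ProjectiveSpecialLinearGroup (Fin 2) F) := inferInstance
  have hone2 : ∀ A : Matrix.SpecialLinearGroup (Fin 2) F,
      A ∈ Subgroup.center (Matrix.SpecialLinearGroup (Fin 2) F) →
      (QuotientGroup.mk A : Matrix.ProjectiveSpecialLinearGroup (Fin 2) F) = 1 :=
    fun A hA => (QuotientGroup.eq_one_iff A).mpr hA
  have hne2 : ∀ A : Matrix.SpecialLinearGroup (Fin 2) F,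
      A ∉ Subgroup.center (Matrix.SpecialLinearGroup (Fin 2) F) →
      (QuotientGroup.mk A : Matrix.ProjectiveSpecialLinearGroup (Fin 2) F) ≠ 1 :=
    fun A hA h => hA ((QuotientGroup.eq_one_iff A).mp h)
  refine ⟨MulEquiv.ofBijective _ (L27.presHom_bijective hc1
    (QuotientGroup.mk x7 : Matrix.ProjectiveSpecialLinearGroup (Fin 2) F) (QuotientGroup.mk y7)
    ?_ ?_ ?_ ?_ ?_ ?_ ?_)⟩
  · rw [← QuotientGroup.mk_pow]
    apply hone2
    rw [sl2_sq_of_trace_zero]
    · exact sl2_neg_one_mem_center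
    · show Matrix.trace (x7 : Matrix.SpecialLinearGroup (Fin 2) F).1 = 0
      rw [x7_val, Matrix.trace_fin_two_of]; ring
  · rw [← QuotientGroup.mk_pow]
    apply hone2
    rw [sl2_cube_of_trace_one]
    · exact sl2_neg_one_mem_center
    · show Matrix.trace (y7 : Matrix.SpecialLinearGroup (Fin 2) F).1 = 1
      rw [y7_val, Matrix.trace_fin_two_of]; ring
  · rw [← QuotientGroup.mk_mul, ← QuotientGroup.mk_pow]
    apply hone2
    rw [xy7_pow h7]
    exact sl2_neg_one_mem_center
  · rw [← QuotientGroup.mk_mul, ← QuotientGroup.mk_mul, ← QuotientGroup.mk_mul, ← QuotientGroup.mk_mul,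
      ← QuotientGroup.mk_pow]
    apply hone2
    rw [sl2_pow_four_of_trace_sq_two _ 3 (by linear_combination h7) w7_trace]
    exact sl2_neg_one_mem_center
  · apply hne2
    apply sl2_not_mem_center_of_ne_zero
    show (x7 : Matrix.SpecialLinearGroup (Fin 2) F).1 1 0 ≠ 0
    rw [x7_val]
    simp
  · apply hne2
    apply sl2_not_mem_center_of_ne_zero
    show (y7 : Matrix.SpecialLinearGroup (Fin 2) F).1 1 0 ≠ 0
    rw [y7_val]
    simp
  · rw [← QuotientGroup.mk_mul]
    apply hne2
    apply sl2_not_mem_center_of_ne_zero'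
    show ((x7 * y7 : Matrix.SpecialLinearGroup (Fin 2) F)).1 0 1 ≠ 0
    rw [xy7_val]
    simp

/-- A group containing elements `x ≠ 1`, `y` with `x² = y³ = (xy)⁷ = (xyxyy)⁴ = 1` contains a copy of
`PSL₂(7)`. -/
theorem exists_subgroup_equiv_psl27 {G : Type*} [Group G] {F : Type*} [Field F] [Fintype F]
    (hF : Fintype.card F = 7) (x y : G) (h1 : x ^ 2 = 1) (h2 : y ^ 3 = 1) (h3 : (x * y) ^ 7 = 1)
    (h4 : (x * y * x * y * y) ^ 4 = 1) (hx : x ≠ 1) :
    ∃ H : Subgroup G, Nonempty (H ≃* Matrix.ProjectiveSpecialLinearGroup (Fin 2) F) := by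
  classical
  obtain ⟨e⟩ := pres_equiv_psl27 hF
  have hs1 : IsSimpleGroup (Matrix.ProjectiveSpecialLinearGroup (Fin 2) F) :=
    Matrix.ProjectiveSpecialLinearGroup.rank_two_simple (by
      rw [Nat.card_eq_fintype_card, hF]; norm_num)
  let ψ : PresentedGroup L27.rels →* G := PresentedGroup.toGroup (L27.rels_hold x y h1 h2 h3 h4)
  have hψX : ψ L27.X = x := PresentedGroup.toGroup.of (L27.rels_hold x y h1 h2 h3 h4) (x := 0)
  let ψ' : Matrix.ProjectiveSpecialLinearGroup (Fin 2) F →* G := ψ.comp e.symm.toMonoidHom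
  have hinj : Function.Injective ψ' := by
    rw [← MonoidHom.ker_eq_bot_iff]
    rcases (MonoidHom.normal_ker ψ').eq_bot_or_eq_top with h | h
    · exact h
    · exfalso
      apply hx
      have : e L27.X ∈ MonoidHom.ker ψ' := by rw [h]; trivial
      rw [MonoidHom.mem_ker] at this
      rw [← hψX, ← this]
      show ψ L27.X = ψ (e.symm (e L27.X))
      rw [MulEquiv.symm_apply_apply]
  exact ⟨ψ'.range, ⟨(MonoidHom.ofInjective hinj).symm⟩⟩

end Cfsg.Agent.Lib.Helper89.L27PSL
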