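import Mathlib
import Cfsg.Agent.Lib.Helper89.Chain

/-!
# A verified stabilizer chain for the Mathieu group `M₁₂` on `Fin 12`

Generated by `tools/helper89/m12gen.py`.  Generators (in this order):
`u, v, w, s, t, x₁, x₂, x₃`; base `2, 1, 0, 3, 4`; `H k` is generated by the first `k` generators.
-/

set_option autoImplicit false

namespace Cfsg.Agent.Lib.Helper89.M12

open Equiv

abbrev P := Equiv.Perm (Fin 12)

def gs : P := swap (3 : Fin 12) 5 * swap (3 : Fin 12) 4 * swap (6 : Fin 12) 8 * swap (6 : Fin 12) 7 * swap (9 : Fin 12) 11 * swap (9 : Fin 12) 10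
def gt : P := swap (3 : Fin 12) 9 * swap (3 : Fin 12) 6 * swap (4 : Fin 12) 10 * swap (4 : Fin 12) 7 * swap (5 : Fin 12) 11 * swap (5 : Fin 12) 8
def gu : P := swap (4 : Fin 12) 9 * swap (4 : Fin 12) 5 * swap (4 : Fin 12) 6 * swap (7 : Fin 12) 10 * swap (7 : Fin 12) 11 * swap (7 : Fin 12) 8
def gv : P := swap (4 : Fin 12) 11 * swap (4 : Fin 12) 5 * swap (4 : Fin 12) 7 * swap (6 : Fin 12) 8 * swap (6 : Fin 12) 9 * swap (6 : Fin 12) 10
def gw : P := swap (4 : Fin 12) 8 * swap (4 : Fin 12) 5 * swap (4 : Fin 12) 10 * swap (6 : Fin 12) 7 * swap (6 : Fin 12) 9 * swap (6 : Fin 12) 11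
def gx1 : P := swap (0 : Fin 12) 3 * swap (6 : Fin 12) 7 * swap (8 : Fin 12) 10 * swap (9 : Fin 12) 11
def gx2 : P := swap (0 : Fin 12) 1 * swap (6 : Fin 12) 9 * swap (7 : Fin 12) 10 * swap (8 : Fin 12) 11
def gx3 : P := swap (1 : Fin 12) 2 * swap (6 : Fin 12) 11 * swap (7 : Fin 12) 9 * swap (8 : Fin 12) 10

def gen : Fin 8 → P := ![gu, gv, gw, gs, gt, gx1, gx2, gx3]

def tabL : List (List (Fin 12)) := [
  [0, 1, 2, 3, 6, 9, 5, 8, 11, 4, 7, 10],
  [0, 1, 2, 3, 7, 11, 10, 5, 6, 8, 9, 4],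
  [0, 1, 2, 3, 10, 8, 11, 6, 4, 7, 5, 9],
  [0, 1, 2, 4, 5, 3, 7, 8, 6, 10, 11, 9],
  [0, 1, 2, 6, 7, 8, 9, 10, 11, 3, 4, 5],
  [3, 1, 2, 0, 4, 5, 7, 6, 10, 11, 8, 9],
  [1, 0, 2, 3, 4, 5, 9, 10, 11, 6, 7, 8],
  [0, 2, 1, 3, 4, 5, 11, 9, 10, 7, 8, 6]
]

def tab (j : Fin 8) (x : Fin 12) : Fin 12 := (tabL.getD j.val []).getD x.val 0

set_option maxRecDepth 100000 in
theorem gen_apply : ∀ j : Fin 8, ∀ x : Fin 12, gen j x = tab j x := by decide

def ev (l : List (Fin 8)) : P := (l.map gen).prod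

def act (l : List (Fin 8)) (x : Fin 12) : Fin 12 := l.foldr tab x

theorem ev_nil : ev [] = 1 := rfl

theorem ev_cons (j : Fin 8) (l : List (Fin 8)) : ev (j :: l) = gen j * ev l := by
  simp [ev]

theorem ev_append (l l' : List (Fin 8)) : ev (l ++ l') = ev l * ev l' := by
  simp [ev]

theorem ev_apply (l : List (Fin 8)) (x : Fin 12) : ev l x = act l x := by
  induction l with
  | nil => simp [ev, act]
  | cons j l ih =>
    rw [ev_cons, Equiv.Perm.mul_apply, ih, gen_apply]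
    rfl

theorem ev_eq_of_act {l l' : List (Fin 8)} (h : ∀ x ∈ List.finRange 12, act l x = act l' x) :
    ev l = ev l' := by
  ext x
  rw [ev_apply, ev_apply, h x (List.mem_finRange x)]

/-- The first `k` generators. -/
def S (k : ℕ) : Set P := {g | ∃ j : Fin 8, j.val < k ∧ gen j = g}

/-- The group generated by the first `k` generators. -/
def H (k : ℕ) : Subgroup P := Subgroup.closure (S k)

theorem gen_mem {k : ℕ} (j : Fin 8) (h : j.val < k) : gen j ∈ H k :=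
  Subgroup.subset_closure ⟨j, h, rfl⟩

theorem ev_mem (k : ℕ) (l : List (Fin 8)) (h : ∀ c ∈ l, c.val < k) : ev l ∈ H k := by
  induction l with
  | nil => exact (H k).one_mem
  | cons j l ih =>
    rw [ev_cons]
    exact (H k).mul_mem (gen_mem j (h j (by simp))) (ih fun c hc => h c (by simp [hc]))

theorem H_mono {k k' : ℕ} (h : k ≤ k') : H k ≤ H k' :=
  Subgroup.closure_mono fun _ ⟨j, hj, hg⟩ => ⟨j, lt_of_lt_of_le hj h, hg⟩

theorem H_zero : H 0 = ⊥ := by
  rw [H, Subgroup.closure_eq_bot_iff]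
  rintro g ⟨j, hj, -⟩
  exact absurd hj (Nat.not_lt_zero _)

theorem H_le_stabilizer (k : ℕ) (b : Fin 12) (h : ∀ j ∈ List.finRange 8, j.val < k → tab j b = b) :
    H k ≤ MulAction.stabilizer P b := by
  rw [H, Subgroup.closure_le]
  rintro g ⟨j, hj, rfl⟩
  show gen j b = b
  rw [gen_apply]
  exact h j (List.mem_finRange j) hj

/-- The decidable certificate of one level of the chain. -/
structure LevelOK (k k' : ℕ) (b : Fin 12) (T : List (List (Fin 8)))
    (E : List (List (ℕ × List (Fin 8)))) : Prop where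
  le : k' ≤ k
  fix : ∀ j ∈ List.finRange 8, j.val < k' → tab j b = b
  head : T.getD 0 [0] = []
  pos : 0 < T.length
  words : ∀ l ∈ T, ∀ c ∈ l, c.val < k
  inj : ∀ a ∈ List.range T.length, ∀ a' ∈ List.range T.length,
    act (T.getD a []) b = act (T.getD a' []) b → a = a'
  step : ∀ j ∈ List.finRange 8, j.val < k → ∀ a ∈ List.range T.length,
    ((E.getD j.val []).getD a (0, [])).1 < T.length ∧
    (∀ c ∈ ((E.getD j.val []).getD a (0, [])).2, c.val < k') ∧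
    ∀ x ∈ List.finRange 12, act (j :: T.getD a []) x =
      act (T.getD ((E.getD j.val []).getD a (0, [])).1 [] ++ ((E.getD j.val []).getD a (0, [])).2) x

section level

variable {k k' : ℕ} {b : Fin 12} {T : List (List (Fin 8))} {E : List (List (ℕ × List (Fin 8)))}

theorem LevelOK.head' (h : LevelOK k k' b T E) : T.getD 0 [] = [] := by
  have := h.head
  cases T with
  | nil => simp at this
  | cons l T => simpa using this

theorem LevelOK.hUS (h : LevelOK k k' b T E) (a : Fin T.length) : ev (T.getD a.val []) ∈ H k := by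
  apply ev_mem
  have : T.getD a.val [] ∈ T := by
    rw [List.getD_eq_getElem _ _ a.isLt]
    exact List.getElem_mem _
  exact h.words _ this

theorem LevelOK.hstep (h : LevelOK k k' b T E) :
    ∀ s ∈ S k, ∀ a : Fin T.length, ∃ a' : Fin T.length,
      (ev (T.getD a'.val []))⁻¹ * (s * ev (T.getD a.val [])) ∈ H k' := by
  rintro s ⟨j, hj, rfl⟩ a
  obtain ⟨h1, h2, h3⟩ := h.step j (List.mem_finRange j) hj a.val (List.mem_range.2 a.isLt)
  refine ⟨⟨_, h1⟩, ?_⟩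
  have := ev_eq_of_act h3
  rw [ev_cons, ev_append] at this
  rw [this]
  simpa using ev_mem k' _ h2

theorem LevelOK.hinj (h : LevelOK k k' b T E) (a a' : Fin T.length)
    (he : ev (T.getD a.val []) • b = ev (T.getD a'.val []) • b) : a = a' := by
  apply Fin.ext
  apply h.inj a.val (List.mem_range.2 a.isLt) a'.val (List.mem_range.2 a'.isLt)
  rw [← ev_apply, ← ev_apply]
  exact he

theorem LevelOK.inf_stabilizer (h : LevelOK k k' b T E) :
    H k ⊓ MulAction.stabilizer P b = H k' :=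
  Chain.closure_inf_stabilizer (S k) (H k') b (fun a : Fin T.length => ev (T.getD a.val []))
    (H_mono h.le) (H_le_stabilizer k' b h.fix) ⟨⟨0, h.pos⟩, by
      show ev (T.getD 0 []) = 1
      rw [h.head', ev_nil]⟩ h.hUS h.hinj
    h.hstep

theorem LevelOK.card (h : LevelOK k k' b T E) :
    Nat.card (H k) = T.length * Nat.card (H k') := by
  have := Chain.card_closure (S k) (H k') b (fun a : Fin T.length => ev (T.getD a.val []))
    (H_mono h.le) (H_le_stabilizer k' b h.fix) ⟨⟨0, h.pos⟩, by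
      show ev (T.getD 0 []) = 1
      rw [h.head', ev_nil]⟩ h.hUS h.hinj
    h.hstep
  rw [Nat.card_fin] at this
  exact this

end level

def T0 : List (List (Fin 8)) := [
  [],
  [6, 7],
  [7],
  [5, 6, 7],
  [3, 5, 6, 7],
  [3, 3, 5, 6, 7],
  [4, 5, 6, 7],
  [1, 3, 5, 6, 7],
  [0, 1, 3, 5, 6, 7],
  [4, 4, 5, 6, 7],
  [2, 3, 5, 6, 7],
  [2, 4, 5, 6, 7]
]

def E0 : List (List (ℕ × List (Fin 8))) := [
  [(0, [0]), (1, [1]), (2, [2, 0]), (3, [0, 1]), (6, [0, 1]), (9, [0, 1]), (5, [0, 1]), (8, []), (11, [0, 1]), (4, [0, 1]), (7, []), (10, [2])],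
  [(0, [1]), (1, [0, 1]), (2, [1, 2]), (3, [1]), (7, []), (11, [2]), (10, [2]), (5, [0, 0]), (6, [0, 1]), (8, [0, 1]), (9, [2]), (4, [2])],
  [(0, [2]), (1, [1, 2]), (2, [0, 1]), (3, [0]), (10, []), (8, [0, 0]), (11, []), (6, [0, 1]), (4, []), (7, [0, 1]), (5, [0, 0]), (9, [0, 0])],
  [(0, [3]), (1, [3]), (2, [3]), (4, []), (5, []), (3, []), (7, [2, 0]), (8, [0, 1]), (6, [1, 2]), (10, [1, 2]), (11, []), (9, [0])],
  [(0, [4]), (1, [1, 3, 2, 0]), (2, [2, 4, 0, 1]), (6, []), (7, [2, 0]), (8, [0]), (9, []), (10, [2]), (11, [0, 0]), (3, []), (4, [0]), (5, [0])],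
  [(0, [5]), (3, []), (2, [5]), (1, []), (4, [3, 3, 0, 0]), (5, [3, 0, 0]), (7, [3, 3, 0, 1]), (6, [2, 3]), (10, [3, 3, 0, 0]), (11, [2, 3, 0, 1]), (8, [3, 3, 0, 0]), (9, [0, 1, 3, 2])],
  [(0, [6]), (2, []), (1, []), (3, [5]), (4, [5]), (5, [5]), (9, [5]), (10, [5]), (11, [5, 2]), (6, [5]), (7, [5]), (8, [5, 2])],
  [(2, []), (1, [6]), (0, []), (3, [6]), (4, [6]), (5, [6]), (11, [6, 0]), (9, [6, 1]), (10, [6]), (7, [6, 0, 1]), (8, [6]), (6, [6, 0])]
]

set_option maxRecDepth 100000 in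
theorem level0 : LevelOK 8 7 2 T0 E0 :=
  ⟨by decide, by decide, by decide, by decide, by decide, by decide, by decide⟩

def T1 : List (List (Fin 8)) := [
  [],
  [6],
  [5, 6],
  [3, 5, 6],
  [3, 3, 5, 6],
  [4, 5, 6],
  [1, 3, 5, 6],
  [0, 1, 3, 5, 6],
  [4, 4, 5, 6],
  [2, 3, 5, 6],
  [2, 4, 5, 6]
]

def E1 : List (List (ℕ × List (Fin 8))) := [
  [(0, [0]), (1, [1, 2]), (2, [2]), (5, [2]), (8, [2]), (4, [2]), (7, []), (10, [2]), (3, [2]), (6, []), (9, [0, 1])],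
  [(0, [1]), (1, [2]), (2, [1, 2]), (6, []), (10, [0, 1]), (9, [0, 1]), (4, [0, 0]), (5, [2]), (7, [2]), (8, [0, 1]), (3, [0, 1])],
  [(0, [2]), (1, [1]), (2, [2, 0]), (9, []), (7, [0, 0]), (10, []), (5, [2]), (3, []), (6, [2]), (4, [0, 0]), (8, [0, 0])],
  [(0, [3]), (1, [3]), (3, []), (4, []), (2, []), (6, [0]), (7, [2]), (5, [1]), (9, [1]), (10, []), (8, [2, 0])],
  [(0, [4]), (1, [4, 4]), (5, []), (6, [0]), (7, [2, 0]), (8, []), (9, [0, 1]), (10, [0, 0]), (2, []), (3, [2, 0]), (4, [2, 0])],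
  [(0, [5]), (2, []), (1, []), (3, [3, 3, 0, 0]), (4, [3, 0, 0]), (6, [3, 3, 2]), (5, [0, 1, 3]), (9, [3, 3, 0, 0]), (10, [0, 1, 3, 2]), (7, [3, 3, 0, 0]), (8, [2, 3, 0, 1])],
  [(1, []), (0, []), (2, [5]), (3, [5]), (4, [5]), (8, [5]), (9, [5]), (10, [5, 0, 1]), (5, [5]), (6, [5]), (7, [5, 0, 1])]
]

set_option maxRecDepth 100000 in
theorem level1 : LevelOK 7 6 1 T1 E1 :=
  ⟨by decide, by decide, by decide, by decide, by decide, by decide, by decide⟩

def T2 : List (List (Fin 8)) := [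
  [],
  [5],
  [3, 5],
  [3, 3, 5],
  [4, 5],
  [1, 3, 5],
  [0, 1, 3, 5],
  [4, 4, 5],
  [2, 3, 5],
  [2, 4, 5]
]

def E2 : List (List (ℕ × List (Fin 8))) := [
  [(0, [0]), (1, [1]), (4, [1]), (7, [1]), (3, [1]), (6, []), (9, [1]), (2, [1]), (5, []), (8, [2, 0])],
  [(0, [1]), (1, [0]), (5, []), (9, [2, 0]), (8, [2, 0]), (3, [0, 0]), (4, [1]), (6, [1]), (7, [2, 0]), (2, [2, 0])],
  [(0, [2]), (1, [0, 1]), (8, []), (6, [0, 0]), (9, []), (4, [1]), (2, []), (5, [1]), (3, [0, 0]), (7, [0, 0])],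
  [(0, [3]), (2, []), (3, []), (1, []), (5, [1, 2]), (6, [1]), (4, [2]), (8, [2]), (9, []), (7, [0, 1])],
  [(0, [4]), (4, []), (5, [1, 2]), (6, [0, 1]), (7, []), (8, [2, 0]), (9, [0, 0]), (1, []), (2, [0, 1]), (3, [0, 1])],
  [(1, []), (0, []), (2, [3, 3, 0, 0]), (3, [3, 0, 0]), (5, [3, 3, 1]), (4, [2, 4, 0]), (8, [3, 3, 0, 0]), (9, [2, 4, 0, 1]), (6, [3, 3, 0, 0]), (7, [1, 3, 2, 0])]
]

set_option maxRecDepth 100000 in
theorem level2 : LevelOK 6 5 0 T2 E2 :=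
  ⟨by decide, by decide, by decide, by decide, by decide, by decide, by decide⟩

def T3 : List (List (Fin 8)) := [
  [],
  [3],
  [3, 3],
  [4],
  [1, 3],
  [0, 1, 3],
  [4, 4],
  [2, 3],
  [2, 4]
]

def E3 : List (List (ℕ × List (Fin 8))) := [
  [(0, [0]), (3, [0]), (6, [0]), (2, [0]), (5, []), (8, [0]), (1, [0]), (4, []), (7, [1, 2])],
  [(0, [1]), (4, []), (8, [1, 2]), (7, [1, 2]), (2, [0, 0]), (3, [0]), (5, [0]), (6, [1, 2]), (1, [1, 2])],
  [(0, [2]), (7, []), (5, [0, 0]), (8, []), (3, [0]), (1, []), (4, [0]), (2, [0, 0]), (6, [0, 0])],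
  [(1, []), (2, []), (0, []), (4, [2, 0]), (5, [0]), (3, [0, 1]), (7, [0, 1]), (8, []), (6, [2])],
  [(3, []), (4, [2, 0]), (5, [2]), (6, []), (7, [1, 2]), (8, [0, 0]), (0, []), (1, [2]), (2, [2])]
]

set_option maxRecDepth 100000 in
theorem level3 : LevelOK 5 3 3 T3 E3 :=
  ⟨by decide, by decide, by decide, by decide, by decide, by decide, by decide⟩

def T4 : List (List (Fin 8)) := [
  [],
  [0, 0],
  [0],
  [1],
  [0, 1],
  [1, 2],
  [2],
  [2, 0]
]

def E4 : List (List (ℕ × List (Fin 8))) := [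
  [(2, []), (5, []), (1, []), (4, []), (7, []), (0, []), (3, []), (6, [])],
  [(3, []), (7, []), (6, []), (1, []), (2, []), (4, []), (5, []), (0, [])],
  [(6, []), (4, []), (7, []), (2, []), (0, []), (3, []), (1, []), (5, [])]
]

set_option maxRecDepth 100000 in
theorem level4 : LevelOK 3 0 4 T4 E4 :=
  ⟨by decide, by decide, by decide, by decide, by decide, by decide, by decide⟩

theorem card_H8 : Nat.card (H 8) = 95040 := by
  rw [level0.card, level1.card, level2.card, level3.card, level4.card, H_zero]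
  simp [T0, T1, T2, T3, T4]

theorem card_H7 : Nat.card (H 7) = 7920 := by
  rw [level1.card, level2.card, level3.card, level4.card, H_zero]
  simp [T1, T2, T3, T4]

theorem H8_inf : H 8 ⊓ MulAction.stabilizer P (2 : Fin 12) = H 7 := level0.inf_stabilizer
theorem H7_inf : H 7 ⊓ MulAction.stabilizer P (1 : Fin 12) = H 6 := level1.inf_stabilizer
theorem H6_inf : H 6 ⊓ MulAction.stabilizer P (0 : Fin 12) = H 5 := level2.inf_stabilizer
theorem H5_inf : H 5 ⊓ MulAction.stabilizer P (3 : Fin 12) = H 3 := level3.inf_stabilizer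
theorem H3_inf : H 3 ⊓ MulAction.stabilizer P (4 : Fin 12) = ⊥ := by
  rw [level4.inf_stabilizer, H_zero]

/-- An element of `H 8` fixing the five base points is trivial. -/
theorem eq_one_of_fix {g : P} (hg : g ∈ H 8) (h2 : g 2 = 2) (h1 : g 1 = 1) (h0 : g 0 = 0)
    (h3 : g 3 = 3) (h4 : g 4 = 4) : g = 1 := by
  have m7 : g ∈ H 7 := by rw [← H8_inf]; exact ⟨hg, h2⟩
  have m6 : g ∈ H 6 := by rw [← H7_inf]; exact ⟨m7, h1⟩
  have m5 : g ∈ H 5 := by rw [← H6_inf]; exact ⟨m6, h0⟩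
  have m3 : g ∈ H 3 := by rw [← H5_inf]; exact ⟨m5, h3⟩
  have m0 : g ∈ (⊥ : Subgroup P) := by rw [← H3_inf]; exact ⟨m3, h4⟩
  simpa using m0

end Cfsg.Agent.Lib.Helper89.M12
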