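import Mathlib
import Cfsg.Prelude.Def_KGroupFacts
import Cfsg.Agent.Lib.Helper89.SafePres2

/-!
# Stem extensions with cyclic kernels: explicit covers, comparison with a model, assembly

* `exists_lifts`: canonical lifts of generators of orders prime to `p` in a stem extension whose
  kernel is a `p`-group; they satisfy all conjugation relators.
* `diag_ker`: if the diagonal subgroup of `Γ × M` is not larger than the model `M`, relations of
  the model hold in `Γ` and kernels correspond.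
* `model_stem`: an explicit perfect central extension with a kernel generated by one element.
* `stem_prod`: the fibre product of two stem extensions with kernels of coprime orders.
* `exists_surj_of_local`: from the `2`-local and `3`-local information to the whole kernel.
-/

set_option autoImplicit false

namespace Cfsg.Agent.Lib.Helper89.StemModel

open Cfsg.Agent.Lib.Helper89.CosetCert Cfsg.Agent.Lib.Helper89.StemSafe
open Cfsg.Agent.Lib.Helper89.SafePres Cfsg.Agent.Lib.Helper89.SafePres2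
open scoped commutatorElement

universe u

/-- canonical lifts -/
theorem exists_lifts {G : Type*} {Γ : Type*} [Group G] [Group Γ] (p : ℕ) [hp : Fact p.Prime]
    (g : ℕ → G) (ord : ℕ → ℕ) (hord : ∀ i, g i ^ ord i = 1) (hcop : ∀ i, (ord i).Coprime p)
    (srels : List SRel) (hvalid : ∀ r ∈ srels, ev g r.word = 1)
    (σ : Γ →* G) (hσ : Cfsg.IsStemExtension σ)
    (hpk : ∀ z ∈ σ.ker, ∃ n : ℕ, z ^ (p ^ n) = 1) :
    ∃ t : ℕ → Γ, (∀ i, σ (t i) = g i) ∧ (∀ i, t i ^ ord i = 1) ∧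
      ∀ r ∈ srels, ev t r.word = 1 := by
  obtain ⟨hsurj, hcen, hcomm⟩ := hσ
  have hex : ∀ i, ∃ γ : Γ, σ γ = g i ∧ γ ^ ord i = 1 := fun i =>
    good_exists σ p hsurj hcen hpk (g i) (ord i) (hord i) (hcop i)
  choose t hσt ht using hex
  refine ⟨t, hσt, ht, ?_⟩
  have hfun : (fun i => σ (t i)) = g := funext hσt
  intro r hr
  apply lift_srel σ p hcen hpk t ord ht hcop r
  rw [hfun]
  exact hvalid r hr

/-- the kernel of a stem extension lies in the subgroup generated by lifts of generators -/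
theorem ker_le_closure {G : Type*} {Γ : Type*} [Group G] [Group Γ] (σ : Γ →* G)
    (hσ : Cfsg.IsStemExtension σ) (k : ℕ) (g : ℕ → G) (t : ℕ → Γ) (hσt : ∀ i, σ (t i) = g i)
    (hgen : Subgroup.closure {y | ∃ i < k, y = g i} = ⊤) :
    σ.ker ≤ Subgroup.closure {y | ∃ i < k, y = t i} := by
  obtain ⟨hsurj, hcen, hcomm⟩ := hσ
  refine le_trans hcomm (commutator_le_of_map_eq_top σ hcen _ ?_)
  rw [map_closure_eq σ k t g hσt, hgen]

section Diag

variable {G : Type*} {Γ : Type*} {M : Type*} [Group G] [Group Γ] [Group M] [Finite Γ] [Finite M]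

/-- comparison with a model through the diagonal subgroup -/
theorem diag_ker (σ : Γ →* G) (τ : M →* G) (k : ℕ) (t : ℕ → Γ) (m : ℕ → M)
    (hστ : ∀ i, σ (t i) = τ (m i))
    (hcard : Nat.card (Subgroup.closure {y | ∃ i < k, y = ((t i, m i) : Γ × M)}) ≤
      Nat.card (Subgroup.closure {y | ∃ i < k, y = m i}))
    (wz : Word) (hwz : ∀ l ∈ wz, l < 2 * k) (e : ℕ) (hze : ev m wz ^ e = 1)
    (hMker : ∀ x ∈ Subgroup.closure {y | ∃ i < k, y = m i}, τ x = 1 →
      x ∈ Subgroup.zpowers (ev m wz)) :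
    ev t wz ^ e = 1 ∧ ∀ x ∈ Subgroup.closure {y | ∃ i < k, y = t i}, σ x = 1 →
      x ∈ Subgroup.zpowers (ev t wz) := by
  set tt : ℕ → Γ × M := fun i => (t i, m i) with htt
  set D : Subgroup (Γ × M) := Subgroup.closure {y | ∃ i < k, y = tt i} with hD
  have hinj := inj_on_closure (MonoidHom.snd Γ M) k tt m (fun i => rfl) hcard
  have hagree : ∀ d ∈ D, σ d.1 = τ d.2 := by
    intro d hd
    have hle : D ≤ MonoidHom.eqLocus (σ.comp (MonoidHom.fst Γ M)) (τ.comp (MonoidHom.snd Γ M)) := by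
      rw [hD, Subgroup.closure_le]
      rintro y ⟨i, hi, rfl⟩
      exact hστ i
    exact hle hd
  have hfst : D.map (MonoidHom.fst Γ M) = Subgroup.closure {y | ∃ i < k, y = t i} :=
    map_closure_eq (MonoidHom.fst Γ M) k tt t (fun i => rfl)
  have hsnd : D.map (MonoidHom.snd Γ M) = Subgroup.closure {y | ∃ i < k, y = m i} :=
    map_closure_eq (MonoidHom.snd Γ M) k tt m (fun i => rfl)
  have hev : ev tt wz = (ev t wz, ev m wz) := ev_prod t m wz
  have hevD : ev tt wz ∈ D :=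
    ev_mem_of_letters tt D k (fun i hi => Subgroup.subset_closure ⟨i, hi, rfl⟩) wz hwz
  constructor
  · have h1 : ev tt wz ^ e ∈ D := D.pow_mem hevD e
    have h2 := hinj _ h1 (by
      rw [map_pow]
      show (ev tt wz).2 ^ e = 1
      rw [hev]
      exact hze)
    have h3 := congrArg Prod.fst h2
    rw [Prod.pow_fst, hev] at h3
    exact h3
  · intro x hx hσx
    rw [← hfst] at hx
    obtain ⟨d, hd, hdx⟩ := hx
    have hdx' : d.1 = x := hdx
    have hτd : τ d.2 = 1 := by rw [← hagree d hd, hdx', hσx]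
    have hd2 : d.2 ∈ Subgroup.closure {y | ∃ i < k, y = m i} := by
      rw [← hsnd]
      exact ⟨d, hd, rfl⟩
    obtain ⟨j, hj⟩ := Subgroup.mem_zpowers_iff.1 (hMker d.2 hd2 hτd)
    have h3 : d * (ev tt wz ^ j)⁻¹ ∈ D := D.mul_mem hd (D.inv_mem (D.zpow_mem hevD j))
    have h4 := hinj _ h3 (by
      rw [map_mul, map_inv, map_zpow]
      show d.2 * ((ev tt wz).2 ^ j)⁻¹ = 1
      rw [hev, hj, mul_inv_cancel])
    have h5 : d = ev tt wz ^ j := mul_inv_eq_one.1 h4
    rw [Subgroup.mem_zpowers_iff]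
    refine ⟨j, ?_⟩
    rw [← hdx', h5, hev]
    exact (map_zpow (MonoidHom.fst Γ M) ((ev t wz, ev m wz) : Γ × M) j).symm

end Diag

section Model

variable {G : Type*} {L : Type*} [Group G] [Group L]

/-- the subgroup generated by the first `k` elements of a family -/
def cov (k : ℕ) (m : ℕ → L) : Subgroup L := Subgroup.closure {y | ∃ i < k, y = m i}

/-- the restriction of a homomorphism to `cov k m` -/
def covHom (τ : L →* G) (k : ℕ) (m : ℕ → L) : ↥(cov k m) →* G := τ.comp (cov k m).subtype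

theorem covHom_apply (τ : L →* G) (k : ℕ) (m : ℕ → L) (x : ↥(cov k m)) :
    covHom τ k m x = τ x.1 := rfl

theorem covHom_surj (τ : L →* G) (k : ℕ) (m : ℕ → L) (g : ℕ → G) (hτ : ∀ i, τ (m i) = g i)
    (hgen : Subgroup.closure {y | ∃ i < k, y = g i} = ⊤) : Function.Surjective (covHom τ k m) := by
  intro y
  have hm : (cov k m).map τ = ⊤ := by
    unfold cov
    rw [map_closure_eq τ k m g hτ, hgen]
  have : y ∈ (cov k m).map τ := by rw [hm]; trivial
  obtain ⟨x, hx, rfl⟩ := this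
  exact ⟨⟨x, hx⟩, rfl⟩

theorem card_cov [Finite L] (τ : L →* G) (k : ℕ) (m : ℕ → L) (g : ℕ → G) (hτ : ∀ i, τ (m i) = g i)
    (hgen : Subgroup.closure {y | ∃ i < k, y = g i} = ⊤) :
    Nat.card (cov k m) = Nat.card (covHom τ k m).ker * Nat.card G := by
  have h1 := Subgroup.card_mul_index (covHom τ k m).ker
  rw [Subgroup.index_ker, MonoidHom.range_eq_top.2 (covHom_surj τ k m g hτ hgen),
    Subgroup.card_top] at h1
  exact h1.symm

/-- an explicit perfect central extension whose kernel is generated by the value of a word -/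
theorem model_stem [Finite L] [Finite G] (τ : L →* G) (k : ℕ) (m : ℕ → L) (g : ℕ → G)
    (hτ : ∀ i, τ (m i) = g i)
    (hgen : Subgroup.closure {y | ∃ i < k, y = g i} = ⊤) (c : ℕ)
    (hcard : Nat.card (cov k m) ≤ c * Nat.card G)
    (wz : Word) (hwz : ∀ l ∈ wz, l < 2 * k)
    (hzker : τ (ev m wz) = 1) (hzord : orderOf (ev m wz) = c)
    (hzcomm : ∀ i < k, m i * ev m wz = ev m wz * m i)
    (hperf : ∀ i < k, ∃ (W : Word) (n : ℕ), (∀ l ∈ W, l < 2 * k) ∧ m i = ⁅ev m W, m i⁆ ^ n) :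
    Cfsg.IsStemExtension (covHom τ k m) ∧ Nat.card (covHom τ k m).ker = c ∧
      IsCyclic (covHom τ k m).ker ∧
      (∀ x ∈ cov k m, τ x = 1 → x ∈ Subgroup.zpowers (ev m wz)) ∧
      Nat.card (cov k m) = c * Nat.card G := by
  have hmem : ∀ i < k, m i ∈ cov k m := fun i hi => Subgroup.subset_closure ⟨i, hi, rfl⟩
  have hzmem : ev m wz ∈ cov k m := ev_mem_of_letters m (cov k m) k hmem wz hwz
  set z : ↥(cov k m) := ⟨ev m wz, hzmem⟩ with hz
  have hzk : z ∈ (covHom τ k m).ker := by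
    rw [MonoidHom.mem_ker, covHom_apply]
    exact hzker
  have hzo : orderOf z = c := by
    rw [← hzord, ← Subgroup.orderOf_coe z]
  have hcov := card_cov τ k m g hτ hgen
  have hGpos : 0 < Nat.card G := Nat.card_pos
  have hkle : Nat.card (covHom τ k m).ker ≤ c := by
    rw [hcov] at hcard
    exact Nat.le_of_mul_le_mul_right hcard hGpos
  have hzp : Subgroup.zpowers z ≤ (covHom τ k m).ker := by
    rw [Subgroup.zpowers_le]
    exact hzk
  have hcz : Nat.card (Subgroup.zpowers z) = c := by rw [Nat.card_zpowers, hzo]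
  have hkc : Nat.card (covHom τ k m).ker = c := by
    apply le_antisymm hkle
    rw [← hcz]
    exact Subgroup.card_le_of_le hzp
  have hkeq : Subgroup.zpowers z = (covHom τ k m).ker := by
    apply Subgroup.eq_of_le_of_card_ge hzp
    rw [hcz, hkc]
  -- centrality
  have hcent : cov k m ≤ Subgroup.centralizer {ev m wz} := by
    unfold cov
    rw [Subgroup.closure_le]
    rintro x ⟨i, hi, rfl⟩
    rw [SetLike.mem_coe, Subgroup.mem_centralizer_iff]
    intro h hh
    rw [Set.mem_singleton_iff] at hh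
    rw [hh]
    exact (hzcomm i hi).symm
  have hzc : z ∈ Subgroup.center ↥(cov k m) := by
    rw [Subgroup.mem_center_iff]
    intro y
    apply Subtype.ext
    rw [Subgroup.coe_mul, Subgroup.coe_mul]
    have := hcent y.2
    rw [Subgroup.mem_centralizer_iff] at this
    exact (this _ rfl).symm
  -- perfectness
  have hperf' : cov k m ≤ ⁅cov k m, cov k m⁆ := by
    have hle : Subgroup.closure {y | ∃ i < k, y = m i} ≤ ⁅cov k m, cov k m⁆ := by
      rw [Subgroup.closure_le]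
      rintro x ⟨i, hi, rfl⟩
      obtain ⟨W, n, hW, hWn⟩ := hperf i hi
      rw [SetLike.mem_coe, hWn]
      apply Subgroup.pow_mem
      exact Subgroup.commutator_mem_commutator
        (ev_mem_of_letters m (cov k m) k hmem W hW) (hmem i hi)
    exact hle
  have hcomm_top : ∀ x : ↥(cov k m), x ∈ commutator ↥(cov k m) := by
    intro x
    have hx : x.1 ∈ ⁅cov k m, cov k m⁆ := hperf' x.2
    rw [← Subgroup.map_subtype_commutator] at hx
    obtain ⟨y, hy, hyx⟩ := hx
    have : y = x := Subtype.ext hyx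
    rw [← this]
    exact hy
  refine ⟨⟨covHom_surj τ k m g hτ hgen, ?_, ?_⟩, hkc, ?_, ?_, ?_⟩
  · rw [← hkeq, Subgroup.zpowers_le]
    exact hzc
  · intro x _
    exact hcomm_top x
  · have hzo' : orderOf (⟨z, hzk⟩ : (covHom τ k m).ker) = Nat.card (covHom τ k m).ker := by
      rw [hkc, ← hzo, ← Subgroup.orderOf_coe (⟨z, hzk⟩ : (covHom τ k m).ker)]
    exact isCyclic_of_orderOf_eq_card _ hzo'
  · intro x hx hτx
    have hxk : (⟨x, hx⟩ : ↥(cov k m)) ∈ (covHom τ k m).ker := by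
      rw [MonoidHom.mem_ker, covHom_apply]
      exact hτx
    rw [← hkeq] at hxk
    obtain ⟨j, hj⟩ := Subgroup.mem_zpowers_iff.1 hxk
    rw [Subgroup.mem_zpowers_iff]
    refine ⟨j, ?_⟩
    have := congrArg Subtype.val hj
    rw [Subgroup.coe_zpow] at this
    exact this
  · rw [hcov, hkc]

end Model

section FibreProduct

variable {G : Type*} {Γ₁ : Type*} {Γ₂ : Type*} [Group G] [Group Γ₁] [Group Γ₂]

/-- the fibre product of two homomorphisms to the same group -/
def fib (σ₁ : Γ₁ →* G) (σ₂ : Γ₂ →* G) : Subgroup (Γ₁ × Γ₂) :=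
  MonoidHom.eqLocus (σ₁.comp (MonoidHom.fst Γ₁ Γ₂)) (σ₂.comp (MonoidHom.snd Γ₁ Γ₂))

theorem mem_fib (σ₁ : Γ₁ →* G) (σ₂ : Γ₂ →* G) (x : Γ₁ × Γ₂) :
    x ∈ fib σ₁ σ₂ ↔ σ₁ x.1 = σ₂ x.2 := Iff.rfl

/-- the projection of the fibre product to the base -/
def fibHom (σ₁ : Γ₁ →* G) (σ₂ : Γ₂ →* G) : ↥(fib σ₁ σ₂) →* G :=
  (σ₁.comp (MonoidHom.fst Γ₁ Γ₂)).comp (fib σ₁ σ₂).subtype

theorem fibHom_apply (σ₁ : Γ₁ →* G) (σ₂ : Γ₂ →* G) (x : ↥(fib σ₁ σ₂)) :
    fibHom σ₁ σ₂ x = σ₁ x.1.1 := rfl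

theorem mem_ker_fibHom (σ₁ : Γ₁ →* G) (σ₂ : Γ₂ →* G) (x : ↥(fib σ₁ σ₂)) :
    x ∈ (fibHom σ₁ σ₂).ker ↔ x.1.1 ∈ σ₁.ker ∧ x.1.2 ∈ σ₂.ker := by
  rw [MonoidHom.mem_ker, fibHom_apply, MonoidHom.mem_ker, MonoidHom.mem_ker]
  have hx : σ₁ x.1.1 = σ₂ x.1.2 := x.2
  constructor
  · intro h
    exact ⟨h, by rw [← hx, h]⟩
  · intro h
    exact h.1

/-- the kernel of the fibre product is the product of the kernels -/
def kerFibEquiv (σ₁ : Γ₁ →* G) (σ₂ : Γ₂ →* G) :
    (fibHom σ₁ σ₂).ker ≃* σ₁.ker × σ₂.ker where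
  toFun x := (⟨x.1.1.1, ((mem_ker_fibHom σ₁ σ₂ x.1).1 x.2).1⟩,
    ⟨x.1.1.2, ((mem_ker_fibHom σ₁ σ₂ x.1).1 x.2).2⟩)
  invFun y := ⟨⟨(y.1.1, y.2.1), by
      rw [mem_fib]
      show σ₁ y.1.1 = σ₂ y.2.1
      rw [MonoidHom.mem_ker.1 y.1.2, MonoidHom.mem_ker.1 y.2.2]⟩, by
      rw [mem_ker_fibHom]
      exact ⟨y.1.2, y.2.2⟩⟩
  left_inv x := rfl
  right_inv y := rfl
  map_mul' x y := rfl

/-- the fibre product of two stem extensions with kernels of coprime orders is a stem extension -/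
theorem stem_fib [Finite Γ₁] [Finite Γ₂] (σ₁ : Γ₁ →* G) (σ₂ : Γ₂ →* G)
    (h₁ : Cfsg.IsStemExtension σ₁)
    (h₂ : Cfsg.IsStemExtension σ₂) (hcop : (Nat.card σ₁.ker).Coprime (Nat.card σ₂.ker)) :
    Cfsg.IsStemExtension (fibHom σ₁ σ₂) := by
  obtain ⟨hs₁, hc₁, hm₁⟩ := h₁
  obtain ⟨hs₂, hc₂, hm₂⟩ := h₂
  set F := fib σ₁ σ₂ with hF
  have hpr1 : Function.Surjective ((MonoidHom.fst Γ₁ Γ₂).comp F.subtype) := by
    intro x
    obtain ⟨y, hy⟩ := hs₂ (σ₁ x)
    exact ⟨⟨(x, y), hy.symm⟩, rfl⟩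
  have hpr2 : Function.Surjective ((MonoidHom.snd Γ₁ Γ₂).comp F.subtype) := by
    intro y
    obtain ⟨x, hx⟩ := hs₁ (σ₂ y)
    exact ⟨⟨(x, y), hx⟩, rfl⟩
  refine ⟨?_, ?_, ?_⟩
  · intro g
    obtain ⟨x, hx⟩ := hs₁ g
    obtain ⟨y, hy⟩ := hs₂ g
    exact ⟨⟨(x, y), by rw [mem_fib]; show σ₁ x = σ₂ y; rw [hx, hy]⟩, hx⟩
  · intro x hx
    rw [mem_ker_fibHom] at hx
    rw [Subgroup.mem_center_iff]
    intro y
    apply Subtype.ext
    apply Prod.ext
    · exact Subgroup.mem_center_iff.1 (hc₁ hx.1) y.1.1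
    · exact Subgroup.mem_center_iff.1 (hc₂ hx.2) y.1.2
  · -- the kernel lies in the commutator subgroup
    set n₁ := Nat.card σ₁.ker with hn₁
    set n₂ := Nat.card σ₂.ker with hn₂
    have hpow₁ : ∀ z ∈ σ₁.ker, z ^ n₁ = 1 := by
      intro z hz
      have h := pow_card_eq_one' (G := σ₁.ker) (x := ⟨z, hz⟩)
      have h' := congrArg Subtype.val h
      rw [Subgroup.coe_pow, Subgroup.coe_one] at h'
      exact h'
    have hpow₂ : ∀ z ∈ σ₂.ker, z ^ n₂ = 1 := by
      intro z hz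
      have h := pow_card_eq_one' (G := σ₂.ker) (x := ⟨z, hz⟩)
      have h' := congrArg Subtype.val h
      rw [Subgroup.coe_pow, Subgroup.coe_one] at h'
      exact h'
    have hn₁pos : 0 < n₁ := Nat.card_pos
    have hn₂pos : 0 < n₂ := Nat.card_pos
    -- elements `(k, 1)`
    have hleft : ∀ k₁ ∈ σ₁.ker, ∀ hk : ((k₁, 1) : Γ₁ × Γ₂) ∈ F,
        (⟨(k₁, 1), hk⟩ : ↥F) ∈ commutator ↥F := by
      intro k₁ hk₁ hk
      have hmap : (commutator ↥F).map ((MonoidHom.fst Γ₁ Γ₂).comp F.subtype) = commutator Γ₁ := by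
        rw [commutator_def, Subgroup.map_commutator, commutator_def]
        have : (⊤ : Subgroup ↥F).map ((MonoidHom.fst Γ₁ Γ₂).comp F.subtype) = ⊤ := by
          rw [← MonoidHom.range_eq_map]
          exact MonoidHom.range_eq_top.2 hpr1
        rw [this]
      have hk' : k₁ ∈ (commutator ↥F).map ((MonoidHom.fst Γ₁ Γ₂).comp F.subtype) := by
        rw [hmap]
        exact hm₁ hk₁
      obtain ⟨f, hf, hfk⟩ := hk'
      have hf1 : f.1.1 = k₁ := hfk
      have hf2 : f.1.2 ∈ σ₂.ker := by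
        rw [MonoidHom.mem_ker]
        have : σ₁ f.1.1 = σ₂ f.1.2 := f.2
        rw [← this, hf1]
        exact MonoidHom.mem_ker.1 hk₁
      -- `f ^ n₂ = (k₁ ^ n₂, 1)`
      obtain ⟨u, hu⟩ : ∃ u : ℕ, n₂ * u ≡ 1 [MOD n₁] := by
        have hc : Nat.Coprime n₂ n₁ := hcop.symm
        by_cases h1 : n₁ = 1
        · exact ⟨0, by rw [h1]; exact Nat.modEq_one⟩
        · obtain ⟨u, _, hu⟩ := Nat.exists_mul_mod_eq_one_of_coprime hc (by omega)
          refine ⟨u, ?_⟩
          rw [Nat.ModEq, hu, Nat.mod_eq_of_lt (by omega)]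
      have hpow : (f ^ (n₂ * u) : ↥F) = ⟨(k₁, 1), hk⟩ := by
        apply Subtype.ext
        rw [Subgroup.coe_pow]
        apply Prod.ext
        · rw [Prod.pow_fst, hf1]
          show k₁ ^ (n₂ * u) = k₁
          rw [pow_eq_pow_mod (n₂ * u) (hpow₁ k₁ hk₁)]
          have h2 : n₂ * u % n₁ = 1 % n₁ := hu
          rw [h2]
          by_cases h1 : n₁ = 1
          · have := hpow₁ k₁ hk₁
            rw [h1, pow_one] at this
            rw [this, one_pow]
          · rw [Nat.mod_eq_of_lt (by omega), pow_one]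
        · rw [Prod.pow_snd]
          show f.1.2 ^ (n₂ * u) = 1
          rw [pow_mul, hpow₂ _ hf2, one_pow]
      rw [← hpow]
      exact Subgroup.pow_mem _ hf _
    have hright : ∀ k₂ ∈ σ₂.ker, ∀ hk : ((1, k₂) : Γ₁ × Γ₂) ∈ F,
        (⟨(1, k₂), hk⟩ : ↥F) ∈ commutator ↥F := by
      intro k₂ hk₂ hk
      have hmap : (commutator ↥F).map ((MonoidHom.snd Γ₁ Γ₂).comp F.subtype) = commutator Γ₂ := by
        rw [commutator_def, Subgroup.map_commutator, commutator_def]
        have : (⊤ : Subgroup ↥F).map ((MonoidHom.snd Γ₁ Γ₂).comp F.subtype) = ⊤ := by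
          rw [← MonoidHom.range_eq_map]
          exact MonoidHom.range_eq_top.2 hpr2
        rw [this]
      have hk' : k₂ ∈ (commutator ↥F).map ((MonoidHom.snd Γ₁ Γ₂).comp F.subtype) := by
        rw [hmap]
        exact hm₂ hk₂
      obtain ⟨f, hf, hfk⟩ := hk'
      have hf2 : f.1.2 = k₂ := hfk
      have hf1 : f.1.1 ∈ σ₁.ker := by
        rw [MonoidHom.mem_ker]
        have : σ₁ f.1.1 = σ₂ f.1.2 := f.2
        rw [this, hf2]
        exact MonoidHom.mem_ker.1 hk₂
      obtain ⟨u, hu⟩ : ∃ u : ℕ, n₁ * u ≡ 1 [MOD n₂] := by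
        have hc : Nat.Coprime n₁ n₂ := hcop
        by_cases h1 : n₂ = 1
        · exact ⟨0, by rw [h1]; exact Nat.modEq_one⟩
        · obtain ⟨u, _, hu⟩ := Nat.exists_mul_mod_eq_one_of_coprime hc (by omega)
          refine ⟨u, ?_⟩
          rw [Nat.ModEq, hu, Nat.mod_eq_of_lt (by omega)]
      have hpow : (f ^ (n₁ * u) : ↥F) = ⟨(1, k₂), hk⟩ := by
        apply Subtype.ext
        rw [Subgroup.coe_pow]
        apply Prod.ext
        · rw [Prod.pow_fst]
          show f.1.1 ^ (n₁ * u) = 1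
          rw [pow_mul, hpow₁ _ hf1, one_pow]
        · rw [Prod.pow_snd, hf2]
          show k₂ ^ (n₁ * u) = k₂
          rw [pow_eq_pow_mod (n₁ * u) (hpow₂ k₂ hk₂)]
          have h2 : n₁ * u % n₂ = 1 % n₂ := hu
          rw [h2]
          by_cases h1 : n₂ = 1
          · have := hpow₂ k₂ hk₂
            rw [h1, pow_one] at this
            rw [this, one_pow]
          · rw [Nat.mod_eq_of_lt (by omega), pow_one]
      rw [← hpow]
      exact Subgroup.pow_mem _ hf _
    intro x hx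
    rw [mem_ker_fibHom] at hx
    have hk1 : ((x.1.1, 1) : Γ₁ × Γ₂) ∈ F := by
      rw [hF, mem_fib]
      show σ₁ x.1.1 = σ₂ 1
      rw [MonoidHom.mem_ker.1 hx.1, map_one]
    have hk2 : ((1, x.1.2) : Γ₁ × Γ₂) ∈ F := by
      rw [hF, mem_fib]
      show σ₁ 1 = σ₂ x.1.2
      rw [MonoidHom.mem_ker.1 hx.2, map_one]
    have hx' : x = ⟨(x.1.1, 1), hk1⟩ * ⟨(1, x.1.2), hk2⟩ := by
      apply Subtype.ext
      rw [Subgroup.coe_mul]
      apply Prod.ext
      · show x.1.1 = x.1.1 * 1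
        rw [mul_one]
      · show x.1.2 = 1 * x.1.2
        rw [one_mul]
    rw [hx']
    exact Subgroup.mul_mem _ (hleft _ hx.1 hk1) (hright _ hx.2 hk2)

end FibreProduct

section Assembly

/-- the quotient of a stem extension by the part of the kernel of order prime to `p` -/
theorem exists_pgroup_quotient {G : Type u} [Group G] (p : ℕ) [hp : Fact p.Prime]
    {Γ : Type u} [Group Γ] [Finite Γ] (σ : Γ →* G) (hσ : Cfsg.IsStemExtension σ) :
    ∃ (Γ' : Type u) (_ : Group Γ') (_ : Finite Γ') (σ' : Γ' →* G) (π : Γ →* Γ'),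
      Cfsg.IsStemExtension σ' ∧ (∀ z ∈ σ'.ker, ∃ n : ℕ, z ^ (p ^ n) = 1) ∧
      (∀ x, σ' (π x) = σ x) ∧
      (∀ z ∈ σ.ker, π z = 1 → ∃ m : ℕ, m.Coprime p ∧ z ^ m = 1) := by
  obtain ⟨hsurj, hcen, hcomm⟩ := hσ
  set N := primeToPart σ p hcen with hN
  have hNle : N ≤ σ.ker := primeToPart_le σ p hcen
  let σ' : Γ ⧸ N →* G := QuotientGroup.lift N σ (fun x hx => MonoidHom.mem_ker.1 (hNle hx))
  have hσ'mk : ∀ x : Γ, σ' (QuotientGroup.mk x) = σ x := fun x => rfl
  refine ⟨Γ ⧸ N, inferInstance, inferInstance, σ', QuotientGroup.mk' N, ⟨?_, ?_, ?_⟩, ?_, ?_, ?_⟩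
  · intro g
    obtain ⟨x, hx⟩ := hsurj g
    exact ⟨QuotientGroup.mk x, by rw [hσ'mk, hx]⟩
  · intro xb hxb
    induction xb using QuotientGroup.induction_on with
    | H x =>
      rw [MonoidHom.mem_ker, hσ'mk] at hxb
      have hxc := Subgroup.mem_center_iff.1 (hcen (MonoidHom.mem_ker.2 hxb))
      rw [Subgroup.mem_center_iff]
      intro yb
      induction yb using QuotientGroup.induction_on with
      | H y =>
        rw [← QuotientGroup.mk_mul, ← QuotientGroup.mk_mul, hxc y]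
  · intro xb hxb
    induction xb using QuotientGroup.induction_on with
    | H x =>
      rw [MonoidHom.mem_ker, hσ'mk] at hxb
      have hx' : x ∈ commutator Γ := hcomm (MonoidHom.mem_ker.2 hxb)
      exact map_mem_commutator (QuotientGroup.mk' N) hx'
  · intro zb hzb
    induction zb using QuotientGroup.induction_on with
    | H x =>
      rw [MonoidHom.mem_ker, hσ'mk] at hzb
      have hxk : x ∈ σ.ker := MonoidHom.mem_ker.2 hzb
      have hpos : orderOf x ≠ 0 := (orderOf_pos x).ne'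
      obtain ⟨a, m, hm, hxm⟩ := Nat.exists_eq_pow_mul_and_not_dvd hpos p hp.out.ne_one
      refine ⟨a, ?_⟩
      rw [← QuotientGroup.mk_pow, QuotientGroup.eq_one_iff]
      refine ⟨pow_mem hxk _, m, ?_, ?_⟩
      · exact (Nat.Coprime.symm ((Nat.Prime.coprime_iff_not_dvd hp.out).2 hm))
      · rw [← pow_mul, ← hxm, pow_orderOf_eq_one]
  · intro x
    rfl
  · intro z _ hz1
    have hz1' : (QuotientGroup.mk z : Γ ⧸ N) = 1 := hz1
    rw [QuotientGroup.eq_one_iff] at hz1'
    obtain ⟨_, m, hm, hzm⟩ := hz1'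
    exact ⟨m, hm, hzm⟩

/-- a cyclic group of exponent dividing `n` is a quotient of the cyclic group of order `n` -/
theorem exists_surj_of_cyclic {K : Type*} [Group K] [IsCyclic K] (n : ℕ)
    (hexp : ∀ x : K, x ^ n = 1) :
    ∃ π : Multiplicative (ZMod n) →* K, Function.Surjective π := by
  obtain ⟨x, hx⟩ := IsCyclic.exists_generator (α := K)
  let f : ℤ →+ Additive K := zmultiplesHom (Additive K) (Additive.ofMul x)
  have hf : f n = 0 := by
    show (n : ℤ) • Additive.ofMul x = 0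
    rw [natCast_zsmul, ← ofMul_pow, hexp x]
    rfl
  let φ : ZMod n →+ Additive K := ZMod.lift n ⟨f, hf⟩
  refine ⟨AddMonoidHom.toMultiplicativeLeft φ, ?_⟩
  intro y
  obtain ⟨j, hj⟩ := Subgroup.mem_zpowers_iff.1 (hx y)
  refine ⟨Multiplicative.ofAdd ((j : ℤ) : ZMod n), ?_⟩
  show Additive.toMul (φ ((j : ℤ) : ZMod n)) = y
  rw [ZMod.lift_coe]
  show Additive.toMul ((j : ℤ) • Additive.ofMul x) = y
  rw [← ofMul_zpow, toMul_ofMul, hj]

/-- from the local information at two primes to the whole kernel -/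
theorem exists_surj_of_local {G : Type u} [Group G] {Γ : Type u} [Group Γ] [Finite Γ]
    (σ : Γ →* G) (hσ : Cfsg.IsStemExtension σ) (p q : ℕ) [hp : Fact p.Prime] [hq : Fact q.Prime]
    (hpq : p ≠ q) (a b : ℕ)
    (hother : ∀ z ∈ σ.ker, ∃ i j : ℕ, z ^ (p ^ i * q ^ j) = 1)
    (hP : ∀ (Γ' : Type u) [Group Γ'] [Finite Γ'] (σ' : Γ' →* G), Cfsg.IsStemExtension σ' →
      (∀ z ∈ σ'.ker, ∃ n : ℕ, z ^ (p ^ n) = 1) → IsCyclic σ'.ker ∧ Nat.card σ'.ker ∣ p ^ a)
    (hQ : ∀ (Γ' : Type u) [Group Γ'] [Finite Γ'] (σ' : Γ' →* G), Cfsg.IsStemExtension σ' →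
      (∀ z ∈ σ'.ker, ∃ n : ℕ, z ^ (q ^ n) = 1) → IsCyclic σ'.ker ∧ Nat.card σ'.ker ∣ q ^ b) :
    ∃ π : Multiplicative (ZMod (p ^ a * q ^ b)) →* σ.ker, Function.Surjective π := by
  obtain ⟨Γp, _, _, σp, πp, hσp, hpkp, hπp, hkp⟩ := exists_pgroup_quotient p σ hσ
  obtain ⟨Γq, _, _, σq, πq, hσq, hpkq, hπq, hkq⟩ := exists_pgroup_quotient q σ hσ
  obtain ⟨hcycp, hcardp⟩ := hP Γp σp hσp hpkp
  obtain ⟨hcycq, hcardq⟩ := hQ Γq σq hσq hpkq
  let φp : σ.ker →* σp.ker := (πp.comp σ.ker.subtype).codRestrict σp.ker (fun x => by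
    rw [MonoidHom.mem_ker]
    show σp (πp x.1) = 1
    rw [hπp]
    exact MonoidHom.mem_ker.1 x.2)
  let φq : σ.ker →* σq.ker := (πq.comp σ.ker.subtype).codRestrict σq.ker (fun x => by
    rw [MonoidHom.mem_ker]
    show σq (πq x.1) = 1
    rw [hπq]
    exact MonoidHom.mem_ker.1 x.2)
  let φ : σ.ker →* σp.ker × σq.ker := φp.prod φq
  have hcopr : (p ^ a).Coprime (q ^ b) :=
    Nat.Coprime.pow _ _ ((Nat.coprime_primes hp.out hq.out).2 hpq)
  have hφ : Function.Injective φ := by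
    rw [injective_iff_map_eq_one]
    intro x hx
    have h1 : πp x.1 = 1 := by
      have h' : ((φ x).1 : Γp) = 1 := by rw [hx]; rfl
      exact h'
    have h2 : πq x.1 = 1 := by
      have h' : ((φ x).2 : Γq) = 1 := by rw [hx]; rfl
      exact h'
    obtain ⟨m, hm, hxm⟩ := hkp x.1 x.2 h1
    obtain ⟨m', hm', hxm'⟩ := hkq x.1 x.2 h2
    obtain ⟨i, j, hij⟩ := hother x.1 x.2
    have hd := orderOf_dvd_of_pow_eq_one hij
    have hd1 := orderOf_dvd_of_pow_eq_one hxm
    have hd2 := orderOf_dvd_of_pow_eq_one hxm'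
    have hc1 : (orderOf x.1).Coprime (p ^ i) :=
      Nat.Coprime.pow_right i (Nat.Coprime.coprime_dvd_left hd1 hm)
    have hc2 : (orderOf x.1).Coprime (q ^ j) :=
      Nat.Coprime.pow_right j (Nat.Coprime.coprime_dvd_left hd2 hm')
    have hd3 : orderOf x.1 ∣ q ^ j := hc1.dvd_of_dvd_mul_left hd
    have h1' : orderOf x.1 = 1 := hc2.eq_one_of_dvd hd3
    apply Subtype.ext
    exact orderOf_eq_one_iff.1 h1'
  have hcyc : IsCyclic (σp.ker × σq.ker) := by
    rw [Group.isCyclic_prod_iff]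
    exact ⟨hcycp, hcycq, Nat.Coprime.coprime_dvd_left hcardp
      (Nat.Coprime.coprime_dvd_right hcardq hcopr)⟩
  have hcycK : IsCyclic σ.ker := isCyclic_of_injective φ hφ
  apply exists_surj_of_cyclic
  intro x
  apply hφ
  rw [map_pow, map_one]
  apply Prod.ext
  · show (φp x) ^ (p ^ a * q ^ b) = 1
    have h := pow_card_eq_one' (G := σp.ker) (x := φp x)
    obtain ⟨c, hc⟩ := hcardp
    rw [pow_mul, hc, pow_mul, h, one_pow, one_pow]
  · show (φq x) ^ (p ^ a * q ^ b) = 1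
    have h := pow_card_eq_one' (G := σq.ker) (x := φq x)
    obtain ⟨c, hc⟩ := hcardq
    rw [mul_comm, pow_mul, hc, pow_mul, h, one_pow, one_pow]

end Assembly

section Words

variable {L : Type*} [Group L]

theorem ev_flatten_replicate (t : ℕ → L) (w : Word) (n : ℕ) :
    ev t (List.replicate n w).flatten = ev t w ^ n := by
  induction n with
  | zero => simp
  | succ n ih => rw [List.replicate_succ, List.flatten_cons, ev_append, ih, pow_succ']

/-- the relator `x_i⁻¹ [W, x_i] ^ n` -/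
def perfWord (W : Word) (i n : ℕ) : Word :=
  (2 * i + 1) :: (List.replicate n (W ++ (2 * i) :: (winv W ++ [2 * i + 1]))).flatten

theorem ev_perfWord (t : ℕ → L) (W : Word) (i n : ℕ) :
    ev t (perfWord W i n) = (t i)⁻¹ * ⁅ev t W, t i⁆ ^ n := by
  unfold perfWord
  rw [ev_cons, ev_flatten_replicate, lv_two_mul_add_one, ev_append, ev_cons, ev_append, ev_winv,
    ev_cons, ev_nil, mul_one, lv_two_mul, lv_two_mul_add_one, commutatorElement_def]
  simp only [mul_assoc]

theorem eq_of_perfWord (t : ℕ → L) (W : Word) (i n : ℕ) (h : ev t (perfWord W i n) = 1) :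
    t i = ⁅ev t W, t i⁆ ^ n := by
  rw [ev_perfWord] at h
  exact (inv_mul_eq_one.1 h)

/-- membership in a list through its slices of length `s` -/
theorem mem_slices {α : Type*} (l : List α) (s n : ℕ) (hs : 0 < s) (hn : l.length ≤ s * n)
    (r : α) (hr : r ∈ l) : ∃ i < n, r ∈ (l.drop (s * i)).take s := by
  obtain ⟨j, hj, rfl⟩ := List.mem_iff_getElem.1 hr
  refine ⟨j / s, ?_, ?_⟩
  · apply Nat.div_lt_of_lt_mul
    exact lt_of_lt_of_le hj hn
  · rw [List.mem_iff_getElem]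
    have h1 : s * (j / s) ≤ j := Nat.mul_div_le j s
    have h2 : j - s * (j / s) < s := by
      have := Nat.mod_lt j hs
      rw [Nat.mod_def] at this
      exact this
    refine ⟨j - s * (j / s), ?_, ?_⟩
    · rw [List.length_take, List.length_drop]
      omega
    · rw [List.getElem_take, List.getElem_drop]
      congr 1
      omega

end Words

end Cfsg.Agent.Lib.Helper89.StemModel
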