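import Mathlib
import Cfsg.Agent.Lib.Helper89.TableChain2
import Cfsg.Agent.Lib.Helper89.CosetCert

/-!
# Permutations of `Fin N` given by tables

`Tab` packages tables of `2 * k` letters (`2 * i` a generator, `2 * i + 1` its inverse) acting on the
indices `< N`.  It gives permutations `T.gm i` of `Fin N`, and `Bool` tests for relators.
-/

set_option autoImplicit false

namespace Cfsg.Agent.Lib.Helper89.PermTab

open Cfsg.Agent.Lib.Helper89.TableChain2 Cfsg.Agent.Lib.Helper89.CosetCert

/-- tables of `2 * k` letters on `N` points -/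
structure Tab where
  N : ℕ
  k : ℕ
  tab : ℕ → ℕ → ℕ
  hN : 0 < N
  tab_lt : ∀ l < 2 * k, ∀ x < N, tab l x < N
  tab_inv : ∀ l < 2 * k, ∀ x < N, tab (linv l) (tab l x) = x

variable (T : Tab)

theorem linv_linv (l : ℕ) : linv (linv l) = l := by
  unfold linv
  split_ifs <;> omega

namespace Tab

/-- the point of index `x` -/
def pt (x : ℕ) : Fin T.N := ⟨x % T.N, Nat.mod_lt _ T.hN⟩

theorem pt_val (x : ℕ) (hx : x < T.N) : (T.pt x).1 = x := Nat.mod_eq_of_lt hx

theorem pt_self (x : Fin T.N) : T.pt x.1 = x := Fin.ext (Nat.mod_eq_of_lt x.2)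

/-- the map of a letter -/
def fn (l : ℕ) (x : Fin T.N) : Fin T.N := T.pt (T.tab l x.1)

theorem fn_fn (l : ℕ) (hl : l < 2 * T.k) (x : Fin T.N) : T.fn (linv l) (T.fn l x) = x := by
  apply Fin.ext
  show (T.tab (linv l) ((T.tab l x.1) % T.N)) % T.N = x.1
  rw [Nat.mod_eq_of_lt (T.tab_lt l hl x.1 x.2), T.tab_inv l hl x.1 x.2, Nat.mod_eq_of_lt x.2]

/-- the permutation of a letter -/
def perm (l : ℕ) : Equiv.Perm (Fin T.N) :=
  if hl : l < 2 * T.k then
    { toFun := T.fn l
      invFun := T.fn (linv l)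
      left_inv := T.fn_fn l hl
      right_inv := fun x => by
        have h := T.fn_fn (linv l) (linv_lt_two_mul hl) x
        rwa [linv_linv] at h }
  else 1

theorem perm_apply (l : ℕ) (hl : l < 2 * T.k) (x : ℕ) (hx : x < T.N) :
    T.perm l (T.pt x) = T.pt (T.tab l x) := by
  rw [perm, dif_pos hl]
  show T.fn l (T.pt x) = _
  unfold fn
  rw [T.pt_val x hx]

theorem perm_symm_apply (l : ℕ) (hl : l < 2 * T.k) (x : ℕ) (hx : x < T.N) :
    (T.perm l)⁻¹ (T.pt x) = T.pt (T.tab (linv l) x) := by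
  rw [perm, dif_pos hl]
  show T.fn (linv l) (T.pt x) = _
  unfold fn
  rw [T.pt_val x hx]

/-- the generators -/
def gm (i : ℕ) : Equiv.Perm (Fin T.N) := if i < T.k then T.perm (2 * i) else 1

theorem gm_eq (i : ℕ) (h : i < T.k) : T.gm i = T.perm (2 * i) := by
  rw [gm, if_pos h]

theorem lv_smul : ∀ l < 2 * T.k, ∀ x < T.N, lv T.gm l • T.pt x = T.pt (T.tab l x) := by
  intro l hl x hx
  unfold lv
  by_cases he : l % 2 = 0
  · rw [if_pos he]
    show (T.gm (l / 2)) (T.pt x) = _
    rw [T.gm_eq _ (by omega), show 2 * (l / 2) = l by omega, T.perm_apply l hl x hx]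
  · rw [if_neg he]
    show ((T.gm (l / 2))⁻¹) (T.pt x) = _
    rw [T.gm_eq _ (by omega), T.perm_symm_apply _ (by omega) x hx]
    have : linv (2 * (l / 2)) = l := by
      unfold linv
      rw [if_pos (by omega)]
      omega
    rw [this]

/-- the table-driven action data -/
def D : Data (Equiv.Perm (Fin T.N)) (Fin T.N) where
  m := 2 * T.k
  N := T.N
  gen := lv T.gm
  pt := T.pt
  tab := T.tab
  chk := List.range T.N
  gen_smul := T.lv_smul
  tab_lt := T.tab_lt
  chk_lt := fun x hx => List.mem_range.1 hx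
  faithful := by
    intro x y h
    apply Equiv.ext
    intro p
    have := h p.1 (List.mem_range.2 p.2)
    rw [T.pt_self] at this
    exact this
  pt_inj := by
    intro x hx y hy h
    have := congrArg Fin.val h
    rwa [T.pt_val x hx, T.pt_val y hy] at this

theorem D_ev (w : List ℕ) : T.D.ev w = ev T.gm w := rfl

/-- `Bool` test that all words of a list act trivially -/
def relsOK (rs : List Word) : Bool :=
  rs.all (fun r => r.all (fun c => decide (c < 2 * T.k)) &&
    (List.range T.N).all (fun x => act T.tab r x == x))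

theorem relsOK_valid (rs : List Word) (h : T.relsOK rs = true) : ∀ r ∈ rs, ev T.gm r = 1 := by
  intro r hr
  unfold relsOK at h
  rw [List.all_eq_true] at h
  have h1 := h r hr
  rw [Bool.and_eq_true, List.all_eq_true, List.all_eq_true] at h1
  rw [← D_ev, ← T.D.ev_nil]
  apply T.D.ev_eq_of_act (fun c hc => of_decide_eq_true (h1.1 c hc)) (fun c hc => by simp at hc)
  intro x hx
  rw [act_nil]
  exact beq_iff_eq.1 (h1.2 x hx)

theorem ev_ne_one (w : List ℕ) (hw : ∀ c ∈ w, c < 2 * T.k) (x : ℕ) (hx : x < T.N)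
    (h : act T.tab w x ≠ x) : ev T.gm w ≠ 1 := by
  intro h1
  have h2 := T.D.ev_smul w hw x hx
  rw [D_ev, h1, one_smul] at h2
  exact h (T.D.pt_inj _ (T.D.act_lt w hw x hx) _ hx h2.symm)

theorem gm_one (i : ℕ) (h : ¬ i < T.k) : T.gm i = 1 := by
  rw [gm, if_neg h]

end Tab

/-- `Bool` test for the table conditions -/
def tabOK (N k : ℕ) (tab : ℕ → ℕ → ℕ) : Bool :=
  (List.range (2 * k)).all (fun l => (List.range N).all (fun x =>
    decide (tab l x < N) && (tab (linv l) (tab l x) == x)))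

theorem tabOK_lt {N k : ℕ} {tab : ℕ → ℕ → ℕ} (h : tabOK N k tab = true) :
    ∀ l < 2 * k, ∀ x < N, tab l x < N := by
  intro l hl x hx
  unfold tabOK at h
  rw [List.all_eq_true] at h
  have h1 := h l (List.mem_range.2 hl)
  rw [List.all_eq_true] at h1
  have h2 := h1 x (List.mem_range.2 hx)
  rw [Bool.and_eq_true] at h2
  exact of_decide_eq_true h2.1

theorem tabOK_inv {N k : ℕ} {tab : ℕ → ℕ → ℕ} (h : tabOK N k tab = true) :
    ∀ l < 2 * k, ∀ x < N, tab (linv l) (tab l x) = x := by
  intro l hl x hx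
  unfold tabOK at h
  rw [List.all_eq_true] at h
  have h1 := h l (List.mem_range.2 hl)
  rw [List.all_eq_true] at h1
  have h2 := h1 x (List.mem_range.2 hx)
  rw [Bool.and_eq_true] at h2
  exact beq_iff_eq.1 h2.2

end Cfsg.Agent.Lib.Helper89.PermTab
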